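import Cfsg.Agent.Lib.OstromWagner.NoPair

/-!
An additive set of endomorphisms of a finite abelian group containing `1` and closed under inversion of
non-zero members is a commutative field (finite alternative division rings are fields, in coordinate form).
-/

set_option autoImplicit false

namespace Cfsg.Agent.OstromWagner

variable {W : Type*} [AddCommGroup W] [Finite W] [Nontrivial W] {S : AddSubgroup (AddMonoid.End W)}

theorem MaxField.range_eq {K : Type*} [Field K] [Finite K] {ι : K →+* AddMonoid.End W} (h : MaxField S ι)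
    {N : AddMonoid.End W} (hN : N ∈ S) : N ∈ ι.range := by
  classical
  by_contra hout
  have : Fintype (RingAut K) := Fintype.ofFinite _
  obtain ⟨σ, hσ1, hσ⟩ : ∃ σ : RingAut K, σ ≠ 1 ∧ proj ι σ N ≠ 0 := by
    by_contra! h'
    apply hout
    obtain ⟨k, hk⟩ := h.proj_one_mem_range hN
    have h1 := sum_proj (ι := ι) N
    rw [Finset.sum_eq_single (1 : RingAut K) (fun σ _ hσ => h' σ hσ) (by simp)] at h1
    exact ⟨k, hk.trans h1⟩
  rcases eq_or_ne (σ * σ) 1 with h2 | h2
  · exact hσ (h.eq_zero_of_tw h2 hσ1 (h.proj_mem hN h2) (tw_proj σ N))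
  · exact (Pair.mk h (tw_proj σ N) (tw_proj σ⁻¹ N) (h.proj_add_mem hN σ) hσ h2 :
      Pair S ι σ (proj ι σ N) (proj ι σ⁻¹ N)).false

theorem InvSet.mul_mem_comm (hS : InvSet S) {a b : AddMonoid.End W} (ha : a ∈ S) (hb : b ∈ S) :
    a * b ∈ S ∧ a * b = b * a := by
  classical
  have : Finite (AddMonoid.End W) :=
    Finite.of_injective (fun f : AddMonoid.End W => (f : W → W)) DFunLike.coe_injective
  have : Finite (Subring (AddMonoid.End W)) :=
    Finite.of_injective (fun R : Subring (AddMonoid.End W) => (R : Set (AddMonoid.End W))) SetLike.coe_injective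
  let 𝒦 : Set (Subring (AddMonoid.End W)) :=
    {R | (∀ x ∈ R, x ∈ S) ∧ ∀ x ∈ R, ∀ y ∈ R, x * y = y * x}
  have hne : 𝒦.Nonempty := by
    refine ⟨(Int.castRingHom _).range, fun x hx => ?_, fun x hx y hy => ?_⟩
    · obtain ⟨n, rfl⟩ := hx
      simpa using S.zsmul_mem hS.one_mem n
    · obtain ⟨n, rfl⟩ := hx
      exact (Int.cast_commute n y).eq
  obtain ⟨R, hR⟩ := 𝒦.toFinite.exists_maximal hne
  obtain ⟨hRS, hRc⟩ := hR.1
  let _ : CommRing R := { R.toRing with mul_comm := fun x y => Subtype.ext (hRc _ x.2 _ y.2) }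
  have : Nontrivial R := inferInstance
  have : NoZeroDivisors R := ⟨fun {x y} hxy => by
    by_contra! hne
    obtain ⟨x', -, -, hx'⟩ := hS.inv_mem x (hRS _ x.2) fun e => hne.1 (Subtype.ext e)
    apply hne.2
    refine Subtype.ext ?_
    rw [← one_mul (y : AddMonoid.End W), ← hx', mul_assoc, ← Subring.coe_mul, hxy, ZeroMemClass.coe_zero,
      mul_zero]⟩
  have : IsDomain R := NoZeroDivisors.to_isDomain R
  let _ : Fintype R := Fintype.ofFinite R
  let _ : Field R := Fintype.fieldOfDomain R
  have hmax : MaxField S R.subtype := by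
    refine ⟨hS, fun k => hRS _ k.2, fun N hN hcomm => ?_⟩
    let R' := Subring.closure ((R : Set (AddMonoid.End W)) ∪ {N})
    have hc' : ∀ x ∈ (R : Set (AddMonoid.End W)) ∪ {N}, ∀ y ∈ (R : Set (AddMonoid.End W)) ∪ {N},
        x * y = y * x := by
      rintro x (hx | rfl) y (hy | rfl)
      · exact hRc x hx y hy
      · exact hcomm ⟨x, hx⟩
      · exact (hcomm ⟨y, hy⟩).symm
      · rfl
    have hsub : ∀ x ∈ (R : Set (AddMonoid.End W)) ∪ {N}, ∀ y ∈ R', x * y = y * x := by
      intro x hx y hy
      have : R' ≤ Subring.centralizer {x} :=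
        Subring.closure_le.2 fun z hz => Subring.mem_centralizer_iff.2 fun w hw => by
          rw [Set.mem_singleton_iff.1 hw]; exact hc' x hx z hz
      exact Subring.mem_centralizer_iff.1 (this hy) x rfl
    have hcomm' : ∀ x ∈ R', ∀ y ∈ R', x * y = y * x := by
      intro x hx y hy
      have : R' ≤ Subring.centralizer {y} :=
        Subring.closure_le.2 fun z hz => Subring.mem_centralizer_iff.2 fun w hw => by
          rw [Set.mem_singleton_iff.1 hw]; exact (hsub z hz y hy).symm
      exact (Subring.mem_centralizer_iff.1 (this hx) y rfl).symm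
    have hsq : ∀ (s : R) (i : ℕ), ((s * s : R) : AddMonoid.End W) * N ^ i ∈ S := by
      intro s i
      have hc : Commute (s : AddMonoid.End W) N := hcomm s
      rw [Subring.coe_mul, mul_assoc, (hc.pow_right i).eq, ← mul_assoc]
      exact hS.sandwich (hRS _ s.2) (hS.pow_mem hN i)
    have hmon : ∀ (r : R) (i : ℕ), (r : AddMonoid.End W) * N ^ i ∈ S := by
      intro r i
      by_cases h2 : (2 : R) = 0
      · have hch : ringChar R = 2 :=
          CharP.ringChar_of_prime_eq_zero Nat.prime_two (by simpa using h2)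
        obtain ⟨s, rfl⟩ := FiniteField.isSquare_of_char_two hch r
        exact hsq s i
      · rw [show r = (r + 1) / 2 * ((r + 1) / 2) - (r - 1) / 2 * ((r - 1) / 2) by field_simp; ring,
          AddSubgroupClass.coe_sub, sub_mul]
        exact S.sub_mem (hsq _ i) (hsq _ i)
    have hR' : R' ∈ 𝒦 := by
      refine ⟨fun x hx => ?_, hcomm'⟩
      obtain h := Subring.mem_closure_iff.1 hx
      refine (AddSubgroup.closure_le S).2 (fun y hy => ?_) h
      obtain ⟨r, i, rfl⟩ : ∃ (r : R) (i : ℕ), y = (r : AddMonoid.End W) * N ^ i := by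
        induction hy using Submonoid.closure_induction with
        | mem z hz =>
          rcases hz with hz | rfl
          · exact ⟨⟨z, hz⟩, 0, by simp⟩
          · exact ⟨1, 1, by simp⟩
        | one => exact ⟨1, 0, by simp⟩
        | mul u v _ _ hu hv =>
          obtain ⟨r, i, rfl⟩ := hu
          obtain ⟨t, j, rfl⟩ := hv
          refine ⟨r * t, i + j, ?_⟩
          have hc : Commute (t : AddMonoid.End W) N := hcomm t
          rw [Subring.coe_mul, pow_add, mul_assoc, ← mul_assoc (N ^ i), ← (hc.pow_right i).eq]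
          simp only [mul_assoc]
      exact hmon r i
    have hle : R' ≤ R := hR.2 hR' fun x hx => Subring.subset_closure (Or.inl hx)
    exact ⟨⟨N, hle (Subring.subset_closure (Or.inr rfl))⟩, rfl⟩
  obtain ⟨ka, hka⟩ := hmax.range_eq ha
  obtain ⟨kb, hkb⟩ := hmax.range_eq hb
  subst hka hkb
  exact ⟨hRS _ (R.mul_mem ka.2 kb.2), hRc _ ka.2 _ kb.2⟩

end Cfsg.Agent.OstromWagner
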