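/-
Collineations of a finite projective plane (pairs of permutations preserving incidence), joins, meets,
point and line counts, duality.

Main results (namespace `Cfsg.Agent.OstromPlane`): `Coll`, `join`, `meet`, `pts`, `lns`, `card_pts`,
`dualHom`, `card_fixed_points_eq_lines`.
-/
import Cfsg.Agent.EqLemmas

set_option autoImplicit false
set_option linter.unusedSectionVars false

namespace Cfsg.Agent.OstromPlane

open Configuration

universe u v

variable (P : Type u) (L : Type v) [Membership P L]

/-- The collineation group. -/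
def Coll : Subgroup (Equiv.Perm P × Equiv.Perm L) where
  carrier := {g | ∀ p l, g.1 p ∈ g.2 l ↔ p ∈ l}
  one_mem' := fun _ _ => Iff.rfl
  mul_mem' := fun {a b} ha hb p l => (ha (b.1 p) (b.2 l)).trans (hb p l)
  inv_mem' := fun {a} ha p l => by
    have := ha (a.1⁻¹ p) (a.2⁻¹ l)
    simpa using this.symm

variable {P L}

instance : MulAction (Coll P L) P where
  smul g p := g.1.1 p
  one_smul _ := rfl
  mul_smul _ _ _ := rfl

instance : MulAction (Coll P L) L where
  smul g l := g.1.2 l
  one_smul _ := rfl
  mul_smul _ _ _ := rfl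

theorem smul_mem_iff (g : Coll P L) {p : P} {l : L} : g • p ∈ g • l ↔ p ∈ l := g.2 p l

theorem smul_mem (g : Coll P L) {p : P} {l : L} (h : p ∈ l) : g • p ∈ g • l := (smul_mem_iff g).2 h

theorem smul_mem_of_fixed (g : Coll P L) {p : P} {l : L} (hl : g • l = l) (h : p ∈ l) : g • p ∈ l :=
  hl ▸ smul_mem g h

theorem mem_smul_of_fixed (g : Coll P L) {p : P} {l : L} (hp : g • p = p) (h : p ∈ l) : p ∈ g • l :=
  hp ▸ smul_mem g h

theorem smul_mem_iff_of_fixed (g : Coll P L) {p : P} {l : L} (hl : g • l = l) :
    g • p ∈ l ↔ p ∈ l := by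
  conv_lhs => rw [← hl, smul_mem_iff]

theorem mem_smul_iff_of_fixed (g : Coll P L) {p : P} {l : L} (hp : g • p = p) :
    p ∈ g • l ↔ p ∈ l := by
  conv_lhs => rw [← hp, smul_mem_iff]

/-! ### Duality -/

/-- The dual collineation. -/
def dualHom : Coll P L →* Coll (Dual L) (Dual P) where
  toFun g := ⟨(g.1.2, g.1.1), fun l p => g.2 p l⟩
  map_one' := rfl
  map_mul' _ _ := rfl

theorem dualHom_injective : Function.Injective (dualHom (P := P) (L := L)) := fun a b h =>
  Subtype.ext (Prod.ext (congrArg (fun x : Coll (Dual L) (Dual P) => x.1.2) h)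
    (congrArg (fun x : Coll (Dual L) (Dual P) => x.1.1) h))

/-- A line as a point of the dual plane. -/
abbrev dpt (l : L) : Dual L := l

/-- A point as a line of the dual plane. -/
abbrev dln (p : P) : Dual P := p

theorem dualHom_smul_point (g : Coll P L) (l : L) : dualHom g • dpt l = dpt (g • l) := rfl

theorem dualHom_smul_line (g : Coll P L) (p : P) : dualHom g • dln p = dln (g • p) := rfl

/-! ### Joins and meets -/

variable [ProjectivePlane P L]

theorem eq_or_eq {a b : P} {l m : L} (h1 : a ∈ l) (h2 : b ∈ l) (h3 : a ∈ m) (h4 : b ∈ m) :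
    a = b ∨ l = m := Nondegenerate.eq_or_eq h1 h2 h3 h4

theorem line_unique {a b : P} {l m : L} (hab : a ≠ b) (h1 : a ∈ l) (h2 : b ∈ l) (h3 : a ∈ m)
    (h4 : b ∈ m) : l = m := (eq_or_eq h1 h2 h3 h4).resolve_left hab

theorem point_unique {a b : P} {l m : L} (hlm : l ≠ m) (h1 : a ∈ l) (h2 : a ∈ m) (h3 : b ∈ l)
    (h4 : b ∈ m) : a = b := (eq_or_eq h1 h3 h2 h4).resolve_right hlm

theorem exists_join [Finite P] [Finite L] (a b : P) : ∃ l : L, a ∈ l ∧ b ∈ l := by
  by_cases h : a = b
  · subst h
    have h2 := ProjectivePlane.two_lt_lineCount (L := L) a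
    obtain ⟨⟨l, hl⟩⟩ : Nonempty {l : L // a ∈ l} := (Nat.card_pos_iff.1 (by
      change 0 < lineCount L a
      omega)).1
    exact ⟨l, hl, hl⟩
  · exact ⟨_, HasLines.mkLine_ax h⟩

theorem exists_meet [Finite P] [Finite L] (l m : L) : ∃ p : P, p ∈ l ∧ p ∈ m :=
  exists_join (P := Dual L) (L := Dual P) l m

variable [Finite P] [Finite L]

/-- A line through two points. -/
noncomputable def join (a b : P) : L := (exists_join a b).choose

theorem left_mem_join (a b : P) : a ∈ (join a b : L) := (exists_join a b).choose_spec.1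

theorem right_mem_join (a b : P) : b ∈ (join a b : L) := (exists_join a b).choose_spec.2

theorem join_eq {a b : P} {l : L} (h : a ≠ b) (ha : a ∈ l) (hb : b ∈ l) : join a b = l :=
  line_unique h (left_mem_join a b) (right_mem_join a b) ha hb

/-- A point on two lines. -/
noncomputable def meet (l m : L) : P := (exists_meet l m).choose

theorem meet_mem_left (l m : L) : (meet l m : P) ∈ l := (exists_meet l m).choose_spec.1

theorem meet_mem_right (l m : L) : (meet l m : P) ∈ m := (exists_meet l m).choose_spec.2

theorem meet_eq {l m : L} {p : P} (h : l ≠ m) (hl : p ∈ l) (hm : p ∈ m) : meet l m = p :=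
  point_unique h (meet_mem_left l m) (meet_mem_right l m) hl hm

theorem smul_join (g : Coll P L) {a b : P} (h : a ≠ b) :
    g • (join a b : L) = join (g • a) (g • b) :=
  (join_eq (fun e => h (MulAction.injective g e)) (smul_mem g (left_mem_join a b))
    (smul_mem g (right_mem_join a b))).symm

theorem join_fixed (g : Coll P L) {a b : P} (h : a ≠ b) (ha : g • a = a) (hb : g • b = b) :
    g • (join a b : L) = join a b := by rw [smul_join g h, ha, hb]

theorem smul_meet (g : Coll P L) {l m : L} (h : l ≠ m) :
    g • (meet l m : P) = meet (g • l) (g • m) :=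
  (meet_eq (fun e => h (MulAction.injective g e)) (smul_mem g (meet_mem_left l m))
    (smul_mem g (meet_mem_right l m))).symm

theorem meet_fixed (g : Coll P L) {l m : L} (h : l ≠ m) (hl : g • l = l) (hm : g • m = m) :
    g • (meet l m : P) = meet l m := by rw [smul_meet g h, hl, hm]

theorem fixed_of_lines (g : Coll P L) {l m : L} {p : P} (h : l ≠ m) (hl : g • l = l) (hm : g • m = m)
    (h1 : p ∈ l) (h2 : p ∈ m) : g • p = p := by
  rw [← meet_eq h h1 h2, meet_fixed g h hl hm]

theorem fixed_of_points (g : Coll P L) {a b : P} {l : L} (h : a ≠ b) (ha : g • a = a) (hb : g • b = b)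
    (h1 : a ∈ l) (h2 : b ∈ l) : g • l = l := by
  rw [← join_eq h h1 h2, join_fixed g h ha hb]

/-! ### Counting -/

open scoped Classical in
/-- The points of a line. -/
noncomputable def pts [Fintype P] (l : L) : Finset P := Finset.univ.filter fun p => p ∈ l

open scoped Classical in
/-- The lines through a point. -/
noncomputable def lns [Fintype L] (p : P) : Finset L := Finset.univ.filter fun l => p ∈ l

section Count

variable [Fintype P] [Fintype L]

omit [ProjectivePlane P L] [Finite P] [Finite L] [Fintype L] in
@[simp] theorem mem_pts {p : P} {l : L} : p ∈ pts l ↔ p ∈ l := by simp [pts]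

omit [ProjectivePlane P L] [Finite P] [Finite L] [Fintype P] in
@[simp] theorem mem_lns {p : P} {l : L} : l ∈ lns p ↔ p ∈ l := by simp [lns]

theorem card_pts (l : L) : (pts (P := P) l).card = ProjectivePlane.order P L + 1 := by
  classical
  rw [← ProjectivePlane.pointCount_eq P l, pointCount, Nat.card_eq_fintype_card,
    Fintype.card_subtype]
  rfl

theorem card_lns (p : P) : (lns (L := L) p).card = ProjectivePlane.order P L + 1 := by
  classical
  rw [← ProjectivePlane.lineCount_eq L p, lineCount, Nat.card_eq_fintype_card,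
    Fintype.card_subtype]
  rfl

theorem exists_third_point (l : L) (a b : P) : ∃ p : P, p ∈ l ∧ p ≠ a ∧ p ≠ b := by
  classical
  by_contra! h
  have hsub : pts l ⊆ {a, b} := fun p hp => by
    rcases eq_or_ne p a with rfl | ha
    · simp
    · simp [h p (mem_pts.1 hp) ha]
  have h1 := Finset.card_le_card hsub
  have h2 := ProjectivePlane.one_lt_order P L
  have h3 : ({a, b} : Finset P).card ≤ 2 := Finset.card_le_two
  rw [card_pts] at h1
  omega

theorem exists_third_line (p : P) (a b : L) : ∃ l : L, p ∈ l ∧ l ≠ a ∧ l ≠ b := by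
  classical
  by_contra! h
  have hsub : lns p ⊆ {a, b} := fun l hl => by
    rcases eq_or_ne l a with rfl | ha
    · simp
    · simp [h l (mem_lns.1 hl) ha]
  have h1 := Finset.card_le_card hsub
  have h2 := ProjectivePlane.one_lt_order P L
  have h3 : ({a, b} : Finset L).card ≤ 2 := Finset.card_le_two
  rw [card_lns] at h1
  omega

/-- Double counting of flags. -/
theorem sum_card_filter_comm (A : Finset P) (B : Finset L) [DecidableRel fun (p : P) (l : L) => p ∈ l] :
    ∑ p ∈ A, (B.filter fun l => p ∈ l).card = ∑ l ∈ B, (A.filter fun p => p ∈ l).card :=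
  Finset.sum_card_bipartiteAbove_eq_sum_card_bipartiteBelow _

end Count

/-! ### Extensionality -/

theorem eq_one_of_points {g : Coll P L} (h : ∀ p : P, g • p = p) : g = 1 := by
  have : Fintype P := Fintype.ofFinite P
  have : Fintype L := Fintype.ofFinite L
  refine Subtype.ext (Prod.ext (Equiv.ext fun p => h p) (Equiv.ext fun l => ?_))
  change g • l = l
  obtain ⟨a, ha, -, -⟩ := exists_third_point (P := P) l (meet l l) (meet l l)
  obtain ⟨b, hb, hba, -⟩ := exists_third_point (P := P) l a a
  exact fixed_of_points g hba (h b) (h a) hb ha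

theorem eq_one_of_lines {g : Coll P L} (h : ∀ l : L, g • l = l) : g = 1 :=
  dualHom_injective (eq_one_of_points (P := Dual L) (L := Dual P) (g := dualHom g) h)

instance : Finite (Coll P L) := inferInstance

open scoped Classical in
theorem card_fixed_points_eq_lines [Fintype P] [Fintype L] (g : Coll P L) :
    (Finset.univ.filter fun p : P => g • p = p).card =
      (Finset.univ.filter fun l : L => g • l = l).card := by
  have hP : ∑ p : P, (Finset.univ.filter fun l : L => p ∈ l ∧ g • p ∈ l).card =
      ∑ l : L, (Finset.univ.filter fun p : P => p ∈ l ∧ g • p ∈ l).card :=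
    Finset.sum_card_bipartiteAbove_eq_sum_card_bipartiteBelow _
  set n := ProjectivePlane.order P L with hn
  have h1 : ∀ p : P, (Finset.univ.filter fun l : L => p ∈ l ∧ g • p ∈ l).card =
      1 + n * if g • p = p then 1 else 0 := by
    intro p
    split_ifs with hp
    · rw [mul_one, add_comm, hn, ← card_lns (L := L) p]
      congr 1
      ext l
      simp [hp]
    · rw [mul_zero, add_zero, Finset.card_eq_one]
      refine ⟨join p (g • p), Finset.ext fun l => ?_⟩
      simp only [Finset.mem_filter, Finset.mem_univ, true_and, Finset.mem_singleton]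
      exact ⟨fun hl => (join_eq (Ne.symm hp) hl.1 hl.2).symm,
        fun e => e ▸ ⟨left_mem_join _ _, right_mem_join _ _⟩⟩
  have h2 : ∀ l : L, (Finset.univ.filter fun p : P => p ∈ l ∧ g • p ∈ l).card =
      1 + n * if g • l = l then 1 else 0 := by
    intro l
    have hiff : ∀ p : P, g • p ∈ l ↔ p ∈ g⁻¹ • l := fun p => by
      conv_lhs => rw [← smul_inv_smul g l, smul_mem_iff]
    split_ifs with hl
    · rw [mul_one, add_comm, hn, ← card_pts (P := P) l]
      congr 1
      ext p
      simp [smul_mem_iff_of_fixed g hl]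
    · have hne : l ≠ g⁻¹ • l := fun e => hl (eq_inv_smul_iff.1 e)
      rw [mul_zero, add_zero, Finset.card_eq_one]
      refine ⟨meet l (g⁻¹ • l), Finset.ext fun p => ?_⟩
      simp only [Finset.mem_filter, Finset.mem_univ, true_and, Finset.mem_singleton, hiff]
      exact ⟨fun hp => (meet_eq hne hp.1 hp.2).symm,
        fun e => e ▸ ⟨meet_mem_left _ _, meet_mem_right _ _⟩⟩
  rw [Finset.sum_congr rfl fun p _ => h1 p, Finset.sum_congr rfl fun l _ => h2 l,
    Finset.sum_add_distrib, Finset.sum_add_distrib, ← Finset.mul_sum, ← Finset.mul_sum,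
    Finset.sum_boole, Finset.sum_boole, Finset.sum_const, Finset.sum_const, Finset.card_univ,
    Finset.card_univ, ProjectivePlane.card_points_eq_card_lines P L] at hP
  have hn0 : 0 < n := by
    have := ProjectivePlane.one_lt_order P L
    omega
  simpa using Nat.eq_of_mul_eq_mul_left hn0 (Nat.add_left_cancel hP)

end Cfsg.Agent.OstromPlane
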