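/-
Central collineations of a finite projective plane; involutions have an axis or fix a quadrangle.

Main results (namespace `Cfsg.Agent.OstromPlane`): `Axis`, `Center`, `Axis.exists_center`,
`Axis.fixed_point`, `Invol.axis_or_quad`, `Invol.axis_parity`.
-/
import Cfsg.Agent.Lib.OstromWagner.Collineation

set_option autoImplicit false
set_option linter.unusedSectionVars false

namespace Cfsg.Agent.OstromPlane

open Configuration

universe u v

variable {P : Type u} {L : Type v} [Membership P L]

/-- `g` fixes every point of `l`. -/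
def Axis (g : Coll P L) (l : L) : Prop := ∀ p : P, p ∈ l → g • p = p

/-- `g` fixes every line through `c`. -/
def Center (g : Coll P L) (c : P) : Prop := ∀ l : L, c ∈ l → g • l = l

/-- An involution. -/
structure Invol (g : Coll P L) : Prop where
  sq : g * g = 1
  ne : g ≠ 1

/-- No three of the four points are collinear. -/
def Quad (L : Type v) [Membership P L] (a b c d : P) : Prop :=
  ∀ l : L, ¬(a ∈ l ∧ b ∈ l ∧ c ∈ l) ∧ ¬(a ∈ l ∧ b ∈ l ∧ d ∈ l) ∧ ¬(a ∈ l ∧ c ∈ l ∧ d ∈ l) ∧
    ¬(b ∈ l ∧ c ∈ l ∧ d ∈ l)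

theorem center_iff_dual {g : Coll P L} {c : P} : Center g c ↔ Axis (dualHom g) (dln c) := Iff.rfl

theorem axis_iff_dual {g : Coll P L} {l : L} : Axis g l ↔ Center (dualHom g) (dpt l) := Iff.rfl

theorem Axis.one (l : L) : Axis (1 : Coll P L) l := fun p _ => one_smul _ p

theorem Axis.mul {g h : Coll P L} {l : L} (hg : Axis g l) (hh : Axis h l) : Axis (g * h) l :=
  fun p hp => by rw [mul_smul, hh p hp, hg p hp]

theorem Axis.inv {g : Coll P L} {l : L} (hg : Axis g l) : Axis g⁻¹ l :=
  fun p hp => inv_smul_eq_iff.2 (hg p hp).symm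

theorem Center.one (c : P) : Center (1 : Coll P L) c := fun l _ => one_smul _ l

theorem Center.mul {g h : Coll P L} {c : P} (hg : Center g c) (hh : Center h c) : Center (g * h) c :=
  fun l hl => by rw [mul_smul, hh l hl, hg l hl]

theorem Center.inv {g : Coll P L} {c : P} (hg : Center g c) : Center g⁻¹ c :=
  fun l hl => inv_smul_eq_iff.2 (hg l hl).symm

theorem Axis.conj {g : Coll P L} {l : L} (hg : Axis g l) (h : Coll P L) :
    Axis (h * g * h⁻¹) (h • l) := fun p hp => by
  have : h⁻¹ • p ∈ l := by rw [← smul_mem_iff h, smul_inv_smul]; exact hp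
  rw [mul_smul, mul_smul, hg _ this, smul_inv_smul]

theorem Center.conj {g : Coll P L} {c : P} (hg : Center g c) (h : Coll P L) :
    Center (h * g * h⁻¹) (h • c) := fun l hl => by
  have : c ∈ h⁻¹ • l := by rw [← smul_mem_iff h, smul_inv_smul]; exact hl
  rw [mul_smul, mul_smul, hg _ this, smul_inv_smul]

theorem Invol.conj {g : Coll P L} (hg : Invol g) (h : Coll P L) : Invol (h * g * h⁻¹) := by
  refine ⟨?_, fun e => hg.ne ?_⟩
  · calc h * g * h⁻¹ * (h * g * h⁻¹) = h * (g * g) * h⁻¹ := by group
      _ = 1 := by rw [hg.sq]; group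
  · exact conj_eq_one_iff.1 e

theorem Invol.smul_smul_point {g : Coll P L} (hg : Invol g) (p : P) : g • g • p = p := by
  rw [← mul_smul, hg.sq, one_smul]

theorem Invol.smul_smul_line {g : Coll P L} (hg : Invol g) (l : L) : g • g • l = l := by
  rw [← mul_smul, hg.sq, one_smul]

theorem Invol.dual {g : Coll P L} (hg : Invol g) : Invol (dualHom g) :=
  ⟨by rw [← map_mul, hg.sq, map_one], fun e => hg.ne (dualHom_injective (e.trans (map_one _).symm))⟩

variable [ProjectivePlane P L] [Finite P] [Finite L]

theorem Axis.smul_line {g : Coll P L} {l : L} (hg : Axis g l) : g • l = l := by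
  have : Fintype P := Fintype.ofFinite P
  have : Fintype L := Fintype.ofFinite L
  obtain ⟨a, ha, -, -⟩ := exists_third_point (P := P) l (meet l l) (meet l l)
  obtain ⟨b, hb, hba, -⟩ := exists_third_point (P := P) l a a
  exact fixed_of_points g hba (hg b hb) (hg a ha) hb ha

theorem Center.smul_point {g : Coll P L} {c : P} (hg : Center g c) : g • c = c :=
  Axis.smul_line (P := Dual L) (L := Dual P) (center_iff_dual.1 hg)

theorem Axis.center_of_fixed {g : Coll P L} {l : L} {a : P} (hg : Axis g l) (ha : a ∉ l)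
    (hfix : g • a = a) : Center g a := fun m hm =>
  fixed_of_points g (b := (meet m l : P)) (fun e : a = meet m l => ha (e ▸ meet_mem_right m l)) hfix
    (hg _ (meet_mem_right m l)) hm (meet_mem_left m l)

theorem Axis.unique {g : Coll P L} {l m : L} (h1 : g ≠ 1) (hl : Axis g l) (hm : Axis g m) : l = m := by
  have : Fintype P := Fintype.ofFinite P
  have : Fintype L := Fintype.ofFinite L
  by_contra hne
  refine h1 (eq_one_of_points fun a => ?_)
  by_cases hal : a ∈ l
  · exact hl a hal
  by_cases ham : a ∈ m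
  · exact hm a ham
  have key : ∀ k : L, a ∈ k → k ≠ join a (meet l m) → g • k = k := fun k hk hkne => by
    refine fixed_of_points g (a := meet k l) (b := meet k m) (fun e => hkne ?_)
      (hl _ (meet_mem_right k l)) (hm _ (meet_mem_right k m)) (meet_mem_left k l) (meet_mem_left k m)
    have hq : meet l m = (meet k l : P) :=
      meet_eq hne (meet_mem_right k l) (e ▸ meet_mem_right k m)
    exact (join_eq (fun e' => hal (by rw [e']; exact meet_mem_left l m)) hk
      (hq ▸ meet_mem_left k l)).symm
  obtain ⟨k, hk, hk1, -⟩ := exists_third_line a (join a (meet l m) : L) (join a (meet l m))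
  obtain ⟨k', hk', hk1', hk2⟩ := exists_third_line a (join a (meet l m) : L) k
  exact fixed_of_lines g hk2 (key k' hk' hk1') (key k hk hk1) hk' hk

theorem Center.unique {g : Coll P L} {c d : P} (h1 : g ≠ 1) (hc : Center g c) (hd : Center g d) :
    c = d :=
  Axis.unique (P := Dual L) (L := Dual P) (g := dualHom g) (fun e => h1 (dualHom_injective (e.trans (map_one _).symm)))
    (center_iff_dual.1 hc)
    (center_iff_dual.1 hd)

theorem Axis.exists_center {g : Coll P L} {l : L} (hl : Axis g l) : ∃ c : P, Center g c := by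
  have : Fintype P := Fintype.ofFinite P
  have : Fintype L := Fintype.ofFinite L
  by_cases hfix : ∃ a : P, a ∉ l ∧ g • a = a
  · obtain ⟨a, ha, hga⟩ := hfix
    exact ⟨a, hl.center_of_fixed ha hga⟩
  push Not at hfix
  have hout : ∀ a : P, a ∉ l → g • a ∉ l := fun a ha => by
    rwa [smul_mem_iff_of_fixed g hl.smul_line]
  have hfixline : ∀ a : P, a ∉ l → g • (join a (g • a) : L) = join a (g • a) := fun a ha => by
    set z : P := meet (join a (g • a)) l
    have hne : g • a ≠ z := fun e => hout a ha (e ▸ meet_mem_right _ l)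
    refine line_unique hne (smul_mem g (left_mem_join a _)) ?_ (right_mem_join _ _) (meet_mem_left _ l)
    exact mem_smul_of_fixed g (hl z (meet_mem_right _ l)) (meet_mem_left _ l)
  obtain ⟨a₀, ha₀⟩ := Nondegenerate.exists_point (P := P) l
  have hj0 : join a₀ (g • a₀) ≠ l := fun e => ha₀ (e ▸ left_mem_join _ _)
  refine ⟨meet (join a₀ (g • a₀)) l, fun m hm => ?_⟩
  by_cases hml : m = l
  · exact hml ▸ hl.smul_line
  obtain ⟨a, ham, ha, -⟩ := exists_third_point m (meet (join a₀ (g • a₀)) l : P) (meet m l)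
  have hal : a ∉ l := fun h => ha (point_unique hml ham h hm (meet_mem_right _ l))
  have hj : join a (g • a) ≠ l := fun e => hal (e ▸ left_mem_join _ _)
  have hz : (meet (join a₀ (g • a₀)) l : P) ∈ (join a (g • a) : L) := by
    by_cases he : (join a₀ (g • a₀) : L) = join a (g • a)
    · rw [← he]; exact meet_mem_left _ l
    · obtain ⟨x, hx1, hx2⟩ := exists_meet (P := P) (join a₀ (g • a₀) : L) (join a (g • a))
      have hx : x ∈ l := by
        by_contra hx
        exact hfix x hx (fixed_of_lines g he (hfixline a₀ ha₀) (hfixline a hal) hx1 hx2)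
      rw [meet_eq hj0 hx1 hx]
      exact hx2
  rw [line_unique ha ham hm (left_mem_join _ _) hz]
  exact hfixline a hal

theorem Center.exists_axis {g : Coll P L} {c : P} (hc : Center g c) : ∃ l : L, Axis g l :=
  Axis.exists_center (P := Dual L) (L := Dual P) (center_iff_dual.1 hc)

theorem Axis.fixed_point {g : Coll P L} {l : L} {c a : P} (h1 : g ≠ 1) (hl : Axis g l) (hc : Center g c)
    (ha : g • a = a) : a ∈ l ∨ a = c :=
  or_iff_not_imp_left.2 fun hal => Center.unique h1 (hl.center_of_fixed hal ha) hc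

theorem Axis.fixed_line {g : Coll P L} {l m : L} {c : P} (h1 : g ≠ 1) (hl : Axis g l) (hc : Center g c)
    (hm : g • m = m) : c ∈ m ∨ m = l :=
  Axis.fixed_point (P := Dual L) (L := Dual P)
    (fun e => h1 (dualHom_injective (e.trans (map_one _).symm))) (center_iff_dual.1 hc)
    (axis_iff_dual.1 hl) hm

theorem Axis.eq_one_of_fixed {g : Coll P L} {l : L} {a b : P} (hl : Axis g l) (ha : a ∉ l) (hb : b ∉ l)
    (hab : a ≠ b) (hga : g • a = a) (hgb : g • b = b) : g = 1 := by
  by_contra h1
  exact hab (Center.unique h1 (hl.center_of_fixed ha hga) (hl.center_of_fixed hb hgb))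

theorem Quad.not_mem₃ {a b c d : P} (h : Quad L a b c d) :
    c ∉ (join a b : L) ∧ d ∉ (join a b : L) ∧ d ∉ (join a c : L) ∧ d ∉ (join b c : L) :=
  ⟨fun e => (h _).1 ⟨left_mem_join a b, right_mem_join a b, e⟩,
    fun e => (h _).2.1 ⟨left_mem_join a b, right_mem_join a b, e⟩,
    fun e => (h _).2.2.1 ⟨left_mem_join a c, right_mem_join a c, e⟩,
    fun e => (h _).2.2.2 ⟨left_mem_join b c, right_mem_join b c, e⟩⟩

theorem Quad.ne {a b c d : P} (h : Quad L a b c d) :
    a ≠ b ∧ a ≠ c ∧ a ≠ d ∧ b ≠ c ∧ b ≠ d ∧ c ≠ d := by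
  refine ⟨?_, ?_, ?_, ?_, ?_, ?_⟩ <;> rintro rfl
  · exact (h (join a c)).1 ⟨left_mem_join _ _, left_mem_join _ _, right_mem_join _ _⟩
  · exact (h (join a b)).1 ⟨left_mem_join _ _, right_mem_join _ _, left_mem_join _ _⟩
  · exact (h (join a b)).2.1 ⟨left_mem_join _ _, right_mem_join _ _, left_mem_join _ _⟩
  · exact (h (join a b)).1 ⟨left_mem_join _ _, right_mem_join _ _, right_mem_join _ _⟩
  · exact (h (join a b)).2.1 ⟨left_mem_join _ _, right_mem_join _ _, right_mem_join _ _⟩
  · exact (h (join a c)).2.2.1 ⟨left_mem_join _ _, right_mem_join _ _, right_mem_join _ _⟩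

/-- A set without quadrangle lies on a line and a point. -/
theorem subset_line_point {F : P → Prop} (h : ∀ a b c d, F a → F b → F c → F d → ¬ Quad L a b c d)
    {x y : P} (hx : F x) (hy : F y) (hxy : x ≠ y) : ∃ (l : L) (c : P), ∀ z, F z → z ∈ l ∨ z = c := by
  by_cases h3 : ∃ (l : L) (a b c : P), F a ∧ F b ∧ F c ∧ a ≠ b ∧ a ≠ c ∧ b ≠ c ∧ a ∈ l ∧ b ∈ l ∧ c ∈ l
  · obtain ⟨l, a, b, c, ha, hb, hc, hab, hac, hbc, hal, hbl, hcl⟩ := h3
    by_cases hoff : ∃ d, F d ∧ d ∉ l
    · obtain ⟨d, hd, hdl⟩ := hoff
      refine ⟨l, d, fun z hz => or_iff_not_imp_left.2 fun hzl => ?_⟩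
      by_contra hzd
      have key : ∀ u w : P, F u → F w → u ≠ w → u ∈ l → w ∈ l →
          u ∉ (join d z : L) → w ∉ (join d z : L) → False := by
        intro u w hu hw huw hul hwl huj hwj
        refine h u w d z hu hw hd hz fun m => ⟨?_, ?_, ?_, ?_⟩
        · exact fun ⟨h1, h2, h3⟩ => hdl (line_unique huw h1 h2 hul hwl ▸ h3)
        · exact fun ⟨h1, h2, h3⟩ => hzl (line_unique huw h1 h2 hul hwl ▸ h3)
        · exact fun ⟨h1, h2, h3⟩ => huj (join_eq (Ne.symm hzd) h2 h3 ▸ h1)
        · exact fun ⟨h1, h2, h3⟩ => hwj (join_eq (Ne.symm hzd) h2 h3 ▸ h1)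
      have two : ∀ u w : P, u ≠ w → u ∈ l → w ∈ l → u ∈ (join d z : L) → w ∉ (join d z : L) :=
        fun u w huw hul hwl hu hw => hdl (line_unique huw hul hwl hu hw ▸ left_mem_join d z)
      by_cases haj : a ∈ (join d z : L)
      · exact key b c hb hc hbc hbl hcl (two a b hab hal hbl haj) (two a c hac hal hcl haj)
      by_cases hbj : b ∈ (join d z : L)
      · exact key a c ha hc hac hal hcl haj (two b c hbc hbl hcl hbj)
      exact key a b ha hb hab hal hbl haj hbj
    · push Not at hoff
      exact ⟨l, x, fun z hz => Or.inl (hoff z hz)⟩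
  · push Not at h3
    by_cases hoff : ∃ d, F d ∧ d ∉ (join x y : L)
    · obtain ⟨d, hd, hdl⟩ := hoff
      refine ⟨join x y, d, fun z hz => or_iff_not_imp_left.2 fun hzl => ?_⟩
      by_contra hzd
      have hxd : x ≠ d := fun e => hdl (e ▸ left_mem_join x y)
      have hyd : y ≠ d := fun e => hdl (e ▸ right_mem_join x y)
      have hxz : x ≠ z := fun e => hzl (e ▸ left_mem_join x y)
      have hyz : y ≠ z := fun e => hzl (e ▸ right_mem_join x y)
      exact h x y d z hx hy hd hz fun m =>
        ⟨fun e => h3 m x y d hx hy hd hxy hxd hyd e.1 e.2.1 e.2.2,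
          fun e => h3 m x y z hx hy hz hxy hxz hyz e.1 e.2.1 e.2.2,
          fun e => h3 m x d z hx hd hz hxd hxz (Ne.symm hzd) e.1 e.2.1 e.2.2,
          fun e => h3 m y d z hy hd hz hyd hyz (Ne.symm hzd) e.1 e.2.1 e.2.2⟩
    · push Not at hoff
      exact ⟨join x y, x, fun z hz => Or.inl (hoff z hz)⟩

theorem Invol.smul_join {g : Coll P L} (hg : Invol g) {a : P} (ha : g • a ≠ a) :
    g • (join a (g • a) : L) = join a (g • a) := by
  refine line_unique (Ne.symm ha) ?_ (smul_mem g (left_mem_join _ _)) (left_mem_join _ _)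
    (right_mem_join _ _)
  simpa [hg.smul_smul_point] using smul_mem g (right_mem_join (L := L) a (g • a))

theorem Invol.fixed_on_line {g : Coll P L} (hg : Invol g) (l : L) :
    ∃ p : P, p ∈ l ∧ g • p = p := by
  have : Fintype P := Fintype.ofFinite P
  have : Fintype L := Fintype.ofFinite L
  by_cases hl : g • l = l
  · by_cases h : ∃ a : P, a ∉ l ∧ g • a ≠ a
    · obtain ⟨a, hal, ha⟩ := h
      have hne : (join a (g • a) : L) ≠ l := fun e => hal (e ▸ left_mem_join _ _)
      exact ⟨meet (join a (g • a)) l, meet_mem_right _ _, meet_fixed g hne (hg.smul_join ha) hl⟩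
    · push Not at h
      exfalso
      have hlines : ∀ m : L, g • m = m := fun m => by
        by_cases hml : m = l
        · exact hml ▸ hl
        obtain ⟨a, ha, ha', -⟩ := exists_third_point (P := P) m (meet m l) (meet m l)
        obtain ⟨b, hb, hb', hba⟩ := exists_third_point (P := P) m (meet m l) a
        exact fixed_of_points g hba (h b fun e => hb' (meet_eq hml hb e).symm)
          (h a fun e => ha' (meet_eq hml ha e).symm) hb ha
      exact hg.ne (eq_one_of_lines hlines)
  · refine ⟨meet l (g • l), meet_mem_left _ _, ?_⟩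
    rw [smul_meet g (Ne.symm hl), hg.smul_smul_line]
    exact meet_eq hl (meet_mem_right _ _) (meet_mem_left _ _)

theorem Invol.two_fixed {g : Coll P L} (hg : Invol g) :
    ∃ x y : P, x ≠ y ∧ g • x = x ∧ g • y = y := by
  have : Fintype P := Fintype.ofFinite P
  have : Fintype L := Fintype.ofFinite L
  obtain ⟨p₁, -, -, l₁, -, -, -, -, -, -, -, -, -, -⟩ := @ProjectivePlane.exists_config P L _ _
  obtain ⟨x, -, hx⟩ := hg.fixed_on_line l₁
  obtain ⟨l, hl⟩ := Nondegenerate.exists_line (L := L) x
  obtain ⟨y, hy, hy'⟩ := hg.fixed_on_line l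
  exact ⟨x, y, fun e => hl (e ▸ hy), hx, hy'⟩

/-- An involution is a central collineation or fixes a quadrangle. -/
theorem Invol.axis_or_quad {g : Coll P L} (hg : Invol g) :
    (∃ l : L, Axis g l) ∨
      ∃ a b c d : P, Quad L a b c d ∧ g • a = a ∧ g • b = b ∧ g • c = c ∧ g • d = d := by
  have : Fintype P := Fintype.ofFinite P
  have : Fintype L := Fintype.ofFinite L
  refine or_iff_not_imp_right.2 fun h => ?_
  push Not at h
  obtain ⟨x, y, hxy, hx, hy⟩ := hg.two_fixed
  obtain ⟨l, c, hlc⟩ := subset_line_point (L := L) (F := fun p => g • p = p)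
    (fun a b c d ha hb hc hd hq => h a b c d hq ha hb hc hd) hx hy hxy
  refine ⟨l, fun p hp => ?_⟩
  obtain ⟨k, hk, hkl, hkc⟩ := exists_third_line p l (join p c)
  obtain ⟨z, hz, hgz⟩ := hg.fixed_on_line k
  rcases hlc z hgz with hzl | rfl
  · rwa [point_unique hkl hk hp hz hzl]
  · by_cases hpz : p = z
    · rwa [hpz]
    · exact absurd (join_eq hpz hk hz).symm hkc

/-- Parity of the fixed point set of an involution. -/
theorem Invol.card_fixed_odd [Fintype P] [DecidableEq P] {g : Coll P L} (hg : Invol g) :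
    Odd (Finset.univ.filter fun p : P => g • p = p).card := by
  have hv : Odd (Fintype.card P) := by
    rw [ProjectivePlane.card_points P L]
    have := Nat.even_mul_succ_self (ProjectivePlane.order P L)
    rw [pow_two]
    refine Even.add_one ?_
    simpa [mul_add] using this
  have hinv : Function.Involutive fun p : P => g • p := hg.smul_smul_point
  have hev : Even (Finset.univ.filter fun p : P => ¬ g • p = p).card := by
    have h0 : ∑ _p ∈ Finset.univ.filter (fun p : P => ¬ g • p = p), (1 : ZMod 2) = 0 := by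
      refine Finset.sum_involution (fun p _ => g • p) (fun p _ => by decide) ?_ ?_ fun p _ => hinv p
      · intro p hp _
        exact (Finset.mem_filter.1 hp).2
      · intro p hp
        refine Finset.mem_filter.2 ⟨Finset.mem_univ _, fun e => (Finset.mem_filter.1 hp).2 ?_⟩
        exact MulAction.injective g e
    rw [Finset.sum_const, nsmul_one, ZMod.natCast_eq_zero_iff_even] at h0
    exact h0
  have := Finset.card_filter_add_card_filter_not (s := (Finset.univ : Finset P)) (fun p => g • p = p)
  rw [Finset.card_univ] at this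
  rw [← this] at hv
  exact (Nat.odd_add.1 hv).2 hev

theorem Invol.center_mem_axis_iff [Fintype P] [Fintype L] {g : Coll P L} {l : L} {c : P}
    (hg : Invol g) (hl : Axis g l) (hc : Center g c) : c ∈ l ↔ Even (ProjectivePlane.order P L) := by
  classical
  have hodd := hg.card_fixed_odd
  have hset : (Finset.univ.filter fun p : P => g • p = p) = insert c (pts l) := by
    ext p
    simp only [Finset.mem_filter, Finset.mem_univ, true_and, Finset.mem_insert, mem_pts]
    exact ⟨fun h => (hl.fixed_point hg.ne hc h).symm, fun h => h.elim (fun e => e ▸ hc.smul_point) (hl p)⟩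
  rw [hset] at hodd
  constructor
  · intro hcl
    rw [Finset.insert_eq_of_mem (mem_pts.2 hcl), card_pts, Nat.odd_add_one, Nat.not_odd_iff_even] at hodd
    exact hodd
  · intro hev
    by_contra hcl
    rw [Finset.card_insert_of_notMem (by simpa using hcl), card_pts] at hodd
    obtain ⟨a, ha⟩ := hodd
    obtain ⟨b, hb⟩ := hev
    omega

end Cfsg.Agent.OstromPlane
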