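/-
Recognising the Desarguesian plane from homogeneous coordinates of points and lines.

Main results (namespace `Cfsg.Agent.OstromPlane`): `proj_model`.
-/
import Cfsg.Agent.Lib.OstromWagner.Collineation

set_option autoImplicit false
set_option linter.unusedSectionVars false

namespace Cfsg.Agent.OstromPlane

open Configuration

universe u v

theorem proj_model {P : Type u} {L : Type v} [Membership P L] [ProjectivePlane P L] [Finite P] [Finite L]
    {F : Type} [Field F] [Fintype F] (hq : ProjectivePlane.order P L = Fintype.card F)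
    (vp : P → (Fin 3 → F)) (wl : L → (Fin 3 → F)) (hv : ∀ a, vp a ≠ 0) (hw : ∀ l, wl l ≠ 0)
    (hmem : ∀ (a : P) (l : L), a ∈ l ↔ wl l ⬝ᵥ vp a = 0)
    (hinj : ∀ (a b : P) (t : F), t • vp a = vp b → a = b) :
    ∃ φ : P ≃ Projectivization F (Fin 3 → F),
      (∀ l : L, ∃ W : Submodule F (Fin 3 → F), Module.finrank F W = 2 ∧
          ∀ p : P, p ∈ l ↔ (φ p).submodule ≤ W) ∧
      (∀ W : Submodule F (Fin 3 → F), Module.finrank F W = 2 →
          ∃ l : L, ∀ p : P, p ∈ l ↔ (φ p).submodule ≤ W) := by
  classical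
  have : Fintype P := Fintype.ofFinite P
  have : Fintype L := Fintype.ofFinite L
  let f : P → Projectivization F (Fin 3 → F) := fun a => Projectivization.mk F (vp a) (hv a)
  have hf : Function.Bijective f := by
    refine (Nat.bijective_iff_injective_and_card f).2 ⟨fun a b e => ?_, ?_⟩
    · obtain ⟨t, ht⟩ := (Projectivization.mk_eq_mk_iff' F _ _ (hv a) (hv b)).1 e
      exact (hinj b a t ht).symm
    · rw [Nat.card_eq_fintype_card, ProjectivePlane.card_points P L, hq,
        Projectivization.card_of_finrank F (Fin 3 → F) (n := 3) (by simp), Finset.sum_range_succ,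
        Finset.sum_range_succ, Finset.sum_range_one, Nat.card_eq_fintype_card]
      ring
  refine ⟨Equiv.ofBijective f hf, ?_⟩
  have hsub : ∀ (a : P) (W : Submodule F (Fin 3 → F)),
      (Equiv.ofBijective f hf a).submodule ≤ W ↔ vp a ∈ W := by
    intro a W
    rw [Equiv.ofBijective_apply]
    show (Projectivization.mk F (vp a) (hv a)).submodule ≤ W ↔ _
    rw [Projectivization.submodule_mk, Submodule.span_singleton_le_iff_mem]
  have hline : ∀ l : L, ∃ W : Submodule F (Fin 3 → F), Module.finrank F W = 2 ∧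
      ∀ a : P, a ∈ l ↔ vp a ∈ W := by
    intro l
    let φl : (Fin 3 → F) →ₗ[F] F := dotProductEquiv F (Fin 3) (wl l)
    have hφ : φl ≠ 0 := fun e => hw l ((dotProductEquiv F (Fin 3)).map_eq_zero_iff.1 e)
    refine ⟨LinearMap.ker φl, ?_, fun a => by rw [hmem, LinearMap.mem_ker]; rfl⟩
    have h1 := LinearMap.finrank_range_add_finrank_ker φl
    rw [LinearMap.range_eq_top.2 (LinearMap.surjective hφ), finrank_top, Module.finrank_self,
      Module.finrank_fin_fun] at h1
    omega
  refine ⟨fun l => ?_, fun W hW => ?_⟩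
  · obtain ⟨W, h1, h2⟩ := hline l
    exact ⟨W, h1, fun a => by rw [hsub, h2]⟩
  · obtain ⟨b, hb⟩ : ∃ b : Fin 2 → W, LinearIndependent F b := by
      let B := Module.finBasisOfFinrankEq F W hW
      exact ⟨B, B.linearIndependent⟩
    have hb' := hb.map' W.subtype W.ker_subtype
    have hne : ∀ i, ((b i : Fin 3 → F)) ≠ 0 := fun i => hb'.ne_zero i
    obtain ⟨a₀, ha₀⟩ := hf.2 (Projectivization.mk F _ (hne 0))
    obtain ⟨a₁, ha₁⟩ := hf.2 (Projectivization.mk F _ (hne 1))
    obtain ⟨l, hl₀, hl₁⟩ := exists_join (L := L) a₀ a₁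
    obtain ⟨W', hW', hW''⟩ := hline l
    have hmem' : ∀ (a : P) (i : Fin 2), f a = Projectivization.mk F _ (hne i) → a ∈ l → (b i : Fin 3 → F) ∈ W' := by
      intro a i e ha
      obtain ⟨t, ht⟩ := (Projectivization.mk_eq_mk_iff' F _ _ (hne i) (hv a)).1 e.symm
      rw [← ht]
      exact W'.smul_mem t ((hW'' a).1 ha)
    have hle : Submodule.span F (Set.range fun i => (b i : Fin 3 → F)) ≤ W' := by
      rw [Submodule.span_le]
      rintro _ ⟨i, rfl⟩
      fin_cases i
      · exact hmem' a₀ 0 ha₀ hl₀
      · exact hmem' a₁ 1 ha₁ hl₁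
    have hle' : Submodule.span F (Set.range fun i => (b i : Fin 3 → F)) ≤ W := by
      rw [Submodule.span_le]
      rintro _ ⟨i, rfl⟩
      exact (b i).2
    have hdim : Module.finrank F (Submodule.span F (Set.range fun i => (b i : Fin 3 → F))) = 2 := by
      have := finrank_span_eq_card hb'
      rw [Fintype.card_fin] at this
      exact this
    have e1 := Submodule.eq_of_le_of_finrank_eq hle (hdim.trans hW'.symm)
    have e2 := Submodule.eq_of_le_of_finrank_eq hle' (hdim.trans hW.symm)
    exact ⟨l, fun a => by rw [hsub, hW'', ← e1, e2]⟩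

end Cfsg.Agent.OstromPlane
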