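/-
Groups of elations with a common axis: commutativity, exponent, semiregularity, counting.

Main results (namespace `Cfsg.Agent.OstromPlane`): `transl`, `elat`, `elat_commute`, `transl_pow_prime`,
`full_of_const`, `full_of_centers`, `Full.prime_pow`.
-/
import Cfsg.Agent.Lib.OstromWagner.Central

set_option autoImplicit false
set_option linter.unusedSectionVars false

namespace Cfsg.Agent.OstromPlane

open Configuration

universe u v

variable {P : Type u} {L : Type v} [Membership P L]

/-- The members of `H` with axis `l` and centre `c`. -/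
def elat (H : Subgroup (Coll P L)) (c : P) (l : L) : Subgroup (Coll P L) where
  carrier := {g | g ∈ H ∧ Axis g l ∧ Center g c}
  one_mem' := ⟨H.one_mem, Axis.one l, Center.one c⟩
  mul_mem' := fun ha hb => ⟨H.mul_mem ha.1 hb.1, ha.2.1.mul hb.2.1, ha.2.2.mul hb.2.2⟩
  inv_mem' := fun ha => ⟨H.inv_mem ha.1, ha.2.1.inv, ha.2.2.inv⟩

@[simp] theorem mem_elat {H : Subgroup (Coll P L)} {c : P} {l : L} {g : Coll P L} :
    g ∈ elat H c l ↔ g ∈ H ∧ Axis g l ∧ Center g c := Iff.rfl

theorem conj_mem_elat {H : Subgroup (Coll P L)} {c : P} {l : L} {g h : Coll P L} (hh : h ∈ H)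
    (hg : g ∈ elat H c l) : h * g * h⁻¹ ∈ elat H (h • c) (h • l) :=
  ⟨H.mul_mem (H.mul_mem hh hg.1) (H.inv_mem hh), hg.2.1.conj h, hg.2.2.conj h⟩

theorem card_elat_smul [Finite P] [Finite L] {H : Subgroup (Coll P L)} {c : P} {l : L} {h : Coll P L}
    (hh : h ∈ H) : Nat.card (elat H (h • c) (h • l)) = Nat.card (elat H c l) := by
  refine Nat.card_congr ⟨fun g => ⟨h⁻¹ * g.1 * h, ?_⟩, fun g => ⟨h * g.1 * h⁻¹, conj_mem_elat hh g.2⟩,
    fun g => Subtype.ext (by group), fun g => Subtype.ext (by group)⟩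
  have := conj_mem_elat (H.inv_mem hh) g.2
  rwa [inv_inv, inv_smul_smul, inv_smul_smul] at this

variable [ProjectivePlane P L] [Finite P] [Finite L]

theorem fixed_mem_axis {g : Coll P L} {l : L} {c a : P} (h1 : g ≠ 1) (hl : Axis g l) (hc : Center g c)
    (hcl : c ∈ l) (ha : g • a = a) : a ∈ l :=
  (hl.fixed_point h1 hc ha).elim id fun e => e ▸ hcl

theorem free_off_axis {g : Coll P L} {l : L} {c a : P} (hl : Axis g l) (hc : Center g c) (hcl : c ∈ l)
    (hal : a ∉ l) (ha : g • a = a) : g = 1 :=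
  by_contra fun h => hal (fixed_mem_axis h hl hc hcl ha)

theorem Center.collinear {g : Coll P L} {c a : P} {m : L} (hc : Center g c) (hcm : c ∈ m) (ha : a ∈ m) :
    g • a ∈ m := smul_mem_of_fixed g (hc m hcm) ha

/-- The elations of `H` with axis `l`, and the identity. -/
def transl (H : Subgroup (Coll P L)) (l : L) : Subgroup (Coll P L) where
  carrier := {g | g ∈ H ∧ Axis g l ∧ ∀ a : P, a ∉ l → g • a = a → g = 1}
  one_mem' := ⟨H.one_mem, Axis.one l, fun _ _ _ => rfl⟩
  inv_mem' := fun {g} ha => ⟨H.inv_mem ha.1, ha.2.1.inv, fun a hal e =>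
    inv_eq_one.2 (ha.2.2 a hal (inv_smul_eq_iff.1 e).symm)⟩
  mul_mem' := fun {g k} hg hk => ⟨H.mul_mem hg.1 hk.1, hg.2.1.mul hk.2.1, fun a hal e => by
    by_cases hg1 : g = 1
    · rw [hg1, one_mul] at e ⊢
      exact hk.2.2 a hal e
    by_cases hk1 : k = 1
    · rw [hk1, mul_one] at e ⊢
      exact hg.2.2 a hal e
    obtain ⟨x, hx⟩ := hg.2.1.exists_center
    obtain ⟨y, hy⟩ := hk.2.1.exists_center
    have hxl : x ∈ l := by_contra fun h => hg1 (hg.2.2 x h hx.smul_point)
    have hyl : y ∈ l := by_contra fun h => hk1 (hk.2.2 y h hy.smul_point)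
    by_cases hxy : x = y
    · exact free_off_axis (hg.2.1.mul hk.2.1) ((hxy ▸ hx).mul hy) hyl hal e
    · have h1 : k • a ∈ (join y a : L) := hy.collinear (left_mem_join _ _) (right_mem_join _ _)
      have h2 : k • a ∈ (join x a : L) := by
        rw [mul_smul, smul_eq_iff_eq_inv_smul] at e
        rw [e]
        exact hx.inv.collinear (left_mem_join _ _) (right_mem_join _ _)
      have hne : (join y a : L) ≠ join x a := fun h =>
        hal (line_unique hxy (left_mem_join x a) (h ▸ left_mem_join y a) hxl hyl ▸ right_mem_join x a)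
      exact absurd (hk.2.2 a hal (point_unique hne h1 h2 (right_mem_join y a) (right_mem_join x a))) hk1⟩

theorem mem_transl {H : Subgroup (Coll P L)} {l : L} {g : Coll P L} :
    g ∈ transl H l ↔ g ∈ H ∧ Axis g l ∧ ∀ a : P, a ∉ l → g • a = a → g = 1 := Iff.rfl

theorem exists_center_of_mem_transl {H : Subgroup (Coll P L)} {l : L} {g : Coll P L}
    (hg : g ∈ transl H l) : ∃ c : P, c ∈ l ∧ g ∈ elat H c l := by
  by_cases h1 : g = 1
  · subst h1
    exact ⟨meet l l, meet_mem_left _ _, one_mem _⟩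
  obtain ⟨c, hc⟩ := hg.2.1.exists_center
  exact ⟨c, by_contra fun h => h1 (hg.2.2 c h hc.smul_point), hg.1, hg.2.1, hc⟩

theorem elat_le_transl {H : Subgroup (Coll P L)} {c : P} {l : L} (hc : c ∈ l) :
    elat H c l ≤ transl H l :=
  fun _ hg => ⟨hg.1, hg.2.1, fun _ hal e => free_off_axis hg.2.1 hg.2.2 hc hal e⟩

theorem mul_invol_mem_transl {H : Subgroup (Coll P L)} {l : L} {g k : Coll P L} {a b : P}
    (hg : g ∈ H) (hk : k ∈ H) (hgi : Invol g) (hki : Invol k) (hga : Axis g l) (hka : Axis k l)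
    (hgc : Center g a) (hkc : Center k b) (ha : a ∉ l) (hb : b ∉ l) (hab : a ≠ b) :
    g * k ∈ transl H l := by
  refine ⟨H.mul_mem hg hk, hga.mul hka, fun x hxl e => by_contra fun h1 => hab ?_⟩
  have hgg : g⁻¹ = g := inv_eq_of_mul_eq_one_right hgi.sq
  have hkk : k⁻¹ = k := inv_eq_of_mul_eq_one_right hki.sq
  have hx : Center (g * k) x := (hga.mul hka).center_of_fixed hxl e
  have h2 : g * (g * k) * g⁻¹ = (g * k)⁻¹ := by
    rw [mul_inv_rev, hgg, hkk, ← mul_assoc, hgi.sq, one_mul]
  have hgx : g • x = x := Center.unique (fun e' => h1 (inv_eq_one.1 e')) (h2 ▸ hx.conj g) hx.inv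
  have hkx : k • x = x := by
    rw [mul_smul, smul_eq_iff_eq_inv_smul, hgg, hgx] at e
    exact e
  rcases hga.fixed_point hgi.ne hgc hgx with h | rfl
  · exact absurd h hxl
  rcases hka.fixed_point hki.ne hkc hkx with h | rfl
  · exact absurd h hxl
  rfl

theorem elat_normalize {H : Subgroup (Coll P L)} {c : P} {l : L} {g h : Coll P L} (hg : g ∈ H)
    (hgc : g • c = c) (hgl : g • l = l) (hh : h ∈ elat H c l) : g * h * g⁻¹ ∈ elat H c l := by
  simpa [hgc, hgl] using conj_mem_elat hg hh

theorem elat_commute {H : Subgroup (Coll P L)} {c d : P} {l : L} {g h : Coll P L} (hc : c ∈ l)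
    (hd : d ∈ l) (hcd : c ≠ d) (hg : g ∈ elat H c l) (hh : h ∈ elat H d l) : g * h = h * g := by
  have h1 : g * h * g⁻¹ * h⁻¹ ∈ elat H c l := by
    rw [mul_assoc g h, mul_assoc g]
    exact mul_mem hg (elat_normalize hh.1 (hh.2.1 c hc) hh.2.1.smul_line (inv_mem hg))
  have h2 : g * h * g⁻¹ * h⁻¹ ∈ elat H d l :=
    mul_mem (elat_normalize hg.1 (hg.2.1 d hd) hg.2.1.smul_line hh) (inv_mem hh)
  have : g * h * g⁻¹ * h⁻¹ = 1 := by_contra fun h0 => hcd (Center.unique h0 h1.2.2 h2.2.2)
  exact commutatorElement_eq_one_iff_mul_comm.1 this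

theorem center_mul_ne {H : Subgroup (Coll P L)} {c d e : P} {l : L} {g h : Coll P L} (hcd : c ≠ d)
    (hh1 : h ≠ 1) (hg : g ∈ elat H c l) (hh : h ∈ elat H d l) (he : g * h ∈ elat H e l) : e ≠ c := by
  rintro rfl
  have : h ∈ elat H e l := by simpa using mul_mem (inv_mem hg) he
  exact hcd (Center.unique hh1 this.2.2 hh.2.2)

/-- With two centres the elation group is commutative. -/
theorem transl_commute {H : Subgroup (Coll P L)} {c d : P} {l : L} {g h : Coll P L} (hc : c ∈ l)
    (hd : d ∈ l) (hcd : c ≠ d) (hg : g ∈ elat H c l) (hg1 : g ≠ 1) (hh : h ∈ elat H d l) (hh1 : h ≠ 1)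
    {x y : Coll P L} (hx : x ∈ transl H l) (hy : y ∈ transl H l) : x * y = y * x := by
  by_cases hx1 : x = 1
  · simp [hx1]
  by_cases hy1 : y = 1
  · simp [hy1]
  obtain ⟨a, ha, hxa⟩ := exists_center_of_mem_transl hx
  obtain ⟨b, hb, hyb⟩ := exists_center_of_mem_transl hy
  by_cases hab : a = b
  · subst hab
    obtain ⟨e, he, hea, k, hk, hk1⟩ : ∃ e, e ∈ l ∧ e ≠ a ∧ ∃ k ∈ elat H e l, k ≠ 1 := by
      by_cases hca : c = a
      · exact ⟨d, hd, fun e => hcd (hca.trans e.symm), h, hh, hh1⟩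
      · exact ⟨c, hc, hca, g, hg, hg1⟩
    have hyk : y * k ∈ transl H l := mul_mem hy (elat_le_transl he hk)
    obtain ⟨f, hf, hykf⟩ := exists_center_of_mem_transl hyk
    have hfa : f ≠ a := center_mul_ne (Ne.symm hea) hk1 hyb hk hykf
    have h1 := elat_commute ha he (Ne.symm hea) hxa hk
    have h2 := elat_commute ha hf (Ne.symm hfa) hxa hykf
    rw [← mul_assoc, mul_assoc y k, ← h1, ← mul_assoc] at h2
    exact mul_right_cancel h2
  · exact elat_commute ha hb hab hxa hyb

/-- With two centres the elation group has prime exponent. -/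
theorem transl_pow_prime {H : Subgroup (Coll P L)} {c d : P} {l : L} {g h : Coll P L} (hc : c ∈ l)
    (hd : d ∈ l) (hcd : c ≠ d) (hg : g ∈ elat H c l) (hg1 : g ≠ 1) (hh : h ∈ elat H d l) (hh1 : h ≠ 1) :
    ∃ p : ℕ, p.Prime ∧ ∀ x ∈ transl H l, x ^ p = 1 := by
  obtain ⟨p, hp, hdvd⟩ := Nat.exists_prime_and_dvd (fun e => hg1 (orderOf_eq_one_iff.1 e))
  set g₀ := g ^ (orderOf g / p)
  have hg₀ : orderOf g₀ = p := by
    rw [orderOf_pow' g (Nat.div_pos (Nat.le_of_dvd (orderOf_pos g) hdvd) hp.pos).ne',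
      Nat.gcd_eq_right (Nat.div_dvd_of_dvd hdvd), Nat.div_div_self hdvd (orderOf_pos g).ne']
  have hg₀c : g₀ ∈ elat H c l := pow_mem hg _
  have hg₀1 : g₀ ≠ 1 := fun e => hp.ne_one (by rw [← hg₀, e, orderOf_one])
  have key : ∀ {z : P}, z ∈ l → z ≠ c → ∀ y ∈ elat H z l, y ^ p = 1 := by
    intro z hz hzc y hy
    by_cases hy1 : y = 1
    · simp [hy1]
    have hcomm : Commute g₀ y := elat_commute hc hz (Ne.symm hzc) hg₀c hy
    have hpow : (g₀ * y) ^ p = y ^ p := by
      rw [hcomm.mul_pow, ← hg₀, pow_orderOf_eq_one, one_mul]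
    obtain ⟨f, hf, hfy⟩ := exists_center_of_mem_transl
      (mul_mem (elat_le_transl hc hg₀c) (elat_le_transl hz hy))
    have hfz : f ≠ z := center_mul_ne hzc hg₀1 hy hg₀c (hcomm.eq ▸ hfy)
    by_contra h0
    exact hfz (Center.unique h0 (hpow ▸ (pow_mem hfy p)).2.2 (pow_mem hy p).2.2)
  refine ⟨p, hp, fun x hx => ?_⟩
  obtain ⟨z, hz, hxz⟩ := exists_center_of_mem_transl hx
  by_cases hzc : z = c
  · subst hzc
    obtain ⟨f, hf, hxh⟩ := exists_center_of_mem_transl (mul_mem hx (elat_le_transl hd hh))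
    have hfz : f ≠ z := center_mul_ne hcd hh1 hxz hh hxh
    have hcomm : Commute x h := elat_commute hz hd hcd hxz hh
    have hpow := key hf hfz _ hxh
    rwa [hcomm.mul_pow, key hd (Ne.symm hcd) _ hh, mul_one] at hpow
  · exact key hz hzc x hxz

/-! ### Semiregularity and counting -/

section Count

variable [Fintype P] [Fintype L]

theorem card_dvd_of_free (K : Subgroup (Coll P L)) (S : Finset P) (hinv : ∀ g ∈ K, ∀ a ∈ S, g • a ∈ S)
    (hfree : ∀ g ∈ K, ∀ a ∈ S, g • a = a → g = 1) : Nat.card K ∣ S.card := by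
  classical
  have : Fintype K := Fintype.ofFinite K
  let f : P → Finset P := fun a => Finset.univ.image fun g : K => (g : Coll P L) • a
  rw [Finset.card_eq_sum_card_image f S]
  refine Finset.dvd_sum fun O hO => ?_
  obtain ⟨a, ha, rfl⟩ := Finset.mem_image.1 hO
  have hfib : S.filter (fun b => f b = f a) = f a := by
    ext b
    simp only [Finset.mem_filter, f]
    constructor
    · rintro ⟨-, e⟩
      rw [← e]
      exact Finset.mem_image.2 ⟨1, Finset.mem_univ _, one_smul _ _⟩
    · intro hb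
      obtain ⟨g, -, rfl⟩ := Finset.mem_image.1 hb
      refine ⟨hinv _ g.2 a ha, Finset.ext fun x => ?_⟩
      simp only [Finset.mem_image, Finset.mem_univ, true_and]
      constructor
      · rintro ⟨k, rfl⟩
        exact ⟨k * g, by simp [mul_smul]⟩
      · rintro ⟨k, rfl⟩
        exact ⟨k * g⁻¹, by simp [mul_smul]⟩
  rw [hfib, Finset.card_image_of_injective, Finset.card_univ, Nat.card_eq_fintype_card]
  intro g k e
  refine Subtype.ext (inv_mul_eq_one.1 (hfree _ (K.mul_mem (K.inv_mem g.2) k.2) a ha ?_))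
  rw [mul_smul, inv_smul_eq_iff]
  exact e.symm

open scoped Classical in
/-- The points off a line. -/
noncomputable def offPts (l : L) : Finset P := Finset.univ.filter fun a => a ∉ l

@[simp] theorem mem_offPts {l : L} {a : P} : a ∈ offPts l ↔ a ∉ l := by simp [offPts]

theorem card_offPts (l : L) : (offPts (P := P) l).card = ProjectivePlane.order P L ^ 2 := by
  classical
  have h : (offPts (P := P) l) = Finset.univ \ pts l := by ext; simp
  rw [h, Finset.card_univ_diff, card_pts, ProjectivePlane.card_points P L]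
  omega

variable (H : Subgroup (Coll P L)) (l : L)

theorem card_transl_dvd_of_invariant (S : Finset P) (hoff : ∀ a ∈ S, a ∉ l)
    (hinv : ∀ g ∈ H, g • l = l → ∀ a ∈ S, g • a ∈ S) : Nat.card (transl H l) ∣ S.card :=
  card_dvd_of_free _ S (fun g hg => hinv g hg.1 hg.2.1.smul_line)
    fun _ hg a ha e => hg.2.2 a (hoff a ha) e

theorem card_transl_dvd : Nat.card (transl H l) ∣ ProjectivePlane.order P L ^ 2 := by
  rw [← card_offPts l]
  refine card_transl_dvd_of_invariant H l _ (fun a ha => mem_offPts.1 ha) fun g _ hgl a ha => ?_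
  rw [mem_offPts] at ha ⊢
  rwa [smul_mem_iff_of_fixed g hgl]

theorem card_elat_dvd {c : P} (hc : c ∈ l) :
    Nat.card (elat H c l) ∣ ProjectivePlane.order P L := by
  classical
  obtain ⟨m, hm, hml, -⟩ := exists_third_line c l l
  have : ((pts (P := P) m).erase c).card = ProjectivePlane.order P L := by
    rw [Finset.card_erase_of_mem (mem_pts.2 hm), card_pts]
    omega
  rw [← this]
  refine card_dvd_of_free _ _ (fun g hg a ha => ?_) fun g hg a ha e => ?_
  · obtain ⟨hac, ham⟩ := Finset.mem_erase.1 ha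
    refine Finset.mem_erase.2 ⟨fun e => hac ?_, mem_pts.2 (hg.2.2.collinear hm (mem_pts.1 ham))⟩
    exact MulAction.injective g (e.trans hg.2.2.smul_point.symm)
  · obtain ⟨hac, ham⟩ := Finset.mem_erase.1 ha
    exact free_off_axis hg.2.1 hg.2.2 hc (fun hal => hac (point_unique hml (mem_pts.1 ham) hal hm hc)) e

open scoped Classical in
theorem card_transl_eq_sum : Nat.card (transl H l) = 1 + ∑ c ∈ pts l, (Nat.card (elat H c l) - 1) := by
  have : Fintype (Coll P L) := Fintype.ofFinite _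
  let S : Subgroup (Coll P L) → Finset (Coll P L) := fun K => Finset.univ.filter (· ∈ K)
  have hS : ∀ K : Subgroup (Coll P L), (S K).card = Nat.card K := fun K => by
    rw [Nat.card_eq_fintype_card, Fintype.card_subtype]
  have hsplit : (S (transl H l)).erase 1 = (pts l).biUnion fun c => (S (elat H c l)).erase 1 := by
    ext g
    simp only [S, Finset.mem_erase, Finset.mem_filter, Finset.mem_univ, true_and, Finset.mem_biUnion,
      mem_pts]
    constructor
    · rintro ⟨h1, hg⟩
      obtain ⟨c, hc, hgc⟩ := exists_center_of_mem_transl hg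
      exact ⟨c, hc, h1, hgc⟩
    · rintro ⟨c, hc, h1, hgc⟩
      exact ⟨h1, elat_le_transl hc hgc⟩
  have hdisj : (↑(pts (P := P) l) : Set P).PairwiseDisjoint fun c => (S (elat H c l)).erase 1 := by
    intro c _ d _ hcd
    refine Finset.disjoint_left.2 fun g hg hg' => hcd ?_
    simp only [S, Finset.mem_erase, Finset.mem_filter, Finset.mem_univ, true_and] at hg hg'
    exact Center.unique hg.1 hg.2.2.2 hg'.2.2.2
  have h1 : ∀ K : Subgroup (Coll P L), ((S K).erase 1).card = Nat.card K - 1 := fun K => by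
    rw [Finset.card_erase_of_mem (Finset.mem_filter.2 ⟨Finset.mem_univ _, K.one_mem⟩), hS]
  have h2 := congrArg Finset.card hsplit
  rw [Finset.card_biUnion hdisj, h1, Finset.sum_congr rfl fun c _ => h1 (elat H c l)] at h2
  have := Nat.card_pos (α := transl H l)
  omega

/-- The elation group with axis `l` is transitive off `l`. -/
def Full : Prop := Nat.card (transl H l) = ProjectivePlane.order P L ^ 2

theorem full_of_const {h : ℕ} (h2 : 2 ≤ h) (hh : ∀ c : P, c ∈ l → Nat.card (elat H c l) = h) :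
    Full H l := by
  classical
  set n := ProjectivePlane.order P L with hn
  have hsum : Nat.card (transl H l) = 1 + (n + 1) * (h - 1) := by
    rw [card_transl_eq_sum, Finset.sum_congr rfl fun c hc => by rw [hh c (mem_pts.1 hc)],
      Finset.sum_const, card_pts, smul_eq_mul]
  obtain ⟨k, hk⟩ : h ∣ n := by
    rw [← hh _ (meet_mem_left l l)]
    exact card_elat_dvd H l (meet_mem_left l l)
  have hk0 : 0 < k := by
    have := ProjectivePlane.one_lt_order P L
    rcases Nat.eq_zero_or_pos k with rfl | h'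
    · rw [← hn, hk] at this
      simp at this
    · exact h'
  obtain ⟨a, rfl⟩ : ∃ a, h = a + 2 := ⟨h - 2, by omega⟩
  obtain ⟨b, rfl⟩ : ∃ b, k = b + 1 := ⟨k - 1, by omega⟩
  set M := (a + 1) * (b + 1) + 1 with hM
  have hval : Nat.card (transl H l) = (a + 2) * M := by
    rw [hsum, hk, hM, show a + 2 - 1 = a + 1 from rfl]
    ring
  have hdiv : (a + 2) * M ∣ (a + 2) * ((a + 2) * (b + 1) ^ 2) := by
    rw [← hval]
    have := card_transl_dvd H l
    rw [← hn, hk] at this
    convert this using 1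
    ring
  have hdiv' : M ∣ (a + 2) * (b + 1) ^ 2 := (Nat.mul_dvd_mul_iff_left (by omega)).1 hdiv
  have hcop : Nat.Coprime M (b + 1) := by
    rw [hM, Nat.coprime_comm, Nat.coprime_mul_right_add_right]
    exact Nat.coprime_one_right _
  have hMh : M ∣ a + 2 := (Nat.Coprime.pow_right 2 hcop).dvd_of_dvd_mul_right hdiv'
  have hb : b = 0 := by
    by_contra hb
    have hle := Nat.le_of_dvd (by omega) hMh
    have : (a + 1) * 2 ≤ (a + 1) * (b + 1) := Nat.mul_le_mul_left _ (by omega)
    omega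
  subst hb
  rw [Full, hval, ← hn, hk, hM]
  ring

theorem full_of_centers (hc : ∀ a : P, a ∉ l → ∃ g ∈ H, Invol g ∧ Axis g l ∧ Center g a) :
    Full H l := by
  classical
  obtain ⟨a₀, ha₀⟩ := Nondegenerate.exists_point (P := P) l
  choose σ hσH hσi hσa hσc using hc
  let f : {a : P // a ∈ offPts l} → transl H l := fun a =>
    ⟨σ a.1 (mem_offPts.1 a.2) * σ a₀ ha₀, by
      by_cases e : a.1 = a₀
      · have : σ a.1 (mem_offPts.1 a.2) = σ a₀ ha₀ := by congr 1
        rw [this, (hσi a₀ ha₀).sq]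
        exact one_mem _
      · exact mul_invol_mem_transl (hσH _ _) (hσH _ _) (hσi _ _) (hσi _ _) (hσa _ _) (hσa _ _)
          (hσc _ _) (hσc _ _) (mem_offPts.1 a.2) ha₀ e⟩
  have hf : Function.Injective f := fun a b e => by
    have e' := mul_right_cancel (congrArg Subtype.val e)
    exact Subtype.ext (Center.unique (hσi _ _).ne (hσc _ _) (e' ▸ hσc b.1 (mem_offPts.1 b.2)))
  have h1 := Nat.card_le_card_of_injective f hf
  rw [Nat.card_eq_fintype_card, Fintype.card_coe, card_offPts] at h1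
  have hn := ProjectivePlane.one_lt_order P L
  exact le_antisymm (Nat.le_of_dvd (by positivity) (card_transl_dvd H l)) h1

variable {H l}

theorem Full.exists_smul (hF : Full H l) {a b : P} (ha : a ∉ l) (hb : b ∉ l) :
    ∃ g ∈ transl H l, g • a = b := by
  classical
  let f : transl H l → {x : P // x ∈ offPts l} := fun g => ⟨(g : Coll P L) • a, by
    rw [mem_offPts, smul_mem_iff_of_fixed _ g.2.2.1.smul_line]
    exact ha⟩
  have hf : Function.Injective f := fun g k e => by
    refine Subtype.ext (inv_mul_eq_one.1 ((mul_mem (inv_mem g.2) k.2 : _ ∈ transl H l).2.2 a ha ?_))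
    rw [mul_smul, inv_smul_eq_iff]
    exact (congrArg Subtype.val e).symm
  have hsurj : Function.Surjective f := by
    refine ((Nat.bijective_iff_injective_and_card f).2 ⟨hf, ?_⟩).2
    rw [hF, Nat.card_eq_fintype_card, Fintype.card_coe, card_offPts]
  obtain ⟨g, hg⟩ := hsurj ⟨b, mem_offPts.2 hb⟩
  exact ⟨g, g.2, congrArg Subtype.val hg⟩

theorem Full.exists_smul_center (hF : Full H l) {a b c : P} {m : L} (hc : c ∈ l) (hml : m ≠ l)
    (hcm : c ∈ m) (ham : a ∈ m) (hbm : b ∈ m) (hac : a ≠ c) (hbc : b ≠ c) :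
    ∃ g ∈ elat H c l, g • a = b := by
  have ha : a ∉ l := fun h => hac (point_unique hml ham h hcm hc)
  have hb : b ∉ l := fun h => hbc (point_unique hml hbm h hcm hc)
  obtain ⟨g, hg, hga⟩ := hF.exists_smul ha hb
  obtain ⟨z, hz, hgz⟩ := exists_center_of_mem_transl hg
  by_cases hab : a = b
  · exact ⟨1, one_mem _, by rw [one_smul, hab]⟩
  · have h1 : b ∈ (join z a : L) := hga ▸ hgz.2.2.collinear (left_mem_join _ _) (right_mem_join _ _)
    have h2 : (join z a : L) = m := line_unique hab (right_mem_join _ _) h1 ham hbm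
    have hzc : z = c := point_unique hml (h2 ▸ left_mem_join z a) hz hcm hc
    exact ⟨g, hzc ▸ hgz, hga⟩

theorem Full.card_elat (hF : Full H l) {c : P} (hc : c ∈ l) :
    Nat.card (elat H c l) = ProjectivePlane.order P L := by
  classical
  obtain ⟨m, hm, hml, -⟩ := exists_third_line c l l
  obtain ⟨a, ha, hac, -⟩ := exists_third_point m c c
  choose f hf hfa using fun b : {b : P // b ∈ (pts m).erase c} =>
    hF.exists_smul_center hc hml hm ha (mem_pts.1 (Finset.mem_erase.1 b.2).2) hac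
      (Finset.mem_erase.1 b.2).1
  have hinj : Function.Injective fun b => (⟨f b, hf b⟩ : elat H c l) := fun b b' e =>
    Subtype.ext (by rw [← hfa b, ← hfa b', show f b = f b' from congrArg Subtype.val e])
  have h1 := Nat.card_le_card_of_injective _ hinj
  rw [Nat.card_eq_fintype_card, Fintype.card_coe, Finset.card_erase_of_mem (mem_pts.2 hm), card_pts,
    Nat.add_sub_cancel] at h1
  have := ProjectivePlane.one_lt_order P L
  exact le_antisymm (Nat.le_of_dvd (by omega) (card_elat_dvd H l hc)) h1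

theorem exists_ne_one {K : Subgroup (Coll P L)} (h : 1 < Nat.card K) : ∃ g ∈ K, g ≠ 1 := by
  by_contra! h'
  rw [(Subgroup.eq_bot_iff_forall K).2 h', Subgroup.card_bot] at h
  exact lt_irrefl 1 h

theorem Full.prime_pow (hF : Full H l) :
    ∃ p e : ℕ, p.Prime ∧ 0 < e ∧ ProjectivePlane.order P L = p ^ e ∧ ∀ x ∈ transl H l, x ^ p = 1 := by
  have hn := ProjectivePlane.one_lt_order P L
  obtain ⟨d, hd, hdc, -⟩ := exists_third_point (P := P) l (meet l l) (meet l l)
  have hc : (meet l l : P) ∈ l := meet_mem_left l l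
  obtain ⟨g, hg, hg1⟩ := exists_ne_one (K := elat H _ l) (by rw [hF.card_elat hc]; exact hn)
  obtain ⟨h, hh, hh1⟩ := exists_ne_one (K := elat H _ l) (by rw [hF.card_elat hd]; exact hn)
  obtain ⟨p, hp, hexp⟩ := transl_pow_prime hc hd (Ne.symm hdc) hg hg1 hh hh1
  haveI := Fact.mk hp
  have hP : IsPGroup p (transl H l) := fun x => ⟨1, Subtype.ext (by
    rw [pow_one]; exact hexp _ x.2)⟩
  obtain ⟨i, hi⟩ := IsPGroup.iff_card.1 hP
  have hdvd : ProjectivePlane.order P L ∣ p ^ i := by
    rw [← hi, hF]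
    exact dvd_pow_self _ two_ne_zero
  obtain ⟨e, -, he⟩ := (Nat.dvd_prime_pow hp).1 hdvd
  refine ⟨p, e, hp, Nat.pos_of_ne_zero fun e0 => ?_, he, hexp⟩
  rw [he, e0, pow_zero] at hn
  omega

end Count

end Cfsg.Agent.OstromPlane
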