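/-
Coordinates of a plane with all elation groups full: the slopes form a finite field.

Main results (namespace `Cfsg.Agent.OstromPlane`): `Frame`, `Frame.desarguesian`, `desarguesian_of_full`.
-/
import Cfsg.Agent.Lib.OstromWagner.Translation
import Cfsg.Agent.Lib.OstromWagner.ProjModel
import Cfsg.Agent.Lib.OstromWagner.Field

set_option autoImplicit false
set_option linter.unusedSectionVars false

namespace Cfsg.Agent.OstromPlane

open Configuration

universe u v

variable {P : Type u} {L : Type v} [Membership P L] [ProjectivePlane P L] [Finite P] [Finite L]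
  [Fintype P] [Fintype L]

/-- A coordinate frame in a plane with full elation groups. -/
structure Frame (G : Subgroup (Coll P L)) where
  /-- line at infinity -/
  linf : L
  /-- point at infinity of the horizontal lines -/
  X : P
  /-- point at infinity of the vertical lines -/
  Y : P
  /-- origin -/
  O : P
  hX : X ∈ linf
  hY : Y ∈ linf
  hXY : X ≠ Y
  hO : O ∉ linf
  full : ∀ m : L, Full G m

variable {G : Subgroup (Coll P L)} (F : Frame G)

namespace Frame

/-- The vertical axis. -/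
noncomputable def mY : L := join F.O F.Y

/-- The horizontal axis. -/
noncomputable def mX : L := join F.O F.X

theorem O_mem_mY : F.O ∈ F.mY := left_mem_join _ _

theorem Y_mem_mY : F.Y ∈ F.mY := right_mem_join _ _

theorem O_mem_mX : F.O ∈ F.mX := left_mem_join _ _

theorem X_mem_mX : F.X ∈ F.mX := right_mem_join _ _

theorem mY_ne : F.mY ≠ F.linf := fun e => F.hO (e ▸ F.O_mem_mY)

theorem mX_ne : F.mX ≠ F.linf := fun e => F.hO (e ▸ F.O_mem_mX)

theorem mX_ne_mY : F.mX ≠ F.mY := fun e =>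
  F.hXY (point_unique F.mX_ne F.X_mem_mX F.hX (e ▸ F.Y_mem_mY) F.hY)

/-- The translations along `X`. -/
abbrev TX : Subgroup (Coll P L) := elat G F.X F.linf

/-- The translations along `Y`. -/
abbrev TY : Subgroup (Coll P L) := elat G F.Y F.linf

theorem T_comm {a b : Coll P L} (ha : a ∈ transl G F.linf) (hb : b ∈ transl G F.linf) : a * b = b * a := by
  have hn := ProjectivePlane.one_lt_order P L
  obtain ⟨g, hg, hg1⟩ := exists_ne_one (K := elat G F.X F.linf) (by rw [(F.full _).card_elat F.hX]; exact hn)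
  obtain ⟨h, hh, hh1⟩ := exists_ne_one (K := elat G F.Y F.linf) (by rw [(F.full _).card_elat F.hY]; exact hn)
  exact transl_commute F.hX F.hY F.hXY hg hg1 hh hh1 ha hb

/-- Horizontal coordinates. -/
abbrev W := Additive F.TX

/-- Vertical coordinates. -/
abbrev V := Additive F.TY

noncomputable instance commW : AddCommGroup F.W :=
  { (inferInstance : AddGroup (Additive F.TX)) with
    add_comm := fun a b => congrArg Additive.ofMul (Subtype.ext
      (F.T_comm (elat_le_transl F.hX a.toMul.2) (elat_le_transl F.hX b.toMul.2))) }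

noncomputable instance commV : AddCommGroup F.V :=
  { (inferInstance : AddGroup (Additive F.TY)) with
    add_comm := fun a b => congrArg Additive.ofMul (Subtype.ext
      (F.T_comm (elat_le_transl F.hY a.toMul.2) (elat_le_transl F.hY b.toMul.2))) }

/-- The affine point with given coordinates. -/
def pt (x : F.W) (y : F.V) : P := ((x.toMul : Coll P L) * (y.toMul : Coll P L)) • F.O

theorem xy_mem (x : F.W) (y : F.V) : (x.toMul : Coll P L) * (y.toMul : Coll P L) ∈ transl G F.linf :=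
  mul_mem (elat_le_transl F.hX x.toMul.2) (elat_le_transl F.hY y.toMul.2)

theorem pt_zero : F.pt 0 0 = F.O := by
  show ((1 : Coll P L) * 1) • F.O = F.O
  rw [one_mul, one_smul]

theorem pt_not_mem (x : F.W) (y : F.V) : F.pt x y ∉ F.linf := fun h =>
  F.hO ((smul_mem_iff_of_fixed _ (F.xy_mem x y).2.1.smul_line).1 h)

theorem smul_pt {a b : Coll P L} (x : F.W) (y : F.V) (ha : a ∈ F.TX) (hb : b ∈ F.TY) :
    (a * b) • F.pt x y = F.pt (Additive.ofMul ⟨a, ha⟩ + x) (Additive.ofMul ⟨b, hb⟩ + y) := by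
  unfold pt
  rw [← mul_smul]
  congr 1
  show a * b * ((x.toMul : Coll P L) * (y.toMul : Coll P L)) =
    a * (x.toMul : Coll P L) * (b * (y.toMul : Coll P L))
  rw [mul_assoc, ← mul_assoc b, F.T_comm (elat_le_transl F.hY hb) (elat_le_transl F.hX x.toMul.2)]
  group

theorem smul_X (a x : F.W) (y : F.V) : (a.toMul : Coll P L) • F.pt x y = F.pt (a + x) y := by
  have := F.smul_pt x y a.toMul.2 (one_mem F.TY)
  rw [mul_one] at this
  exact this.trans (congrArg (F.pt (a + x)) (zero_add y))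

theorem smul_Y (b y : F.V) (x : F.W) : (b.toMul : Coll P L) • F.pt x y = F.pt x (b + y) := by
  have := F.smul_pt x y (one_mem F.TX) b.toMul.2
  rw [one_mul] at this
  exact this.trans (congrArg (fun z => F.pt z (b + y)) (zero_add x))

theorem pt_injective {x x' : F.W} {y y' : F.V} (h : F.pt x y = F.pt x' y') : x = x' ∧ y = y' := by
  have hm := mul_mem (inv_mem (F.xy_mem x' y')) (F.xy_mem x y)
  have h1 := hm.2.2 F.O F.hO (by rw [mul_smul, inv_smul_eq_iff]; exact h)
  rw [inv_mul_eq_one] at h1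
  have h3 : ((x'.toMul : Coll P L))⁻¹ * x.toMul = (y'.toMul : Coll P L) * (y.toMul : Coll P L)⁻¹ := by
    rw [inv_mul_eq_iff_eq_mul, ← mul_assoc, eq_mul_inv_iff_mul_eq]
    exact h1.symm
  have h2 : ((x'.toMul : Coll P L))⁻¹ * x.toMul = 1 := by
    by_contra hne
    have e1 : ((x'.toMul : Coll P L))⁻¹ * x.toMul ∈ elat G F.X F.linf :=
      mul_mem (inv_mem x'.toMul.2) x.toMul.2
    have e2 : ((x'.toMul : Coll P L))⁻¹ * x.toMul ∈ elat G F.Y F.linf :=
      h3 ▸ mul_mem y'.toMul.2 (inv_mem y.toMul.2)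
    exact F.hXY (Center.unique hne e1.2.2 e2.2.2)
  rw [h2, eq_comm, mul_inv_eq_one] at h3
  exact ⟨congrArg Additive.ofMul (Subtype.ext (inv_mul_eq_one.1 h2)).symm,
    congrArg Additive.ofMul (Subtype.ext h3).symm⟩

theorem card_W : Nat.card F.W = ProjectivePlane.order P L := (F.full _).card_elat F.hX

theorem card_V : Nat.card F.V = ProjectivePlane.order P L := (F.full _).card_elat F.hY

theorem exists_pt {a : P} (ha : a ∉ F.linf) : ∃ x y, F.pt x y = a := by
  have hbij : Function.Bijective fun q : F.W × F.V =>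
      (⟨F.pt q.1 q.2, mem_offPts.2 (F.pt_not_mem q.1 q.2)⟩ : {b : P // b ∈ offPts F.linf}) := by
    refine (Nat.bijective_iff_injective_and_card _).2 ⟨fun q q' e => ?_, ?_⟩
    · obtain ⟨h1, h2⟩ := F.pt_injective (congrArg Subtype.val e)
      exact Prod.ext h1 h2
    · rw [Nat.card_prod, F.card_W, F.card_V, Nat.card_eq_fintype_card, Fintype.card_coe, card_offPts, pow_two]
  obtain ⟨q, hq⟩ := hbij.2 ⟨a, mem_offPts.2 ha⟩
  exact ⟨q.1, q.2, congrArg Subtype.val hq⟩

theorem pt_mem_mX {x : F.W} {y : F.V} : F.pt x y ∈ F.mX ↔ y = 0 := by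
  have h0 : ∀ x : F.W, F.pt x 0 ∈ F.mX := fun x => by
    show ((x.toMul : Coll P L) * 1) • F.O ∈ F.mX
    rw [mul_one]
    exact x.toMul.2.2.2.collinear F.X_mem_mX F.O_mem_mX
  refine ⟨fun h => ?_, fun e => e ▸ h0 x⟩
  have hne : F.pt x 0 ≠ F.X := fun e => F.pt_not_mem x 0 (e ▸ F.hX)
  by_contra hy
  -- the vertical line through the point
  have h1 : F.pt x y ∈ (join F.Y (F.pt x 0) : L) := by
    have : F.pt x y = (y.toMul : Coll P L) • F.pt x 0 := by rw [F.smul_Y, add_zero]
    rw [this]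
    exact y.toMul.2.2.2.collinear (left_mem_join _ _) (right_mem_join _ _)
  have hYX : F.Y ∉ F.mX := fun e => F.hXY (point_unique F.mX_ne F.X_mem_mX F.hX e F.hY)
  have := point_unique (fun e : (join F.Y (F.pt x 0) : L) = F.mX => hYX (e ▸ left_mem_join _ _))
    h1 h (right_mem_join _ _) (h0 x)
  exact hy (F.pt_injective this).2

theorem pt_mem_mY {x : F.W} {y : F.V} : F.pt x y ∈ F.mY ↔ x = 0 := by
  have h0 : ∀ y : F.V, F.pt 0 y ∈ F.mY := fun y => by
    show ((1 : Coll P L) * (y.toMul : Coll P L)) • F.O ∈ F.mY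
    rw [one_mul]
    exact y.toMul.2.2.2.collinear F.Y_mem_mY F.O_mem_mY
  refine ⟨fun h => ?_, fun e => e ▸ h0 y⟩
  by_contra hx
  have h1 : F.pt x y ∈ (join F.X (F.pt 0 y) : L) := by
    have : F.pt x y = (x.toMul : Coll P L) • F.pt 0 y := by rw [F.smul_X, add_zero]
    rw [this]
    exact x.toMul.2.2.2.collinear (left_mem_join _ _) (right_mem_join _ _)
  have hXY : F.X ∉ F.mY := fun e => F.hXY (point_unique F.mY_ne e F.hX F.Y_mem_mY F.hY)
  have := point_unique (fun e : (join F.X (F.pt 0 y) : L) = F.mY => hXY (e ▸ left_mem_join _ _))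
    h1 h (right_mem_join _ _) (h0 y)
  exact hx (F.pt_injective this).1

/-- The shears with axis the vertical axis. -/
abbrev E := ↥(elat G F.Y F.mY)

/-- The shears with axis the horizontal axis. -/
abbrev E' := ↥(elat G F.X F.mX)

theorem shear_exists (e : F.E) (x : F.W) : ∃ z : F.V, (e : Coll P L) • F.pt x 0 = F.pt x z := by
  have hline : (e : Coll P L) • F.linf = F.linf := e.2.2.2 _ F.hY
  have hoff : (e : Coll P L) • F.pt x 0 ∉ F.linf := fun h =>
    F.pt_not_mem x 0 ((smul_mem_iff_of_fixed _ hline).1 h)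
  obtain ⟨x', z, hz⟩ := F.exists_pt hoff
  have h1 : (x.toMul : Coll P L)⁻¹ • ((e : Coll P L) • F.pt x 0) = F.pt (-x + x') z := by
    rw [← hz, inv_smul_eq_iff, F.smul_X, add_neg_cancel_left]
  have h2 : (x.toMul : Coll P L)⁻¹ • ((e : Coll P L) • F.pt x 0) ∈ F.mY := by
    have hm : (x.toMul : Coll P L) • F.O = F.pt x 0 := by
      show _ = ((x.toMul : Coll P L) * 1) • F.O
      rw [mul_one]
    have h3 : (e : Coll P L) • F.pt x 0 ∈ (x.toMul : Coll P L) • F.mY := by
      refine e.2.2.2.collinear (mem_smul_of_fixed _ (x.toMul.2.2.1 _ F.hY) F.Y_mem_mY) ?_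
      rw [← hm]
      exact smul_mem _ F.O_mem_mY
    rw [← smul_mem_iff (x.toMul : Coll P L), smul_inv_smul]
    exact h3
  rw [h1, F.pt_mem_mY, neg_add_eq_zero] at h2
  exact ⟨z, by rw [← hz, h2]⟩

/-- The vertical displacement of a shear. -/
noncomputable def d (e : F.E) (x : F.W) : F.V := (F.shear_exists e x).choose

theorem d_spec (e : F.E) (x : F.W) : (e : Coll P L) • F.pt x 0 = F.pt x (F.d e x) :=
  (F.shear_exists e x).choose_spec

theorem conj_TY (e : F.E) (y : F.V) : (e : Coll P L) * (y.toMul : Coll P L) = y.toMul * (e : Coll P L) := by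
  have h : (e : Coll P L) * (y.toMul : Coll P L) * (e : Coll P L)⁻¹ ∈ elat G F.Y F.linf :=
    elat_normalize e.2.1 e.2.2.2.smul_point (e.2.2.2 _ F.hY) y.toMul.2
  have hm := mul_mem (inv_mem y.toMul.2) h
  have h1 : (y.toMul : Coll P L)⁻¹ * ((e : Coll P L) * (y.toMul : Coll P L) * (e : Coll P L)⁻¹) = 1 := by
    refine free_off_axis hm.2.1 hm.2.2 F.hY F.hO ?_
    rw [mul_smul, mul_smul, mul_smul, inv_smul_eq_iff.2 (e.2.2.1 _ F.O_mem_mY).symm]
    have h2 : (y.toMul : Coll P L) • F.O ∈ F.mY := y.toMul.2.2.2.collinear F.Y_mem_mY F.O_mem_mY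
    rw [e.2.2.1 _ h2, inv_smul_smul]
  rw [inv_mul_eq_one, eq_mul_inv_iff_mul_eq] at h1
  exact h1.symm

theorem shear (e : F.E) (x : F.W) (y : F.V) : (e : Coll P L) • F.pt x y = F.pt x (y + F.d e x) := by
  have h1 : ∀ (z : F.V), F.pt x z = (z.toMul : Coll P L) • F.pt x 0 := fun z => by
    rw [F.smul_Y, add_zero]
  rw [h1 y, ← mul_smul, F.conj_TY, mul_smul, F.d_spec, F.smul_Y]

theorem d_add (e : F.E) (x x' : F.W) : F.d e (x + x') = F.d e x + F.d e x' := by
  -- conjugating the translation by `x`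
  have hn : (e : Coll P L) * (x.toMul : Coll P L) * (e : Coll P L)⁻¹ ∈ transl G F.linf := by
    have h := conj_mem_elat e.2.1 x.toMul.2
    rw [e.2.2.2 _ F.hY] at h
    exact elat_le_transl (smul_mem_of_fixed _ (e.2.2.2 _ F.hY) F.hX) h
  have heq : (e : Coll P L) * (x.toMul : Coll P L) * (e : Coll P L)⁻¹ =
      (x.toMul : Coll P L) * ((F.d e x).toMul : Coll P L) := by
    have hm := mul_mem (inv_mem (F.xy_mem x (F.d e x))) hn
    refine (inv_mul_eq_one.1 (hm.2.2 F.O F.hO ?_)).symm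
    rw [mul_smul, inv_smul_eq_iff, mul_smul, mul_smul, inv_smul_eq_iff.2 (e.2.2.1 _ F.O_mem_mY).symm]
    have h4 : F.pt x 0 = (x.toMul : Coll P L) • F.O := by
      show ((x.toMul : Coll P L) * 1) • F.O = _
      rw [mul_one]
    rw [← h4]
    exact F.d_spec e x
  have h1 : (x.toMul : Coll P L) • F.pt x' 0 = F.pt (x + x') 0 := F.smul_X x x' 0
  have h2 : (e : Coll P L) • F.pt (x + x') 0 = F.pt (x + x') (F.d e x + F.d e x') := by
    rw [← h1, ← mul_smul, ← inv_mul_cancel_right ((e : Coll P L) * (x.toMul : Coll P L)) (e : Coll P L),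
      mul_smul, F.d_spec, heq, F.smul_pt x' _ x.toMul.2 (F.d e x).toMul.2]
    rfl
  exact (F.pt_injective ((F.d_spec e (x + x')).symm.trans h2)).2

theorem d_mul (e e' : F.E) (x : F.W) : F.d (e * e') x = F.d e x + F.d e' x := by
  have h : F.pt x (F.d (e * e') x) = F.pt x (F.d e x + F.d e' x) := by
    rw [← F.d_spec, Subgroup.coe_mul, mul_smul, F.d_spec, F.shear, add_comm]
  exact (F.pt_injective h).2

theorem d_eq_zero {e : F.E} {x : F.W} (h : F.d e x = 0) : e = 1 ∨ x = 0 := by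
  refine or_iff_not_imp_left.2 fun he => ?_
  have := F.d_spec e x
  rw [h] at this
  exact F.pt_mem_mY.1 (fixed_mem_axis (fun e' => he (Subtype.ext e')) e.2.2.1 e.2.2.2 F.Y_mem_mY this)

theorem slope_mem_linf (e : F.E) : (e : Coll P L) • F.X ∈ F.linf :=
  smul_mem_of_fixed _ (e.2.2.2 _ F.hY) F.hX

theorem slope_ne (e : F.E) : (e : Coll P L) • F.X ≠ F.Y := fun h =>
  F.hXY (MulAction.injective (e : Coll P L) (h.trans e.2.2.2.smul_point.symm))

theorem slope_injective {e e' : F.E} (h : (e : Coll P L) • F.X = (e' : Coll P L) • F.X) : e = e' := by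
  refine Subtype.ext (inv_mul_eq_one.1 ?_)
  have hm := mul_mem (inv_mem e.2) e'.2
  refine free_off_axis hm.2.1 hm.2.2 F.Y_mem_mY (fun h' => ?_)
    (show ((e : Coll P L)⁻¹ * e') • F.X = F.X by rw [mul_smul, ← h, inv_smul_smul])
  exact F.hXY (point_unique F.mY_ne h' F.hX F.Y_mem_mY F.hY)

theorem exists_slope {a : P} (ha : a ∈ F.linf) (haY : a ≠ F.Y) : ∃ e : F.E, (e : Coll P L) • F.X = a := by
  obtain ⟨g, hg, hga⟩ := (F.full F.mY).exists_smul_center (m := F.linf) F.Y_mem_mY (Ne.symm F.mY_ne) F.hY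
    F.hX ha F.hXY haY
  exact ⟨⟨g, hg⟩, hga⟩

theorem pt_mem_vertical {c x : F.W} {y : F.V} : F.pt x y ∈ (c.toMul : Coll P L) • F.mY ↔ x = c := by
  have : F.pt x y = (c.toMul : Coll P L) • F.pt (-c + x) y := by rw [F.smul_X, add_neg_cancel_left]
  rw [this, smul_mem_iff, F.pt_mem_mY, neg_add_eq_zero, eq_comm]

/-- The line of slope `e` with intercept `b`. -/
noncomputable def sl (e : F.E) (b : F.V) : L := (b.toMul : Coll P L) • ((e : Coll P L) • F.mX)

theorem pt_mem_sl {e : F.E} {b y : F.V} {x : F.W} : F.pt x y ∈ F.sl e b ↔ y = b + F.d e x := by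
  have h1 : F.pt x y = (b.toMul : Coll P L) • ((e : Coll P L) • F.pt x (-b + y - F.d e x)) := by
    rw [F.shear, sub_add_cancel, F.smul_Y, add_neg_cancel_left]
  rw [sl, h1, smul_mem_iff, smul_mem_iff, F.pt_mem_mX, sub_eq_zero, neg_add_eq_iff_eq_add]

theorem inf_mem_sl {e : F.E} {b : F.V} : (e : Coll P L) • F.X ∈ F.sl e b :=
  mem_smul_of_fixed _ (b.toMul.2.2.1 _ (F.slope_mem_linf e)) (smul_mem _ F.X_mem_mX)

theorem sl_ne (e : F.E) (b : F.V) : F.sl e b ≠ F.linf := fun h =>
  F.pt_not_mem 0 (b + F.d e 0) (h ▸ F.pt_mem_sl.2 rfl)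

theorem inf_mem_sl_iff {e : F.E} {b : F.V} {a : P} (ha : a ∈ F.linf) :
    a ∈ F.sl e b ↔ a = (e : Coll P L) • F.X :=
  ⟨fun h => point_unique (F.sl_ne e b) h ha F.inf_mem_sl (F.slope_mem_linf e), fun h => h ▸ F.inf_mem_sl⟩

theorem vertical_ne (c : F.W) : (c.toMul : Coll P L) • F.mY ≠ F.linf := fun h =>
  F.pt_not_mem c 0 (h ▸ F.pt_mem_vertical.2 rfl)

theorem Y_mem_vertical (c : F.W) : F.Y ∈ (c.toMul : Coll P L) • F.mY :=
  mem_smul_of_fixed _ (c.toMul.2.2.1 _ F.hY) F.Y_mem_mY

theorem line_cases (l : L) :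
    l = F.linf ∨ (∃ c : F.W, l = (c.toMul : Coll P L) • F.mY) ∨ ∃ e b, l = F.sl e b := by
  refine or_iff_not_imp_left.2 fun hl => ?_
  obtain ⟨z, hz, hzl⟩ := exists_meet (P := P) l F.linf
  obtain ⟨a, ha, haz, -⟩ := exists_third_point l z z
  have hal : a ∉ F.linf := fun h => haz (point_unique hl ha h hz hzl)
  obtain ⟨x, y, rfl⟩ := F.exists_pt hal
  by_cases hzY : z = F.Y
  · subst hzY
    exact Or.inl ⟨x, line_unique haz ha hz (F.pt_mem_vertical.2 rfl) (F.Y_mem_vertical x)⟩
  · obtain ⟨e, rfl⟩ := F.exists_slope hzl hzY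
    exact Or.inr ⟨e, y - F.d e x, line_unique haz ha hz (F.pt_mem_sl.2 (sub_add_cancel y _).symm) F.inf_mem_sl⟩

/-- The shears along the horizontal axis give inverse slopes. -/
theorem horizontal (g : F.E') : ∃ c : F.V → F.W, ∀ y, (g : Coll P L) • F.pt 0 y = F.pt (c y) y := by
  have h : ∀ y : F.V, ∃ z : F.W, (g : Coll P L) • F.pt 0 y = F.pt z y := by
    intro y
    have hline : (g : Coll P L) • F.linf = F.linf := g.2.2.2 _ F.hX
    have hoff : (g : Coll P L) • F.pt 0 y ∉ F.linf := fun h' =>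
      F.pt_not_mem 0 y ((smul_mem_iff_of_fixed _ hline).1 h')
    obtain ⟨z, y', hz⟩ := F.exists_pt hoff
    have hX' : F.X ∈ (y.toMul : Coll P L) • F.mX :=
      mem_smul_of_fixed _ (y.toMul.2.2.1 _ F.hX) F.X_mem_mX
    have hy : F.pt 0 y ∈ (y.toMul : Coll P L) • F.mX := by
      show ((1 : Coll P L) * (y.toMul : Coll P L)) • F.O ∈ _
      rw [one_mul]
      exact smul_mem _ F.O_mem_mX
    have h2 : F.pt z y' ∈ (y.toMul : Coll P L) • F.mX := hz ▸ g.2.2.2.collinear hX' hy
    have h3 : F.pt z y' = (y.toMul : Coll P L) • F.pt z (-y + y') := by rw [F.smul_Y, add_neg_cancel_left]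
    rw [h3, smul_mem_iff, F.pt_mem_mX, neg_add_eq_zero] at h2
    exact ⟨z, by rw [← hz, h2]⟩
  choose c hc using h
  exact ⟨c, hc⟩

/-- Inversion correspondence between the two kinds of shears. -/
theorem inverse_slope : ∃ c : F.E' → F.V → F.W,
    (∀ g g' y, c (g * g') y = c g y + c g' y) ∧
    (∀ g, g ≠ 1 → ∃ e : F.E, e ≠ 1 ∧ ∀ y, F.d e (c g y) = y) ∧
    ∀ e : F.E, e ≠ 1 → ∃ g : F.E', ∀ y, F.d e (c g y) = y := by
  choose c hc using F.horizontal
  have hXmY : F.X ∉ F.mY := fun e => F.hXY (point_unique F.mY_ne e F.hX F.Y_mem_mY F.hY)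
  have hYmX : F.Y ∉ F.mX := fun e => F.hXY (point_unique F.mX_ne F.X_mem_mX F.hX e F.hY)
  -- the image of the vertical axis
  have himg : ∀ (g : F.E') (e : F.E), (g : Coll P L) • F.Y = (e : Coll P L) • F.X →
      ∀ y, F.d e (c g y) = y := by
    intro g e hge y
    have hline : (g : Coll P L) • F.mY = (e : Coll P L) • F.mX := by
      refine line_unique (a := F.O) (b := (e : Coll P L) • F.X) (fun h => F.hO (h ▸ F.slope_mem_linf e))
        (mem_smul_of_fixed _ (g.2.2.1 _ F.O_mem_mX) F.O_mem_mY) (hge ▸ smul_mem _ F.Y_mem_mY)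
        (mem_smul_of_fixed _ (e.2.2.1 _ F.O_mem_mY) F.O_mem_mX) (smul_mem _ F.X_mem_mX)
    have h1 : F.pt (c g y) y ∈ F.sl e 0 := by
      show F.pt (c g y) y ∈ (1 : Coll P L) • ((e : Coll P L) • F.mX)
      rw [one_smul, ← hc, ← hline]
      exact smul_mem _ (F.pt_mem_mY.2 rfl)
    rw [F.pt_mem_sl, zero_add] at h1
    exact h1.symm
  refine ⟨c, fun g g' y => ?_, fun g hg => ?_, fun e he => ?_⟩
  · suffices h : F.pt (c (g * g') y) y = F.pt (c g y + c g' y) y from (F.pt_injective h).1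
    rw [← hc, Subgroup.coe_mul, mul_smul, hc]
    have h1 : F.pt (c g' y) y = ((c g' y).toMul : Coll P L) • F.pt 0 y := by rw [F.smul_X, add_zero]
    have hcomm : (g : Coll P L) * ((c g' y).toMul : Coll P L) = (c g' y).toMul * (g : Coll P L) := by
      set t := c g' y
      have h : (g : Coll P L) * (t.toMul : Coll P L) * (g : Coll P L)⁻¹ ∈ elat G F.X F.linf :=
        elat_normalize g.2.1 g.2.2.2.smul_point (g.2.2.2 _ F.hX) t.toMul.2
      have hm := mul_mem (inv_mem t.toMul.2) h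
      have h1 : (t.toMul : Coll P L)⁻¹ * ((g : Coll P L) * (t.toMul : Coll P L) * (g : Coll P L)⁻¹) = 1 := by
        refine free_off_axis hm.2.1 hm.2.2 F.hX F.hO ?_
        rw [mul_smul, mul_smul, mul_smul, inv_smul_eq_iff.2 (g.2.2.1 _ F.O_mem_mX).symm]
        have h2 : (t.toMul : Coll P L) • F.O ∈ F.mX := t.toMul.2.2.2.collinear F.X_mem_mX F.O_mem_mX
        rw [g.2.2.1 _ h2, inv_smul_smul]
      rw [inv_mul_eq_one, eq_mul_inv_iff_mul_eq] at h1
      exact h1.symm
    rw [h1, ← mul_smul, hcomm, mul_smul, hc, F.smul_X, add_comm]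
  · have hgl : (g : Coll P L) • F.linf = F.linf := g.2.2.2 _ F.hX
    have hne : (g : Coll P L) • F.Y ≠ F.Y := fun h =>
      hYmX (fixed_mem_axis (fun e => hg (Subtype.ext e)) g.2.2.1 g.2.2.2 F.X_mem_mX h)
    obtain ⟨e, he⟩ := F.exists_slope (smul_mem_of_fixed _ hgl F.hY) hne
    refine ⟨e, fun e1 => ?_, himg g e he.symm⟩
    subst e1
    rw [Subgroup.coe_one, one_smul] at he
    exact F.hXY (MulAction.injective (g : Coll P L) (g.2.2.2.smul_point.trans he))
  · have hne : (e : Coll P L) • F.X ≠ F.X := fun h =>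
      hXmY (fixed_mem_axis (fun e' => he (Subtype.ext e')) e.2.2.1 e.2.2.2 F.Y_mem_mY h)
    obtain ⟨g, hg, hga⟩ := (F.full F.mX).exists_smul_center (m := F.linf) F.X_mem_mX (Ne.symm F.mX_ne) F.hX
      F.hY (F.slope_mem_linf e) (Ne.symm F.hXY) hne
    exact ⟨⟨g, hg⟩, himg ⟨g, hg⟩ e hga⟩

end Frame

open OstromWagner

theorem inv_comm_of_finite {W : Type*} [AddCommGroup W] [Finite W] {a b : AddMonoid.End W} (h : a * b = 1) :
    b * a = 1 := by
  have h1 : ∀ x, a (b x) = x := fun x => DFunLike.congr_fun h x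
  have hb : Function.Injective b := fun x y e => by rw [← h1 x, ← h1 y, e]
  refine DFunLike.ext _ _ fun x => ?_
  obtain ⟨y, rfl⟩ := (Finite.injective_iff_surjective.1 hb) x
  show b (a (b y)) = b y
  rw [h1]

/-- Inverse closure from the inversion correspondence. -/
theorem invSet_of_pair {W : Type*} [AddCommGroup W] [Finite W] [Nontrivial W]
    (S R : AddSubgroup (AddMonoid.End W)) (h1 : (1 : AddMonoid.End W) ∈ S)
    (hS : ∀ a ∈ S, a ≠ 0 → ∃ r ∈ R, a * r = 1) (hR : ∀ r ∈ R, r ≠ 0 → ∃ a ∈ S, a * r = 1) :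
    InvSet S := by
  refine ⟨h1, fun u hu hu0 => ?_⟩
  by_cases hu1 : u = 1
  · exact ⟨1, h1, by rw [hu1, one_mul], by rw [hu1, one_mul]⟩
  obtain ⟨r₁, hr₁, e₁⟩ := hS 1 h1 one_ne_zero
  rw [one_mul] at e₁
  obtain ⟨r, hr, hbr⟩ := hS (u - 1) (S.sub_mem hu h1) (sub_ne_zero.2 hu1)
  have hne : 1 + r ≠ 0 := by
    intro e
    have hr' : r = -1 := (neg_eq_of_add_eq_zero_right e).symm
    rw [hr', mul_neg, mul_one, neg_sub] at hbr
    exact hu0 (sub_eq_self.1 hbr)
  obtain ⟨s, hs, hsr⟩ := hR (1 + r) (R.add_mem (e₁ ▸ hr₁) hr) hne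
  have hu' : u = (u - 1) * (1 + r) := by rw [mul_add, mul_one, hbr, sub_add_cancel]
  have hus : u * s = u - 1 := by
    conv_lhs => rw [hu', mul_assoc, inv_comm_of_finite hsr, mul_one]
  have h2 : u * (1 - s) = 1 := by rw [mul_sub, mul_one, hus, sub_sub_cancel]
  exact ⟨1 - s, S.sub_mem h1 hs, h2, inv_comm_of_finite h2⟩

set_option maxHeartbeats 800000 in
theorem Frame.desarguesian (F : Frame G) :
    ∃ (K : Type) (_ : Field K) (_ : Fintype K) (φ : P ≃ Projectivization K (Fin 3 → K)),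
      (∀ l : L, ∃ W : Submodule K (Fin 3 → K), Module.finrank K W = 2 ∧
          ∀ p : P, p ∈ l ↔ (φ p).submodule ≤ W) ∧
      (∀ W : Submodule K (Fin 3 → K), Module.finrank K W = 2 →
          ∃ l : L, ∀ p : P, p ∈ l ↔ (φ p).submodule ≤ W) := by
  classical
  set n := ProjectivePlane.order P L with hn
  have hn1 := ProjectivePlane.one_lt_order P L
  have : Nontrivial F.W := Finite.one_lt_card_iff_nontrivial.1 (by rw [F.card_W]; exact hn1)
  let dh : F.E → (F.W →+ F.V) := fun e => AddMonoidHom.mk' (F.d e) (F.d_add e)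
  -- normalisation
  obtain ⟨g₁, hg₁, hg₁1⟩ := exists_ne_one (K := elat G F.Y F.mY)
    (by rw [(F.full F.mY).card_elat F.Y_mem_mY]; exact hn1)
  set e₁ : F.E := ⟨g₁, hg₁⟩
  have he₁ : e₁ ≠ 1 := fun e => hg₁1 (congrArg Subtype.val e)
  have hθinj : Function.Injective (dh e₁) := (injective_iff_map_eq_zero _).2 fun x hx =>
    (F.d_eq_zero hx).resolve_left he₁
  let θ : F.W ≃+ F.V := AddEquiv.ofBijective (dh e₁)
    ((Nat.bijective_iff_injective_and_card _).2 ⟨hθinj, by rw [F.card_W, F.card_V]⟩)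
  let sh : Additive F.E →+ AddMonoid.End F.W :=
    AddMonoidHom.mk' (fun e => θ.symm.toAddMonoidHom.comp (dh e.toMul)) fun e e' => by
      refine DFunLike.ext _ _ fun x => ?_
      show θ.symm (F.d (e.toMul * e'.toMul) x) = θ.symm (F.d e.toMul x) + θ.symm (F.d e'.toMul x)
      rw [F.d_mul, map_add]
  have sh_apply : ∀ (e : F.E) (x : F.W), sh (Additive.ofMul e) x = θ.symm (F.d e x) := fun _ _ => rfl
  set S : AddSubgroup (AddMonoid.End F.W) := sh.range
  have hsh : ∀ e : F.E, sh (Additive.ofMul e) = 0 → e = 1 := fun e he => by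
    obtain ⟨x, hx⟩ := exists_ne (0 : F.W)
    have h1 : θ.symm (F.d e x) = 0 := by rw [← sh_apply, he]; rfl
    exact (F.d_eq_zero ((map_eq_zero_iff θ.symm θ.symm.injective).1 h1)).resolve_right hx
  have hshinj : Function.Injective sh := (injective_iff_map_eq_zero _).2 fun e he =>
    congrArg Additive.ofMul (hsh e.toMul he)
  have h1S : (1 : AddMonoid.End F.W) ∈ S :=
    ⟨Additive.ofMul e₁, DFunLike.ext _ _ fun x => θ.symm_apply_apply x⟩
  -- inverse slopes
  obtain ⟨c, hcmul, hc1, hc2⟩ := F.inverse_slope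
  have hc_add : ∀ g y y', c g (y + y') = c g y + c g y' := by
    intro g y y'
    by_cases hg : g = 1
    · subst hg
      have h0 : ∀ y, c 1 y = 0 := fun y => by simpa using hcmul 1 1 y
      rw [h0, h0, h0, add_zero]
    · obtain ⟨e, he, hd⟩ := hc1 g hg
      have hinj : Function.Injective (dh e) := (injective_iff_map_eq_zero _).2 fun x hx =>
        (F.d_eq_zero hx).resolve_left he
      refine hinj ?_
      show F.d e (c g (y + y')) = dh e (c g y + c g y')
      rw [map_add]
      show F.d e (c g (y + y')) = F.d e (c g y) + F.d e (c g y')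
      rw [hd, hd, hd]
  let ch : Additive F.E' →+ AddMonoid.End F.W :=
    AddMonoidHom.mk' (fun g => (AddMonoidHom.mk' (c g.toMul) (hc_add g.toMul)).comp θ.toAddMonoidHom)
      fun g g' => DFunLike.ext _ _ fun x => hcmul g.toMul g'.toMul (θ x)
  have hpair : ∀ (e : F.E) (g : F.E'), (∀ y, F.d e (c g y) = y) →
      sh (Additive.ofMul e) * ch (Additive.ofMul g) = 1 := by
    intro e g hd
    refine DFunLike.ext _ _ fun x => ?_
    show θ.symm (F.d e (c g (θ x))) = x
    rw [hd, AddEquiv.symm_apply_apply]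
  have hInv : InvSet S := by
    refine invSet_of_pair S ch.range h1S ?_ ?_
    · rintro _ ⟨e, rfl⟩ he
      have he1 : e.toMul ≠ 1 := fun e' => he (by rw [show e = 0 from e', map_zero])
      obtain ⟨g, hg⟩ := hc2 e.toMul he1
      exact ⟨_, ⟨Additive.ofMul g, rfl⟩, hpair e.toMul g hg⟩
    · rintro _ ⟨g, rfl⟩ hg
      have hg1 : g.toMul ≠ 1 := fun e' => hg (by rw [show g = 0 from e', map_zero])
      obtain ⟨e, -, he⟩ := hc1 g.toMul hg1
      exact ⟨_, ⟨Additive.ofMul e, rfl⟩, hpair e g.toMul he⟩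
  -- the field of slopes
  let R : Subring (AddMonoid.End F.W) :=
    { carrier := S
      zero_mem' := S.zero_mem
      one_mem' := h1S
      add_mem' := S.add_mem
      mul_mem' := fun ha hb => (hInv.mul_mem_comm ha hb).1
      neg_mem' := S.neg_mem }
  have hRS : ∀ a : R, (a : AddMonoid.End F.W) ∈ S := fun a => a.2
  let _ : CommRing R :=
    { R.toRing with mul_comm := fun a b => Subtype.ext (hInv.mul_mem_comm (hRS a) (hRS b)).2 }
  have : NoZeroDivisors R := ⟨fun {a b} hab => by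
    by_contra! hne
    obtain ⟨a', -, -, ha'⟩ := hInv.inv_mem a (hRS a) fun e => hne.1 (Subtype.ext e)
    apply hne.2
    refine Subtype.ext ?_
    rw [← one_mul (b : AddMonoid.End F.W), ← ha', mul_assoc, ← Subring.coe_mul, hab, ZeroMemClass.coe_zero,
      mul_zero]⟩
  have : Finite (AddMonoid.End F.W) :=
    Finite.of_injective (fun f : AddMonoid.End F.W => (f : F.W → F.W)) DFunLike.coe_injective
  have : IsDomain R := NoZeroDivisors.to_isDomain R
  let _ : Fintype R := Fintype.ofFinite R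
  let _ : Field R := Fintype.fieldOfDomain R
  have hcardR : Fintype.card R = n := by
    have h1 : Nat.card S = Nat.card (Additive F.E) :=
      (Nat.card_congr (AddMonoidHom.ofInjective hshinj).toEquiv).symm
    rw [← Nat.card_eq_fintype_card, hn, ← (F.full F.mY).card_elat F.Y_mem_mY]
    exact h1
  -- coordinates in the field
  obtain ⟨w₀, hw₀⟩ := exists_ne (0 : F.W)
  let ev : R →+ F.W :=
    AddMonoidHom.mk' (fun a => (a : AddMonoid.End F.W) w₀) fun _ _ => rfl
  have hev : Function.Bijective ev := by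
    refine (Nat.bijective_iff_injective_and_card _).2 ⟨(injective_iff_map_eq_zero _).2 fun a ha => ?_, ?_⟩
    · exact Subtype.ext (hInv.eq_zero_of_apply (hRS a) hw₀ ha)
    · rw [Nat.card_eq_fintype_card, hcardR, F.card_W]
  let evE : R ≃+ F.W := AddEquiv.ofBijective ev hev
  let sl' : F.E → R := fun e => ⟨sh (Additive.ofMul e), ⟨Additive.ofMul e, rfl⟩⟩
  have hd : ∀ (e : F.E) (r : R), F.d e (evE r) = θ (evE (sl' e * r)) := by
    intro e r
    have h1 : evE (sl' e * r) = θ.symm (F.d e (evE r)) := rfl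
    rw [h1, AddEquiv.apply_symm_apply]
  -- transfer to a small type
  have : Small.{0} R := Countable.toSmall R
  let _ : Fintype (Shrink.{0} R) := Fintype.ofEquiv R (equivShrink R)
  have hcardF : Fintype.card (Shrink.{0} R) = n := (Fintype.ofEquiv_card (equivShrink R)).trans hcardR
  let ι : Shrink.{0} R ≃+* R := Shrink.ringEquiv R
  let cx : F.W → Shrink.{0} R := fun x => ι.symm (evE.symm x)
  let cy : F.V → Shrink.{0} R := fun y => cx (θ.symm y)
  let cs : F.E → Shrink.{0} R := fun e => ι.symm (sl' e)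
  have hcx : Function.Injective cx := ι.symm.injective.comp evE.symm.injective
  have hcy : Function.Injective cy := hcx.comp θ.symm.injective
  have hcxa : ∀ a b, cx (a + b) = cx a + cx b := fun a b => by simp [cx]
  have hcya : ∀ a b, cy (a + b) = cy a + cy b := fun a b => by simp [cy, hcxa]
  have hcd : ∀ e x, cy (F.d e x) = cs e * cx x := by
    intro e x
    obtain ⟨r, rfl⟩ := evE.surjective x
    simp only [cy, cx, cs, hd, AddEquiv.symm_apply_apply, map_mul]
  have hcs : Function.Injective cs := fun e e' h => by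
    have h1 : sl' e = sl' e' := ι.symm.injective h
    exact Additive.ofMul.injective (hshinj (congrArg Subtype.val h1))
  -- vectors of points
  have hcases : ∀ a : P, (∃ x y, F.pt x y = a) ∨ a = F.Y ∨ ∃ e : F.E, (e : Coll P L) • F.X = a := by
    intro a
    by_cases ha : a ∈ F.linf
    · exact Or.inr (or_iff_not_imp_left.2 fun hY => F.exists_slope ha hY)
    · exact Or.inl (F.exists_pt ha)
  have hvec : ∀ a : P, ∃ v : Fin 3 → Shrink.{0} R, (∀ x y, F.pt x y = a → v = ![cx x, cy y, 1]) ∧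
      (a = F.Y → v = ![0, 1, 0]) ∧ (∀ e : F.E, (e : Coll P L) • F.X = a → v = ![1, cs e, 0]) := by
    intro a
    rcases hcases a with ⟨x, y, rfl⟩ | rfl | ⟨e, rfl⟩
    · refine ⟨![cx x, cy y, 1], fun x' y' h => ?_, fun h => absurd (h ▸ F.hY) (F.pt_not_mem x y),
        fun e h => absurd (h ▸ F.slope_mem_linf e) (F.pt_not_mem x y)⟩
      obtain ⟨rfl, rfl⟩ := F.pt_injective h
      rfl
    · exact ⟨![0, 1, 0], fun x y h => absurd (h.symm ▸ F.hY) (F.pt_not_mem x y), fun _ => rfl,
        fun e h => absurd h (F.slope_ne e)⟩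
    · refine ⟨![1, cs e, 0], fun x y h => absurd (h.symm ▸ F.slope_mem_linf e) (F.pt_not_mem x y),
        fun h => absurd h (F.slope_ne e), fun e' h => by rw [F.slope_injective h]⟩
  choose vp hvA hvY hvS using hvec
  have hwl : ∀ l : L, ∃ w : Fin 3 → Shrink.{0} R, w ≠ 0 ∧ ∀ a : P, a ∈ l ↔ w ⬝ᵥ vp a = 0 := by
    intro l
    rcases F.line_cases l with rfl | ⟨c₀, rfl⟩ | ⟨e, b, rfl⟩
    · refine ⟨![0, 0, 1], fun h => by simpa using congrFun h 2, fun a => ?_⟩
      rcases hcases a with ⟨x, y, rfl⟩ | rfl | ⟨e, rfl⟩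
      · rw [hvA _ x y rfl]
        simp [F.pt_not_mem, dotProduct, Fin.sum_univ_three]
      · rw [hvY _ rfl]
        simp [F.hY, dotProduct, Fin.sum_univ_three]
      · rw [hvS _ e rfl]
        simp [F.slope_mem_linf, dotProduct, Fin.sum_univ_three]
    · refine ⟨![1, 0, -cx c₀], fun h => by simpa using congrFun h 0, fun a => ?_⟩
      rcases hcases a with ⟨x, y, rfl⟩ | rfl | ⟨e, rfl⟩
      · rw [hvA _ x y rfl, F.pt_mem_vertical]
        simp [dotProduct, Fin.sum_univ_three, add_neg_eq_zero, hcx.eq_iff]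
      · rw [hvY _ rfl]
        simp [F.Y_mem_vertical, dotProduct, Fin.sum_univ_three]
      · rw [hvS _ e rfl]
        have hn' : (e : Coll P L) • F.X ∉ (c₀.toMul : Coll P L) • F.mY := fun h =>
          F.slope_ne e (point_unique (F.vertical_ne c₀) h (F.slope_mem_linf e) (F.Y_mem_vertical c₀) F.hY)
        simp [hn', dotProduct, Fin.sum_univ_three]
    · refine ⟨![cs e, -1, cy b], fun h => by simpa using congrFun h 1, fun a => ?_⟩
      rcases hcases a with ⟨x, y, rfl⟩ | rfl | ⟨e', rfl⟩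
      · rw [hvA _ x y rfl, F.pt_mem_sl, ← hcy.eq_iff, hcya, hcd]
        simp [dotProduct, Fin.sum_univ_three]
        constructor <;> intro h <;> linear_combination -h
      · rw [hvY _ rfl]
        have hn' : F.Y ∉ F.sl e b := fun h => F.slope_ne e ((F.inf_mem_sl_iff F.hY).1 h).symm
        simp [hn', dotProduct, Fin.sum_univ_three]
      · rw [hvS _ e' rfl, F.inf_mem_sl_iff (F.slope_mem_linf e')]
        have : (e' : Coll P L) • F.X = (e : Coll P L) • F.X ↔ cs e = cs e' :=
          ⟨fun h => congrArg cs (F.slope_injective h).symm, fun h => by rw [hcs h]⟩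
        rw [this]
        simp [dotProduct, Fin.sum_univ_three, add_neg_eq_zero]
  choose wl hw0 hw using hwl
  refine ⟨Shrink.{0} R, inferInstance, inferInstance,
    proj_model hcardF.symm vp wl (fun a => ?_) hw0 (fun a l => hw l a) fun a b t h => ?_⟩
  · rcases hcases a with ⟨x, y, rfl⟩ | rfl | ⟨e, rfl⟩
    · rw [hvA _ x y rfl]
      exact fun h => by simpa using congrFun h 2
    · rw [hvY _ rfl]
      exact fun h => by simpa using congrFun h 1
    · rw [hvS _ e rfl]
      exact fun h => by simpa using congrFun h 0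
  · have h0 := congrFun h 0
    have h1 := congrFun h 1
    have h2 := congrFun h 2
    rcases hcases a with ⟨x, y, rfl⟩ | rfl | ⟨e, rfl⟩ <;>
      rcases hcases b with ⟨x', y', rfl⟩ | rfl | ⟨e', rfl⟩
    · rw [hvA _ x y rfl, hvA _ x' y' rfl] at h0 h1 h2
      simp at h0 h1 h2
      subst h2
      rw [one_mul] at h0 h1
      rw [hcx h0, hcy h1]
    · rw [hvA _ x y rfl, hvY _ rfl] at h0 h1 h2
      simp at h0 h1 h2
      subst h2
      simp at h1
    · rw [hvA _ x y rfl, hvS _ e' rfl] at h0 h1 h2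
      simp at h0 h1 h2
      subst h2
      simp at h0
    · rw [hvY _ rfl, hvA _ x' y' rfl] at h2
      simp at h2
    · rfl
    · rw [hvY _ rfl, hvS _ e' rfl] at h0
      simp at h0
    · rw [hvS _ e rfl, hvA _ x' y' rfl] at h2
      simp at h2
    · rw [hvS _ e rfl, hvY _ rfl] at h0 h1
      simp at h0 h1
      subst h0
      simp at h1
    · rw [hvS _ e rfl, hvS _ e' rfl] at h0 h1
      simp at h0 h1
      subst h0
      rw [one_mul] at h1
      rw [hcs h1]

/-- A plane with all elation groups full is Desarguesian. -/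
theorem desarguesian_of_full (hF : ∀ m : L, Full G m) :
    ∃ (K : Type) (_ : Field K) (_ : Fintype K) (φ : P ≃ Projectivization K (Fin 3 → K)),
      (∀ l : L, ∃ W : Submodule K (Fin 3 → K), Module.finrank K W = 2 ∧
          ∀ p : P, p ∈ l ↔ (φ p).submodule ≤ W) ∧
      (∀ W : Submodule K (Fin 3 → K), Module.finrank K W = 2 →
          ∃ l : L, ∀ p : P, p ∈ l ↔ (φ p).submodule ≤ W) := by
  obtain ⟨x, -, -, l, -, -, -, -, -, -, -, -, -, -⟩ := @ProjectivePlane.exists_config P L _ _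
  obtain ⟨a, ha, -, -⟩ := exists_third_point (P := P) l x x
  obtain ⟨b, hb, hba, -⟩ := exists_third_point (P := P) l a a
  obtain ⟨o, ho⟩ := Nondegenerate.exists_point (P := P) l
  exact Frame.desarguesian ⟨l, a, b, o, ha, hb, Ne.symm hba, ho, hF⟩

end Cfsg.Agent.OstromPlane
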