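/-
Two criteria: every point a centre and every line an axis of elations of the same prime order forces
full elation groups; a finite plane has no polarity without absolute points.

Main results (namespace `Cfsg.Agent.OstromPlane`): `full_of_elations`, `no_polarity`, `not_unique_homologies`.
-/
import Cfsg.Agent.Lib.OstromWagner.Translation

set_option autoImplicit false
set_option linter.unusedSectionVars false

namespace Cfsg.Agent.OstromPlane

open Configuration

universe u v

variable {P : Type u} {L : Type v} [Membership P L]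

open scoped Classical in
theorem card_modEq_fixed {G X : Type*} [Group G] [MulAction G X] {g : G} {p : ℕ} (hp : p.Prime)
    (hg : g ^ p = 1) (S : Finset X) (hS : ∀ a, a ∈ S ↔ g • a ∈ S) : (S.filter fun a => g • a = a).card ≡ S.card [MOD p] := by
  haveI := Fact.mk hp
  let σ : Equiv.Perm {a : X // a ∈ S} :=
    (MulAction.toPerm g).subtypePerm fun a => (hS a).symm
  have hpow : ∀ (j : ℕ) (a : {a : X // a ∈ S}), ((σ ^ j) a).1 = g ^ j • a.1 := by
    intro j
    induction j with
    | zero => intro a; simp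
    | succ j ih =>
      intro a
      rw [pow_succ, Equiv.Perm.mul_apply, ih, pow_succ, mul_smul]
      rfl
  have hσ : σ ^ p ^ 1 = 1 := Equiv.ext fun a => Subtype.ext (by
    rw [pow_one, hpow, hg, one_smul]; rfl)
  have h := Equiv.Perm.card_compl_support_modEq (p := p) hσ
  rw [Fintype.card_coe] at h
  have hc : (S.filter fun a => g • a = a).card = σ.supportᶜ.card := by
    refine Finset.card_bij (fun a ha => ⟨a, (Finset.mem_filter.1 ha).1⟩) ?_
      (fun _ _ _ _ e => congrArg Subtype.val e) ?_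
    · intro a ha
      rw [Finset.mem_compl, Equiv.Perm.mem_support, not_not]
      exact Subtype.ext (Finset.mem_filter.1 ha).2
    · intro a ha
      rw [Finset.mem_compl, Equiv.Perm.mem_support, not_not] at ha
      exact ⟨a.1, Finset.mem_filter.2 ⟨a.2, congrArg Subtype.val ha⟩, rfl⟩
  exact hc ▸ h

variable [ProjectivePlane P L] [Finite P] [Finite L]

theorem full_of_elations [Fintype P] [Fintype L] (H : Subgroup (Coll P L)) {p : ℕ} (hp : p.Prime)
    (hline : ∀ l : L, ∃ c : P, c ∈ l ∧ ∃ g ∈ elat H c l, orderOf g = p)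
    (hpoint : ∀ c : P, ∃ l : L, c ∈ l ∧ ∃ g ∈ elat H c l, orderOf g = p) (l : L) : Full H l := by
  classical
  have hne : ∀ {g : Coll P L}, orderOf g = p → g ≠ 1 := fun hg e =>
    hp.ne_one (by rw [← hg, e, orderOf_one])
  have hgood : ∀ d : P, d ∈ l → ∃ b : L, b ≠ l ∧ d ∈ b ∧ ∃ g ∈ elat H d b, orderOf g = p := by
    intro d hd
    by_contra! hbad
    obtain ⟨b, hdb, hbl, -⟩ := exists_third_line d l l
    obtain ⟨c, hcb, σ, hσ, hσo⟩ := hline b
    have hcd : c ≠ d := fun e => hbad b hbl hdb σ (e ▸ hσ) hσo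
    obtain ⟨a, hda, g, hg, hgo⟩ := hpoint d
    have hal : a = l := by_contra fun h => hbad a h hda g hg hgo
    subst hal
    have hconj := conj_mem_elat hσ.1 hg
    rw [hσ.2.1 d hdb] at hconj
    have hfix : σ • a = a := by
      by_contra hσa
      refine hbad (σ • a) hσa (mem_smul_of_fixed σ (hσ.2.1 d hdb) hd) _ hconj ?_
      rw [← MulAut.conj_apply, MulEquiv.orderOf_eq]
      exact hgo
    rcases hσ.2.1.fixed_line (hne hσo) hσ.2.2 hfix with hca | hab
    · exact hcd (point_unique hbl hcb hca hdb hd)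
    · exact hbl hab.symm
  have hmove : ∀ d : P, d ∈ l → ∃ g ∈ H, g ^ p = 1 ∧ g • l = l ∧ g • d = d ∧
      ∀ a : P, a ∈ l → g • a = a → a = d := by
    intro d hd
    obtain ⟨b, hbl, hdb, g, hg, hgo⟩ := hgood d hd
    exact ⟨g, hg.1, hgo ▸ pow_orderOf_eq_one g, hg.2.2 l hd, hg.2.2.smul_point, fun a ha e =>
      point_unique hbl (fixed_mem_axis (hne hgo) hg.2.1 hg.2.2 hdb e) ha hdb hd⟩
  have htrans : ∀ a d : P, a ∈ l → d ∈ l → ∃ h ∈ H, h • l = l ∧ h • a = d := by
    intro a d ha hd
    by_contra hnot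
    set O : Finset P := Finset.univ.filter fun x => ∃ h ∈ H, h • l = l ∧ h • a = x with hOdef
    have hOinv : ∀ g ∈ H, g • l = l → ∀ x, x ∈ O ↔ g • x ∈ O := by
      intro g hg hgl x
      simp only [hOdef, Finset.mem_filter, Finset.mem_univ, true_and]
      constructor
      · rintro ⟨h, hh, hhl, rfl⟩
        exact ⟨g * h, H.mul_mem hg hh, by rw [mul_smul, hhl, hgl], mul_smul g h a⟩
      · rintro ⟨h, hh, hhl, e⟩
        refine ⟨g⁻¹ * h, H.mul_mem (H.inv_mem hg) hh, ?_, by rw [mul_smul, e, inv_smul_smul]⟩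
        rw [mul_smul, hhl, inv_smul_eq_iff, hgl]
    have hOl : ∀ x ∈ O, x ∈ l := by
      intro x hx
      obtain ⟨h, -, hhl, rfl⟩ := (Finset.mem_filter.1 hx).2
      exact smul_mem_of_fixed h hhl ha
    have haO : a ∈ O := Finset.mem_filter.2 ⟨Finset.mem_univ _, 1, H.one_mem, one_smul _ _, one_smul _ _⟩
    have hdO : d ∉ O := fun h => hnot (Finset.mem_filter.1 h).2
    obtain ⟨g, hg, hgp, hgl, hga, hgo⟩ := hmove a ha
    have h1 := card_modEq_fixed hp hgp O (hOinv g hg hgl)
    have e1 : O.filter (fun x => g • x = x) = {a} := by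
      ext x
      simp only [Finset.mem_filter, Finset.mem_singleton]
      exact ⟨fun h => hgo x (hOl x h.1) h.2, fun e => e ▸ ⟨haO, hga⟩⟩
    obtain ⟨g', hg', hgp', hgl', hgd, hgo'⟩ := hmove d hd
    have h2 := card_modEq_fixed hp hgp' O (hOinv g' hg' hgl')
    have e2 : O.filter (fun x => g' • x = x) = ∅ := by
      ext x
      simp only [Finset.mem_filter, Finset.notMem_empty, iff_false, not_and]
      exact fun hx e => hdO (hgo' x (hOl x hx) e ▸ hx)
    rw [e1, Finset.card_singleton] at h1
    rw [e2, Finset.card_empty] at h2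
    exact hp.not_dvd_one (Nat.modEq_zero_iff_dvd.1 (h1.trans h2.symm))
  obtain ⟨c, hc, g, hg, hgo⟩ := hline l
  refine full_of_const H l (h := Nat.card (elat H c l)) ?_ fun d hd => ?_
  · rw [Nat.succ_le_iff, Subgroup.one_lt_card_iff_ne_bot]
    exact fun e => hne hgo (Subgroup.mem_bot.1 (e ▸ hg))
  · obtain ⟨h, hh, hhl, hhc⟩ := htrans c d hc hd
    rw [← card_elat_smul hh (c := c) (l := l), hhl, hhc]

/-- Baer: every polarity of a finite plane has an absolute point. -/
theorem no_polarity [Fintype P] [Fintype L] (φ : P → L) (hinj : Function.Injective φ)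
    (habs : ∀ c : P, c ∉ φ c) (hsymm : ∀ c d : P, d ∈ φ c → c ∈ φ d) : False := by
  classical
  set k := ProjectivePlane.order P L with hk
  have hk1 := ProjectivePlane.one_lt_order P L
  obtain ⟨p, hp, hpk⟩ := Nat.exists_prime_and_dvd (show k ≠ 1 by omega)
  haveI := Fact.mk hp
  have hk0 : (k : ZMod p) = 0 := (ZMod.natCast_eq_zero_iff k p).2 hpk
  let M : Matrix P P (ZMod p) := Matrix.of fun c d => if d ∈ φ c then 1 else 0
  let J : Matrix P P (ZMod p) := Matrix.of fun _ _ => 1
  have hsq : M * M = J := by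
    ext c d
    have : (Finset.univ.filter fun e : P => e ∈ φ c ∧ d ∈ φ e) =
        Finset.univ.filter fun e : P => e ∈ φ c ∧ e ∈ φ d :=
      Finset.filter_congr fun e _ => ⟨fun h => ⟨h.1, hsymm _ _ h.2⟩, fun h => ⟨h.1, hsymm _ _ h.2⟩⟩
    simp only [M, J, Matrix.mul_apply, Matrix.of_apply, ite_mul, one_mul, zero_mul, ← ite_and]
    rw [Finset.sum_boole, this]
    by_cases hcd : c = d
    · subst hcd
      have : (Finset.univ.filter fun e : P => e ∈ φ c ∧ e ∈ φ c) = pts (φ c) := by ext; simp
      rw [this, card_pts, Nat.cast_add, Nat.cast_one, ← hk, hk0, zero_add]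
    · have hne : φ c ≠ φ d := fun e => hcd (hinj e)
      have : (Finset.univ.filter fun e : P => e ∈ φ c ∧ e ∈ φ d) = {meet (φ c) (φ d)} := by
        ext e
        simp only [Finset.mem_filter, Finset.mem_univ, true_and, Finset.mem_singleton]
        exact ⟨fun h => (meet_eq hne h.1 h.2).symm, fun h => h ▸ ⟨meet_mem_left _ _, meet_mem_right _ _⟩⟩
      rw [this, Finset.card_singleton, Nat.cast_one]
  have hJM : J * M = J := by
    ext c d
    simp only [M, J, Matrix.mul_apply, Matrix.of_apply, one_mul]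
    rw [Finset.sum_boole]
    have : (Finset.univ.filter fun e : P => d ∈ φ e) = pts (φ d) := by
      ext e
      simp only [Finset.mem_filter, Finset.mem_univ, true_and, mem_pts]
      exact ⟨hsymm e d, hsymm d e⟩
    rw [this, card_pts, Nat.cast_add, Nat.cast_one, ← hk, hk0, zero_add]
  have hpow : ∀ j : ℕ, M ^ (j + 2) = J := by
    intro j
    induction j with
    | zero => rw [pow_two, hsq]
    | succ j ih => rw [pow_succ, ih, hJM]
  obtain ⟨j, hj⟩ : ∃ j, p = j + 2 := ⟨p - 2, by have := hp.two_le; omega⟩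
  have htr := ZMod.trace_pow_card (p := p) M
  have h1 : M ^ p = J := by
    conv_lhs => arg 2; rw [hj]
    exact hpow j
  have h2 : M.trace = 0 := by
    simp [Matrix.trace, M, habs]
  have h3 : J.trace = 1 := by
    simp only [Matrix.trace, J, Matrix.diag, Matrix.of_apply, Finset.sum_const, nsmul_one, Finset.card_univ]
    rw [ProjectivePlane.card_points P L, ← hk, Nat.cast_add, Nat.cast_add, Nat.cast_pow, hk0]
    simp
  rw [h1, h2, h3, zero_pow hp.ne_zero] at htr
  exact one_ne_zero htr

/-- `H` contains an involution with centre `c` and axis `l`. -/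
def HomPair (H : Subgroup (Coll P L)) (c : P) (l : L) : Prop :=
  ∃ g ∈ H, Invol g ∧ Axis g l ∧ Center g c

theorem HomPair.conj {H : Subgroup (Coll P L)} {c : P} {l : L} {h : Coll P L} (hh : h ∈ H)
    (hc : HomPair H c l) : HomPair H (h • c) (h • l) := by
  obtain ⟨g, hg, hi, ha, hz⟩ := hc
  exact ⟨h * g * h⁻¹, H.mul_mem (H.mul_mem hh hg) (H.inv_mem hh), hi.conj h, ha.conj h, hz.conj h⟩

theorem HomPair.not_mem [Fintype P] [Fintype L] {H : Subgroup (Coll P L)} {c : P} {l : L}
    (hodd : Odd (ProjectivePlane.order P L)) (hc : HomPair H c l) : c ∉ l := by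
  obtain ⟨g, -, hi, ha, hz⟩ := hc
  exact fun h => (Nat.not_even_iff_odd.2 hodd) ((hi.center_mem_axis_iff ha hz).1 h)

theorem not_unique_homologies [Fintype P] [Fintype L] {H : Subgroup (Coll P L)}
    (hodd : Odd (ProjectivePlane.order P L)) (hpt : ∀ c : P, ∃ l : L, HomPair H c l)
    (h1 : ∀ (c : P) (l m : L), HomPair H c l → HomPair H c m → l = m)
    (h2 : ∀ (c d : P) (l : L), HomPair H c l → HomPair H d l → c = d) : False := by
  choose φ hφ using hpt
  refine no_polarity φ (fun c d e => h2 c d _ (hφ c) (e ▸ hφ d)) (fun c => (hφ c).not_mem hodd)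
    fun c d hd => ?_
  obtain ⟨g, hg, hi, ha, hz⟩ := hφ c
  have h : HomPair H d (g • φ d) := by
    simpa [ha d hd] using (hφ d).conj hg
  rcases ha.fixed_line hi.ne hz (h1 d _ _ h (hφ d)) with hc | he
  · exact hc
  · exact absurd (h2 d c (φ c) (he ▸ hφ d) (hφ c) ▸ hd) ((hφ c).not_mem hodd)

end Cfsg.Agent.OstromPlane
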