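/-
Groups of collineations in which every pair of points and every pair of lines is fixed by an involution,
all involutions being central collineations: even order, and every line is an axis in odd order.

Main results (namespace `Cfsg.Agent.OstromPlane`): `Covered`, `Covered.dual`, `exists_homPair_axis`,
`exists_homPair_center`, `full_of_fixed_line`, `Covered.full_of_even`.
-/
import Cfsg.Agent.Lib.OstromWagner.Transitive

set_option autoImplicit false
set_option linter.unusedSectionVars false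

namespace Cfsg.Agent.OstromPlane

open Configuration

universe u v

variable {P : Type u} {L : Type v} [Membership P L]

/-- Pairs of points and of lines have involutions fixing them, and involutions have axes. -/
structure Covered (H : Subgroup (Coll P L)) : Prop where
  points : ∀ x y : P, x ≠ y → ∃ g ∈ H, Invol g ∧ g • x = x ∧ g • y = y
  lines : ∀ l m : L, l ≠ m → ∃ g ∈ H, Invol g ∧ g • l = l ∧ g • m = m
  axis : ∀ g ∈ H, Invol g → ∃ l : L, Axis g l

variable [ProjectivePlane P L] [Finite P] [Finite L]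

theorem Covered.dual {H : Subgroup (Coll P L)} (hH : Covered H) :
    Covered (H.map (dualHom (P := P) (L := L))) := by
  refine ⟨fun l m h => ?_, fun x y h => ?_, ?_⟩
  · obtain ⟨g, hg, hi, h1, h2⟩ := hH.lines l m h
    exact ⟨dualHom g, Subgroup.mem_map_of_mem _ hg, hi.dual, h1, h2⟩
  · obtain ⟨g, hg, hi, h1, h2⟩ := hH.points x y h
    exact ⟨dualHom g, Subgroup.mem_map_of_mem _ hg, hi.dual, h1, h2⟩
  · rintro _ ⟨g, hg, rfl⟩ hi
    have hgi : Invol g := ⟨dualHom_injective (by rw [map_mul, hi.sq, map_one]),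
      fun e => hi.ne (by rw [e, map_one])⟩
    obtain ⟨l, hl⟩ := hH.axis g hg hgi
    obtain ⟨c, hc⟩ := hl.exists_center
    exact ⟨dln c, center_iff_dual.1 hc⟩

theorem homPair_dual {H : Subgroup (Coll P L)} {c : P} {l : L} (h : HomPair H c l) :
    HomPair (H.map (dualHom (P := P) (L := L))) (dpt l) (dln c) := by
  obtain ⟨g, hg, hi, ha, hc⟩ := h
  exact ⟨dualHom g, Subgroup.mem_map_of_mem _ hg, hi.dual, center_iff_dual.1 hc, axis_iff_dual.1 ha⟩

theorem homPair_of_dual {H : Subgroup (Coll P L)} {c : P} {l : L}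
    (h : HomPair (H.map (dualHom (P := P) (L := L))) (dpt l) (dln c)) : HomPair H c l := by
  obtain ⟨-, ⟨g, hg, rfl⟩, hi, ha, hc⟩ := h
  exact ⟨g, hg, ⟨dualHom_injective (by rw [map_mul, hi.sq, map_one]),
    fun e => hi.ne (by rw [e, map_one])⟩, axis_iff_dual.2 hc, center_iff_dual.2 ha⟩

theorem orderOf_of_invol {g : Coll P L} (hg : Invol g) : orderOf g = 2 :=
  orderOf_eq_prime (by rw [pow_two]; exact hg.sq) hg.ne

/-- An involution fixing two points has one of them as centre, or the axis through both. -/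
theorem Invol.fixed_pair {g : Coll P L} {a : L} {c x y : P} (hg : Invol g) (ha : Axis g a)
    (hc : Center g c) (hxy : x ≠ y) (hx : g • x = x) (hy : g • y = y) :
    (x ∈ a ∧ y ∈ a) ∨ (c = x ∧ y ∈ a) ∨ (c = y ∧ x ∈ a) := by
  rcases ha.fixed_point hg.ne hc hx with h1 | h1 <;> rcases ha.fixed_point hg.ne hc hy with h2 | h2
  · exact Or.inl ⟨h1, h2⟩
  · exact Or.inr (Or.inr ⟨h2.symm, h1⟩)
  · exact Or.inr (Or.inl ⟨h1.symm, h2⟩)
  · exact absurd (h1.trans h2.symm) hxy

variable [Fintype P] [Fintype L] {H : Subgroup (Coll P L)}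

theorem Covered.full_of_even (hH : Covered H) (he : Even (ProjectivePlane.order P L)) (l : L) :
    Full H l := by
  have key : ∀ {P : Type u} {L : Type v} [Membership P L] [ProjectivePlane P L] [Finite P] [Finite L]
      [Fintype P] [Fintype L] {H : Subgroup (Coll P L)}, Covered H →
      Even (ProjectivePlane.order P L) → ∀ l : L, ∃ c : P, c ∈ l ∧ ∃ g ∈ elat H c l, orderOf g = 2 := by
    intro P L _ _ _ _ _ _ H hH he l
    obtain ⟨x, hx, -, -⟩ := exists_third_point (P := P) l (meet l l) (meet l l)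
    obtain ⟨y, hy, hyx, -⟩ := exists_third_point (P := P) l x x
    obtain ⟨g, hg, hi, hgy, hgx⟩ := hH.points y x hyx
    obtain ⟨a, ha⟩ := hH.axis g hg hi
    obtain ⟨c, hc⟩ := ha.exists_center
    have hca := (hi.center_mem_axis_iff ha hc).2 he
    have hmem : ∀ z : P, g • z = z → z ∈ a := fun z hz => fixed_mem_axis hi.ne ha hc hca hz
    have hal : a = l := line_unique hyx (hmem y hgy) (hmem x hgx) hy hx
    exact ⟨c, hal ▸ hca, g, ⟨hg, hal ▸ ha, hc⟩, orderOf_of_invol hi⟩
  refine full_of_elations H Nat.prime_two (key hH he) (fun c => ?_) l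
  have : Fintype (Dual L) := inferInstanceAs (Fintype L)
  have : Fintype (Dual P) := inferInstanceAs (Fintype P)
  obtain ⟨x, y, hxy, -⟩ : ∃ x y : P, x ≠ y ∧ True := by
    obtain ⟨p, -, -, q, -, -, -, -, -, -, -, -, -, -⟩ := @ProjectivePlane.exists_config P L _ _
    obtain ⟨l, hl⟩ := Nondegenerate.exists_line (L := L) p
    obtain ⟨r, hr, -, -⟩ := exists_third_point (P := P) l p p
    exact ⟨p, r, fun e => hl (e ▸ hr), trivial⟩
  obtain ⟨l', hc, l₁, hl₁, hne⟩ : ∃ m : L, c ∈ m ∧ ∃ m' : L, c ∈ m' ∧ m' ≠ m := by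
    obtain ⟨m, hm, -, -⟩ := exists_third_line c (join c c : L) (join c c)
    obtain ⟨m', hm', hmm, -⟩ := exists_third_line c m m
    exact ⟨m, hm, m', hm', hmm⟩
  obtain ⟨g, hg, hi, h1, h2⟩ := hH.lines l₁ l' hne
  obtain ⟨a, ha⟩ := hH.axis g hg hi
  obtain ⟨z, hz⟩ := ha.exists_center
  have hza := (hi.center_mem_axis_iff ha hz).2 he
  have hmem : ∀ m : L, g • m = m → z ∈ m := fun m hm =>
    (ha.fixed_line hi.ne hz hm).elim id fun e => e ▸ hza
  have hzc : z = c := point_unique hne (hmem l₁ h1) (hmem l' h2) hl₁ hc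
  exact ⟨a, hzc ▸ hza, g, ⟨hg, ha, hzc ▸ hz⟩, orderOf_of_invol hi⟩

/-- Commuting involutions centred at two fixed points of each other give a homology with axis through both. -/
theorem commuting_frame (hH : Covered H) (hodd : Odd (ProjectivePlane.order P L)) {z k : Coll P L}
    {x y : P} (hz : z ∈ H) (hk : k ∈ H) (hzi : Invol z) (hki : Invol k) (hxy : x ≠ y)
    (hzc : Center z x) (hkc : Center k y) (hzy : z • y = y) (hkx : k • x = x) (hcomm : Commute z k) :
    ∃ c : P, HomPair H c (join x y) := by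
  have hne : z ≠ k := fun e => hxy (Center.unique hzi.ne hzc (e ▸ hkc))
  have hzinv : z⁻¹ = z := inv_eq_of_mul_eq_one_right hzi.sq
  have hkinv : k⁻¹ = k := inv_eq_of_mul_eq_one_right hki.sq
  have hwi : Invol (z * k) := by
    refine ⟨?_, fun e => hne ?_⟩
    · rw [mul_assoc, ← mul_assoc k z, ← hcomm.eq, mul_assoc z k k, hki.sq, mul_one, hzi.sq]
    · rw [eq_inv_of_mul_eq_one_left e, hkinv]
  have hw : z * k ∈ H := H.mul_mem hz hk
  obtain ⟨a, hza⟩ := hzc.exists_axis
  obtain ⟨f, hkf⟩ := hkc.exists_axis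
  obtain ⟨b, hwb⟩ := hH.axis _ hw hwi
  obtain ⟨d, hwd⟩ := hwb.exists_center
  have hxa : x ∉ a := fun h => Nat.not_even_iff_odd.2 hodd ((hzi.center_mem_axis_iff hza hzc).1 h)
  have hyf : y ∉ f := fun h => Nat.not_even_iff_odd.2 hodd ((hki.center_mem_axis_iff hkf hkc).1 h)
  have hdb : d ∉ b := fun h => Nat.not_even_iff_odd.2 hodd ((hwi.center_mem_axis_iff hwb hwd).1 h)
  have hwx : (z * k) • x = x := by rw [mul_smul, hkx, hzc.smul_point]
  have hwy : (z * k) • y = y := by rw [mul_smul, hkc.smul_point, hzy]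
  rcases hwi.fixed_pair hwb hwd hxy hwx hwy with ⟨h1, h2⟩ | ⟨rfl, -⟩ | ⟨rfl, -⟩
  · exact ⟨d, z * k, hw, hwi, join_eq hxy h1 h2 ▸ hwb, hwd⟩
  · exfalso
    have hzb : z • b = b := Axis.unique hwi.ne (by
      have := hwb.conj z
      rwa [show z * (z * k) * z⁻¹ = z * k by
        rw [hzinv, ← mul_assoc, hzi.sq, one_mul, hcomm.eq]] at this) hwb
    rcases hza.fixed_line hzi.ne hzc hzb with h | rfl
    · exact hdb h
    · have hk' : Axis k b := by
        have := hza.mul hwb
        rwa [← mul_assoc, hzi.sq, one_mul] at this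
      rcases hk'.fixed_point hki.ne hkc hkx with h | h
      · exact hxa h
      · exact hxy h
  · exfalso
    have hkb : k • b = b := Axis.unique hwi.ne (by
      have := hwb.conj k
      rwa [show k * (z * k) * k⁻¹ = z * k by
        rw [hkinv, mul_assoc, mul_assoc, hki.sq, mul_one, hcomm.eq]] at this) hwb
    rcases hkf.fixed_line hki.ne hkc hkb with h | rfl
    · exact hdb h
    · have hz' : Axis z b := by
        have := hwb.mul hkf
        rwa [mul_assoc, hki.sq, mul_one] at this
      rcases hz'.fixed_point hzi.ne hzc hzy with h | h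
      · exact hyf h
      · exact hxy h.symm

/-- The frame lemma. -/
theorem frame (hH : Covered H) (hodd : Odd (ProjectivePlane.order P L)) {g k : Coll P L} {x y : P}
    (hg : g ∈ H) (hk : k ∈ H) (hgi : Invol g) (hki : Invol k) (hxy : x ≠ y)
    (hgc : Center g x) (hkc : Center k y) (hgy : g • y = y) (hkx : k • x = x) :
    ∃ c : P, HomPair H c (join x y) := by
  have hginv : g⁻¹ = g := inv_eq_of_mul_eq_one_right hgi.sq
  have hkinv : k⁻¹ = k := inv_eq_of_mul_eq_one_right hki.sq
  set r := g * k with hr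
  have hrx : r ∈ MulAction.stabilizer (Coll P L) x := by
    rw [MulAction.mem_stabilizer_iff, hr, mul_smul, hkx, hgc.smul_point]
  have hry : r ∈ MulAction.stabilizer (Coll P L) y := by
    rw [MulAction.mem_stabilizer_iff, hr, mul_smul, hkc.smul_point, hgy]
  have hgr : g * r * g⁻¹ = r⁻¹ := by
    rw [hr, mul_inv_rev, hginv, hkinv, ← mul_assoc, hgi.sq, one_mul]
  have hflip : ∀ j : ℕ, g * r ^ j * g⁻¹ = (r ^ j)⁻¹ := fun j => by
    rw [← conj_pow, hgr, inv_pow]
  rcases Nat.even_or_odd (orderOf r) with ⟨j, hj⟩ | ⟨j, hj⟩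
  · have hpos : 0 < orderOf r := orderOf_pos r
    have hz2 : r ^ j * r ^ j = 1 := by rw [← pow_add, ← hj, pow_orderOf_eq_one]
    have hzi : Invol (r ^ j) := ⟨hz2, pow_ne_one_of_lt_orderOf (by omega) (by omega)⟩
    have hzinv : (r ^ j)⁻¹ = r ^ j := inv_eq_of_mul_eq_one_right hz2
    have hzg : Commute (r ^ j) g := by
      have := hflip j
      rw [hzinv, mul_inv_eq_iff_eq_mul] at this
      exact this.symm
    have hzk : Commute (r ^ j) k := by
      have hk' : k = g * r := by rw [hr, ← mul_assoc, hgi.sq, one_mul]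
      rw [hk']
      exact hzg.mul_right ((Commute.refl r).pow_left j)
    have hzH : r ^ j ∈ H := H.pow_mem (H.mul_mem hg hk) j
    have hzx : r ^ j • x = x := (MulAction.stabilizer (Coll P L) x).pow_mem hrx j
    have hzy : r ^ j • y = y := (MulAction.stabilizer (Coll P L) y).pow_mem hry j
    obtain ⟨a, ha⟩ := hH.axis _ hzH hzi
    obtain ⟨c, hc⟩ := ha.exists_center
    rcases hzi.fixed_pair ha hc hxy hzx hzy with ⟨h1, h2⟩ | ⟨rfl, -⟩ | ⟨rfl, -⟩
    · exact ⟨c, r ^ j, hzH, hzi, join_eq hxy h1 h2 ▸ ha, hc⟩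
    · exact commuting_frame hH hodd hzH hk hzi hki hxy hc hkc hzy hkx hzk
    · exact commuting_frame hH hodd hg hzH hgi hzi hxy hgc hc hgy hzx hzg.symm
  · exfalso
    have hconj : r ^ j * g * (r ^ j)⁻¹ = k := by
      have h1 : g * (r ^ j)⁻¹ = r ^ j * g := by
        have := congrArg (·⁻¹) (hflip j)
        simp only [mul_inv_rev, inv_inv] at this
        rwa [← mul_assoc, mul_inv_eq_iff_eq_mul] at this
      rw [mul_assoc, h1, ← mul_assoc, ← pow_add]
      have h3 : r ^ (j + j) * r = 1 := by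
        rw [← pow_succ, show j + j + 1 = orderOf r by omega, pow_orderOf_eq_one]
      rw [eq_inv_of_mul_eq_one_left h3, hr, mul_inv_rev, hginv, hkinv, mul_assoc, hgi.sq, mul_one]
    have : Center k (r ^ j • x) := hconj ▸ hgc.conj (r ^ j)
    rw [show r ^ j • x = x from (MulAction.stabilizer (Coll P L) x).pow_mem hrx j] at this
    exact hxy (Center.unique hki.ne this hkc)

/-- In odd order every line is the axis of a homology. -/
theorem exists_homPair_axis (hH : Covered H) (hodd : Odd (ProjectivePlane.order P L)) (l : L) :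
    ∃ c : P, HomPair H c l := by
  by_contra hno
  push Not at hno
  have orient : ∀ x y : P, x ≠ y → x ∈ l → y ∈ l →
      (∃ g ∈ H, Invol g ∧ Center g x ∧ g • y = y) ∨ (∃ g ∈ H, Invol g ∧ Center g y ∧ g • x = x) := by
    intro x y hxy hx hy
    obtain ⟨g, hg, hi, h1, h2⟩ := hH.points x y hxy
    obtain ⟨a, ha⟩ := hH.axis g hg hi
    obtain ⟨c, hc⟩ := ha.exists_center
    rcases hi.fixed_pair ha hc hxy h1 h2 with ⟨e1, e2⟩ | ⟨rfl, -⟩ | ⟨rfl, -⟩
    · exact absurd ⟨g, hg, hi, line_unique hxy e1 e2 hx hy ▸ ha, hc⟩ (hno c)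
    · exact Or.inl ⟨g, hg, hi, hc, h2⟩
    · exact Or.inr ⟨g, hg, hi, hc, h1⟩
  have excl : ∀ x y : P, x ≠ y → x ∈ l → y ∈ l → ∀ g ∈ H, ∀ k ∈ H, Invol g → Invol k → Center g x →
      Center k y → g • y = y → k • x = x → False := by
    intro x y hxy hx hy g hg k hk hgi hki hgc hkc hgy hkx
    obtain ⟨c, hc⟩ := frame hH hodd hg hk hgi hki hxy hgc hkc hgy hkx
    rw [join_eq hxy hx hy] at hc
    exact hno c hc
  have step : ∀ x y : P, x ≠ y → x ∈ l → y ∈ l → ∀ g ∈ H, Invol g → Center g x → g • y = y → False := by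
    intro x y hxy hx hy g hg hi hc hgy
    obtain ⟨a, ha⟩ := hc.exists_axis
    have hya : y ∈ a := (ha.fixed_point hi.ne hc hgy).resolve_right (Ne.symm hxy)
    have hxa : x ∉ a := fun h => Nat.not_even_iff_odd.2 hodd ((hi.center_mem_axis_iff ha hc).1 h)
    obtain ⟨z, hz, hzx, hzy⟩ := exists_third_point l x y
    have hgl : g • l = l := hc l hx
    have hgz : g • z ≠ z := fun e => by
      rcases ha.fixed_point hi.ne hc e with h | h
      · exact hzy (point_unique (fun e' : l = a => hxa (e' ▸ hx)) hz h hy hya)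
      · exact hzx h
    have hgzl : g • z ∈ l := smul_mem_of_fixed g hgl hz
    have flip : ∀ w w' : P, g • w = w' → g • w' = w → w ≠ w' → w ∈ l → w' ∈ l →
        ∀ k ∈ H, Invol k → Center k w → k • w' = w' → False := by
      intro w w' e1 e2 hne hw hw' k hk hki hkc hkw
      refine excl w w' hne hw hw' k hk (g * k * g⁻¹) (H.mul_mem (H.mul_mem hg hk) (H.inv_mem hg)) hki
        (hki.conj g) hkc (e1 ▸ hkc.conj g) hkw ?_
      rw [mul_smul, mul_smul, inv_smul_eq_iff.2 e2.symm, hkw, e2]
    rcases orient z (g • z) (Ne.symm hgz) hz hgzl with ⟨k, hk, hki, hkc, hkw⟩ | ⟨k, hk, hki, hkc, hkw⟩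
    · exact flip z (g • z) rfl (hi.smul_smul_point z) (Ne.symm hgz) hz hgzl k hk hki hkc hkw
    · exact flip (g • z) z (hi.smul_smul_point z) rfl hgz hgzl hz k hk hki hkc hkw
  obtain ⟨x, hx, -, -⟩ := exists_third_point (P := P) l (meet l l) (meet l l)
  obtain ⟨y, hy, hyx, -⟩ := exists_third_point (P := P) l x x
  rcases orient y x hyx hy hx with ⟨g, hg, hi, hc, hf⟩ | ⟨g, hg, hi, hc, hf⟩
  · exact step y x hyx hy hx g hg hi hc hf
  · exact step x y (Ne.symm hyx) hx hy g hg hi hc hf

/-- In odd order every point is the centre of a homology. -/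
theorem exists_homPair_center (hH : Covered H) (hodd : Odd (ProjectivePlane.order P L)) (c : P) :
    ∃ l : L, HomPair H c l := by
  have : Fintype (Dual L) := inferInstanceAs (Fintype L)
  have : Fintype (Dual P) := inferInstanceAs (Fintype P)
  obtain ⟨l, hl⟩ := exists_homPair_axis hH.dual (by rwa [ProjectivePlane.Dual.order P L]) (dln c)
  exact ⟨l, homPair_of_dual hl⟩

theorem full_of_fixed_line (hH : Covered H) (hodd : Odd (ProjectivePlane.order P L)) {l : L}
    (hl : ∀ h ∈ H, h • l = l) : Full H l := by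
  refine full_of_centers H l fun a hal => ?_
  obtain ⟨b, g, hg, hi, ha, hc⟩ := exists_homPair_center hH hodd a
  rcases ha.fixed_line hi.ne hc (hl g hg) with h | rfl
  · exact absurd h hal
  · exact ⟨g, hg, hi, ha, hc⟩

end Cfsg.Agent.OstromPlane
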