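/-
Parity of line orbits at the points of a covered plane of odd order: every point is even or of edge type,
and the edge structure is a star or a triangle.

Main results (namespace `Cfsg.Agent.OstromPlane`): `InvL`, `Orb`, `cnt`, `EvenPt`, `EdgePt`, `Setup`,
`Setup.evenPt_or_edgePt`, `Setup.star_or_triangle`.
-/
import Cfsg.Agent.Lib.OstromWagner.Covered

set_option autoImplicit false
set_option linter.unusedSectionVars false

namespace Cfsg.Agent.OstromPlane

open Configuration

universe u v

variable {P : Type u} {L : Type v} [Membership P L]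

/-- An invariant set of lines. -/
def InvL (H : Subgroup (Coll P L)) (Q : L → Prop) : Prop := ∀ h ∈ H, ∀ l, Q l → Q (h • l)

/-- An invariant set of points. -/
def InvP (H : Subgroup (Coll P L)) (R : P → Prop) : Prop := ∀ h ∈ H, ∀ a, R a → R (h • a)

/-- The orbit of a line. -/
def Orb (H : Subgroup (Coll P L)) (l m : L) : Prop := ∃ h ∈ H, h • l = m

variable {H : Subgroup (Coll P L)}

theorem InvL.iff {Q : L → Prop} (hQ : InvL H Q) {h : Coll P L} (hh : h ∈ H) (l : L) : Q (h • l) ↔ Q l :=
  ⟨fun e => by simpa using hQ h⁻¹ (H.inv_mem hh) _ e, hQ h hh l⟩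

theorem InvP.iff {R : P → Prop} (hR : InvP H R) {h : Coll P L} (hh : h ∈ H) (a : P) : R (h • a) ↔ R a :=
  ⟨fun e => by simpa using hR h⁻¹ (H.inv_mem hh) _ e, hR h hh a⟩

theorem Orb.refl (l : L) : Orb H l l := ⟨1, H.one_mem, one_smul _ _⟩

theorem Orb.symm {l m : L} (e : Orb H l m) : Orb H m l := by
  obtain ⟨h, hh, rfl⟩ := e
  exact ⟨h⁻¹, H.inv_mem hh, inv_smul_smul h l⟩

theorem Orb.trans {l m n : L} (e : Orb H l m) (e' : Orb H m n) : Orb H l n := by
  obtain ⟨h, hh, rfl⟩ := e
  obtain ⟨k, hk, rfl⟩ := e'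
  exact ⟨k * h, H.mul_mem hk hh, mul_smul k h l⟩

theorem Orb.invL (l : L) : InvL H (Orb H l) := fun h hh m e => e.trans ⟨h, hh, rfl⟩

theorem InvL.of_orb {Q : L → Prop} (hQ : InvL H Q) {l m : L} (e : Orb H l m) : Q l ↔ Q m := by
  obtain ⟨h, hh, rfl⟩ := e
  exact (hQ.iff hh l).symm

section Count

variable [Fintype P] [Fintype L]

open scoped Classical in
/-- The number of lines of `Q` through a point. -/
noncomputable def cnt (d : P) (Q : L → Prop) : ℕ := ((lns d).filter fun l => Q l).card

open scoped Classical in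
/-- The number of points of `R` on a line. -/
noncomputable def onL (l : L) (R : P → Prop) : ℕ := ((pts l).filter fun a => R a).card

theorem cnt_smul {Q : L → Prop} (hQ : InvL H Q) {h : Coll P L} (hh : h ∈ H) (d : P) :
    cnt (h • d) Q = cnt d Q := by
  classical
  refine Finset.card_bij' (fun m _ => h⁻¹ • m) (fun m _ => h • m) ?_ ?_ (fun m _ => smul_inv_smul h m)
    (fun m _ => inv_smul_smul h m)
  · intro m hm
    simp only [Finset.mem_filter, mem_lns] at hm ⊢
    refine ⟨?_, (hQ.iff (H.inv_mem hh) m).2 hm.2⟩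
    rw [← smul_mem_iff h, smul_inv_smul]
    exact hm.1
  · intro m hm
    simp only [Finset.mem_filter, mem_lns] at hm ⊢
    exact ⟨smul_mem h hm.1, (hQ.iff hh m).2 hm.2⟩

theorem onL_smul {R : P → Prop} (hR : InvP H R) {h : Coll P L} (hh : h ∈ H) (l : L) :
    onL (h • l) R = onL l R := by
  classical
  refine Finset.card_bij' (fun a _ => h⁻¹ • a) (fun a _ => h • a) ?_ ?_ (fun a _ => smul_inv_smul h a)
    (fun a _ => inv_smul_smul h a)
  · intro a ha
    simp only [Finset.mem_filter, mem_pts] at ha ⊢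
    refine ⟨?_, (hR.iff (H.inv_mem hh) a).2 ha.2⟩
    rw [← smul_mem_iff h, smul_inv_smul]
    exact ha.1
  · intro a ha
    simp only [Finset.mem_filter, mem_pts] at ha ⊢
    exact ⟨smul_mem h ha.1, (hR.iff hh a).2 ha.2⟩

theorem onL_orb {R : P → Prop} (hR : InvP H R) {l m : L} (e : Orb H l m) : onL m R = onL l R := by
  obtain ⟨h, hh, rfl⟩ := e
  exact onL_smul hR hh l

theorem exists_of_cnt_pos {d : P} {Q : L → Prop} (h : cnt d Q ≠ 0) : ∃ l, d ∈ l ∧ Q l := by
  classical
  obtain ⟨l, hl⟩ := Finset.card_pos.1 (Nat.pos_of_ne_zero h)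
  simp only [Finset.mem_filter, mem_lns] at hl
  exact ⟨l, hl⟩

theorem cnt_eq_zero {d : P} {Q : L → Prop} (h : ∀ l, d ∈ l → ¬ Q l) : cnt d Q = 0 := by
  classical
  rw [cnt, Finset.card_eq_zero, Finset.filter_eq_empty_iff]
  exact fun l hl => h l (mem_lns.1 hl)

variable (H)

/-- All invariant line sets meet the pencil in an even number of lines. -/
def EvenPt (d : P) : Prop := ∀ Q : L → Prop, InvL H Q → Even (cnt d Q)

/-- The pencil consists of odd numbers of lines of two orbits. -/
def EdgePt (d : P) (a b : L) : Prop :=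
  ¬ Orb H a b ∧ (∀ m, d ∈ m → Orb H a m ∨ Orb H b m) ∧ Odd (cnt d (Orb H a)) ∧ Odd (cnt d (Orb H b))

variable {H}

theorem EdgePt.swap {d : P} {a b : L} (h : EdgePt H d a b) : EdgePt H d b a :=
  ⟨fun e => h.1 e.symm, fun m hm => (h.2.1 m hm).symm, h.2.2.2, h.2.2.1⟩

theorem orb_fun_eq {a a' : L} (e : Orb H a a') : Orb H a = Orb H a' :=
  funext fun _ => propext ⟨fun h => e.symm.trans h, fun h => e.trans h⟩

theorem EdgePt.congr {d : P} {a a' b b' : L} (h : EdgePt H d a b) (ha : Orb H a a') (hb : Orb H b b') :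
    EdgePt H d a' b' := by
  refine ⟨fun e => h.1 ((ha.trans e).trans hb.symm), ?_⟩
  rw [← orb_fun_eq ha, ← orb_fun_eq hb]
  exact h.2

theorem EdgePt.invP (a b : L) : InvP H fun d => EdgePt H d a b := fun h hh d e => by
  refine ⟨e.1, fun m hm => ?_, by rw [cnt_smul (Orb.invL a) hh]; exact e.2.2.1,
    by rw [cnt_smul (Orb.invL b) hh]; exact e.2.2.2⟩
  have : d ∈ h⁻¹ • m := by rw [← smul_mem_iff h, smul_inv_smul]; exact hm
  exact (e.2.1 _ this).imp (((Orb.invL a).iff (H.inv_mem hh) m).1) (((Orb.invL b).iff (H.inv_mem hh) m).1)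

theorem EvenPt.invP : InvP H (EvenPt H) := fun h hh d e Q hQ => by
  rw [cnt_smul hQ hh]
  exact e Q hQ

theorem EdgePt.exists_line {d : P} {a b : L} (h : EdgePt H d a b) : ∃ m, d ∈ m ∧ Orb H a m :=
  exists_of_cnt_pos fun e => Nat.not_odd_zero (e ▸ h.2.2.1)

theorem EdgePt.not_evenPt {d : P} {a b : L} (h : EdgePt H d a b) : ¬ EvenPt H d := fun e =>
  Nat.not_even_iff_odd.2 h.2.2.1 (e _ (Orb.invL a))

end Count

variable [ProjectivePlane P L] [Finite P] [Finite L] [Fintype P] [Fintype L]

/-- A covered plane of odd order. -/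
structure Setup (H : Subgroup (Coll P L)) : Prop where
  covered : Covered H
  odd : Odd (ProjectivePlane.order P L)

variable (hS : Setup H)

include hS

theorem Setup.center (l : L) : ∃ c, HomPair H c l := exists_homPair_axis hS.covered hS.odd l

theorem Setup.axis (c : P) : ∃ l, HomPair H c l := exists_homPair_center hS.covered hS.odd c

theorem Setup.ne_center {c d : P} {l : L} (hc : HomPair H c l) (hd : d ∈ l) : d ≠ c :=
  fun e => hc.not_mem hS.odd (e ▸ hd)

/-- The parity of an invariant line set at a point of an axis. -/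
theorem Setup.cnt_parity {c d : P} {l : L} (hc : HomPair H c l) (hd : d ∈ l) {Q : L → Prop}
    (hQ : InvL H Q) : Even (cnt d Q) ↔ (Q l ↔ Q (join d c)) := by
  classical
  have hne : l ≠ join d c := fun e => hc.not_mem hS.odd (e ▸ right_mem_join d c)
  obtain ⟨g, hg, hi, ha, hgc⟩ := id hc
  have hgg : g ^ 2 = 1 := by rw [pow_two]; exact hi.sq
  let S : Finset L := (lns d).filter fun m => Q m
  have hmod : (S.filter fun m => g • m = m).card ≡ S.card [MOD 2] := by
    refine card_modEq_fixed Nat.prime_two hgg S fun m => ?_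
    simp only [S, Finset.mem_filter, mem_lns, mem_smul_iff_of_fixed g (ha d hd), hQ.iff hg]
  have hfix : (S.filter fun m => g • m = m) = (({l, join d c} : Finset L).filter fun m => Q m) := by
    ext m
    simp only [S, Finset.mem_filter, mem_lns, Finset.mem_insert, Finset.mem_singleton]
    constructor
    · rintro ⟨⟨hdm, hQm⟩, hgm⟩
      refine ⟨(ha.fixed_line hi.ne hgc hgm).symm.imp_right fun hcm =>
        (join_eq (hS.ne_center hc hd) hdm hcm).symm, hQm⟩
    · rintro ⟨rfl | rfl, hQm⟩
      · exact ⟨⟨hd, hQm⟩, ha.smul_line⟩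
      · exact ⟨⟨left_mem_join _ _, hQm⟩, hgc _ (right_mem_join _ _)⟩
  rw [hfix] at hmod
  change Even S.card ↔ _
  rw [Nat.even_iff, ← hmod]
  by_cases h1 : Q l <;> by_cases h2 : Q (join d c) <;>
    simp [Finset.filter_insert, Finset.filter_singleton, h1, h2, hne]

/-- Every point is even or an edge point. -/
theorem Setup.evenPt_or_edgePt (d : P) : EvenPt H d ∨ ∃ a b, EdgePt H d a b := by
  by_cases hx : ∃ (l : L) (c : P), d ∈ l ∧ HomPair H c l ∧ ¬ Orb H l (join d c)
  · obtain ⟨l, c, hd, hc, hn⟩ := hx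
    refine Or.inr ⟨l, join d c, hn, fun m hm => ?_, ?_, ?_⟩
    · by_contra! hno
      obtain ⟨c', hc'⟩ := hS.center m
      have h1 : ¬ (Orb H l m ↔ Orb H l (join d c')) ↔ ¬ (Orb H l l ↔ Orb H l (join d c)) := by
        rw [← hS.cnt_parity hc' hm (Orb.invL l), ← hS.cnt_parity hc hd (Orb.invL l)]
      have h2 : ¬ (Orb H (join d c) m ↔ Orb H (join d c) (join d c')) ↔
          ¬ (Orb H (join d c) l ↔ Orb H (join d c) (join d c)) := by
        rw [← hS.cnt_parity hc' hm (Orb.invL _), ← hS.cnt_parity hc hd (Orb.invL _)]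
      have e1 : Orb H l (join d c') := by
        by_contra e
        exact h1.2 (fun i => hn (i.1 (Orb.refl l))) (iff_of_false hno.1 e)
      have e2 : Orb H (join d c) (join d c') := by
        by_contra e
        exact h2.2 (fun i => hn (i.2 (Orb.refl _)).symm) (iff_of_false hno.2 e)
      exact hn (e1.trans e2.symm)
    · rw [← Nat.not_even_iff_odd, hS.cnt_parity hc hd (Orb.invL l)]
      exact fun i => hn (i.1 (Orb.refl l))
    · rw [← Nat.not_even_iff_odd, hS.cnt_parity hc hd (Orb.invL _)]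
      exact fun i => hn (i.2 (Orb.refl _)).symm
  · push Not at hx
    left
    intro Q hQ
    obtain ⟨m, hm, -, -⟩ := exists_third_line d (join d d : L) (join d d)
    obtain ⟨c, hc⟩ := hS.center m
    exact (hS.cnt_parity hc hm hQ).2 (hQ.of_orb (hx m c hm hc))

theorem Setup.partner_even {c d : P} {l : L} (hc : HomPair H c l) (hd : d ∈ l) (he : EvenPt H d) :
    Orb H l (join d c) :=
  ((hS.cnt_parity hc hd (Orb.invL l)).1 (he _ (Orb.invL l))).1 (Orb.refl l)

theorem Setup.partner_edge {c d : P} {l a b : L} (hc : HomPair H c l) (hd : d ∈ l) (he : EdgePt H d a b)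
    (hl : Orb H a l) : Orb H b (join d c) := by
  refine (he.2.1 _ (left_mem_join d c)).resolve_left fun h => ?_
  exact Nat.not_even_iff_odd.2 he.2.2.1 ((hS.cnt_parity hc hd (Orb.invL a)).2 (iff_of_true hl h))

theorem Setup.evenPt_iff_partner {c d : P} {l : L} (hc : HomPair H c l) (hd : d ∈ l) :
    EvenPt H d ↔ Orb H l (join d c) := by
  refine ⟨hS.partner_even hc hd, fun h => (hS.evenPt_or_edgePt d).resolve_right ?_⟩
  rintro ⟨a, b, he⟩
  rcases he.2.1 l hd with hl | hl
  · exact he.1 ((hl.trans h).trans (hS.partner_edge hc hd he hl).symm)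
  · exact he.1 ((hS.partner_edge hc hd he.swap hl).trans ((hl.trans h).symm))

theorem Setup.partner_edgePt {c d : P} {l : L} (hc : HomPair H c l) (hd : d ∈ l)
    (h : ¬ Orb H l (join d c)) : EdgePt H d l (join d c) := by
  rcases hS.evenPt_or_edgePt d with he | ⟨a, b, he⟩
  · exact absurd (hS.partner_even hc hd he) h
  rcases he.2.1 l hd with hl | hl
  · exact he.congr hl (hS.partner_edge hc hd he hl)
  · exact he.swap.congr hl (hS.partner_edge hc hd he.swap hl)

open scoped Classical in
/-- Lines through a centre correspond to the points of the axis. -/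
theorem Setup.cnt_center {c : P} {l : L} (hc : HomPair H c l) (Q : L → Prop) :
    cnt c Q = onL l fun d => Q (join d c) := by
  have hcl := hc.not_mem hS.odd
  have key : ∀ m : L, c ∈ m → join (meet m l) c = m := fun m hm =>
    join_eq (fun e => hcl (e ▸ meet_mem_right m l)) (meet_mem_left m l) hm
  refine Finset.card_bij' (fun m _ => (meet m l : P)) (fun d _ => (join d c : L)) ?_ ?_ ?_ ?_
  · intro m hm
    simp only [Finset.mem_filter, mem_lns, mem_pts] at hm ⊢
    exact ⟨meet_mem_right m l, by rw [key m hm.1]; exact hm.2⟩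
  · intro d hd
    simp only [Finset.mem_filter, mem_lns, mem_pts] at hd ⊢
    exact ⟨right_mem_join d c, hd.2⟩
  · intro m hm
    exact key m (mem_lns.1 (Finset.mem_filter.1 hm).1)
  · intro d hd
    exact meet_eq (fun e => hcl (e ▸ right_mem_join d c)) (left_mem_join d c)
      (mem_pts.1 (Finset.mem_filter.1 hd).1)

/-- Connectivity: a nonempty invariant line set with even counts everywhere is everything. -/
theorem Setup.all_of_even {Q : L → Prop} (hev : ∀ d : P, Even (cnt d Q)) {l : L} (hl : Q l) (m : L) :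
    Q m := by
  classical
  by_contra hm
  set A : Finset L := Finset.univ.filter fun x => Q x with hA
  have key : ∀ x : L, Even (A.erase x).card := by
    intro x
    have h := sum_card_filter_comm (pts (P := P) x) A
    have h1 : Even (∑ d ∈ pts x, (A.filter fun y => d ∈ y).card) := by
      refine Finset.even_sum _ fun d _ => ?_
      have : (A.filter fun y => d ∈ y) = (lns d).filter fun y => Q y := by
        ext y
        simp [hA, and_comm]
      rw [this]
      exact hev d
    rw [h] at h1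
    have h2 : ∀ y : L, ((pts (P := P) x).filter fun d => d ∈ y).card =
        if y = x then ProjectivePlane.order P L + 1 else 1 := by
      intro y
      split_ifs with e
      · subst e
        rw [Finset.filter_true_of_mem fun d hd => mem_pts.1 hd, card_pts]
      · rw [Finset.card_eq_one]
        refine ⟨meet x y, Finset.ext fun d => ?_⟩
        simp only [Finset.mem_filter, mem_pts, Finset.mem_singleton]
        exact ⟨fun hh => (meet_eq (Ne.symm e) hh.1 hh.2).symm,
          fun hh => hh ▸ ⟨meet_mem_left x y, meet_mem_right x y⟩⟩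
    rw [Finset.sum_congr rfl fun y _ => h2 y] at h1
    by_cases hx : x ∈ A
    · rw [← Finset.add_sum_erase A _ hx, if_pos rfl,
        Finset.sum_congr rfl fun y hy => if_neg (Finset.ne_of_mem_erase hy), Finset.sum_const,
        smul_eq_mul, mul_one] at h1
      exact (Nat.even_add.1 h1).1 (hS.odd.add_one)
    · rw [Finset.sum_congr rfl fun (y : L) (hy : y ∈ A) => if_neg fun e : y = x => hx (e ▸ hy),
        Finset.sum_const, smul_eq_mul, mul_one] at h1
      rwa [Finset.erase_eq_of_notMem hx]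
  have hlA : l ∈ A := Finset.mem_filter.2 ⟨Finset.mem_univ _, hl⟩
  have hmA : m ∉ A := fun e => hm (Finset.mem_filter.1 e).2
  have h1 := key l
  have h2 := key m
  rw [Finset.erase_eq_of_notMem hmA] at h2
  rw [Finset.card_erase_of_mem hlA, Nat.even_sub (Finset.card_pos.2 ⟨l, hlA⟩)] at h1
  exact Nat.not_even_one (h1.1 h2)

/-- The set is even at every point if it contains both or no orbit of each edge. -/
theorem Setup.even_of_edges {Q : L → Prop} (hQ : InvL H Q) {d : P}
    (h : ∀ a b, EdgePt H d a b → (Q a ↔ Q b)) : Even (cnt d Q) := by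
  obtain ⟨m, hm, -, -⟩ := exists_third_line d (join d d : L) (join d d)
  obtain ⟨c, hc⟩ := hS.center m
  refine (hS.cnt_parity hc hm hQ).2 ?_
  by_cases hj : Orb H m (join d c)
  · exact hQ.of_orb hj
  · exact h _ _ (hS.partner_edgePt hc hm hj)

theorem Setup.exists_edge {l : L} (hn : ∃ m, ¬ Orb H l m) : ∃ (d : P) (b : L), EdgePt H d l b := by
  obtain ⟨m, hm⟩ := hn
  by_contra! hno
  refine hm (hS.all_of_even (fun d => hS.even_of_edges (Orb.invL l) fun a b he => ?_) (Orb.refl l) m)
  exact ⟨fun e => absurd (he.congr e.symm (Orb.refl b)) (hno d b),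
    fun e => absurd (he.swap.congr e.symm (Orb.refl a)) (hno d a)⟩

omit hS

/-- Every edge at `a` leads to `b`. -/
def Leaf (H : Subgroup (Coll P L)) (a b : L) : Prop := ∀ (f : P) (c : L), EdgePt H f a c → Orb H b c

/-- Every edge involves `b`. -/
def Star (H : Subgroup (Coll P L)) (b : L) : Prop :=
  ∀ (f : P) (c d : L), EdgePt H f c d → Orb H b c ∨ Orb H b d

/-- Three orbits, each point an edge point between two of them. -/
structure Triangle (H : Subgroup (Coll P L)) (a b c : L) : Prop where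
  ab : ¬ Orb H a b
  bc : ¬ Orb H b c
  ca : ¬ Orb H c a
  cover : ∀ f : P, EdgePt H f a b ∨ EdgePt H f b c ∨ EdgePt H f c a
  exists_ab : ∃ f : P, EdgePt H f a b
  exists_bc : ∃ f : P, EdgePt H f b c
  exists_ca : ∃ f : P, EdgePt H f c a

include hS

theorem Setup.axis_cases {d : P} {a b e : L} (hd : EdgePt H d a b) (he : HomPair H d e) :
    (Orb H a e ∧ Leaf H a b) ∨ (Orb H b e ∧ Leaf H b a) ∨
      (¬ Orb H a e ∧ ¬ Orb H b e ∧ (∀ f, f ∈ e → EdgePt H f e a ∨ EdgePt H f e b) ∧
        (∃ f, EdgePt H f e a) ∧ ∃ f, EdgePt H f e b) := by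
  have leaf : ∀ {a b : L}, EdgePt H d a b → Orb H a e → Leaf H a b := by
    intro a b hd hae f c hf
    obtain ⟨m, hfm, ham⟩ := hf.exists_line
    obtain ⟨h, hh, hm⟩ := ham.symm.trans hae
    have hfe : h • f ∈ e := hm ▸ smul_mem h hfm
    have hf' : EdgePt H (h • f) a c := EdgePt.invP a c h hh f hf
    have hp := hS.partner_edge he hfe hf' hae
    rcases hd.2.1 _ (right_mem_join (h • f) d) with e' | e'
    · exact absurd (e'.trans hp.symm) hf.1
    · exact e'.trans hp.symm
  by_cases hae : Orb H a e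
  · exact Or.inl ⟨hae, leaf hd hae⟩
  by_cases hbe : Orb H b e
  · exact Or.inr (Or.inl ⟨hbe, leaf hd.swap hbe⟩)
  refine Or.inr (Or.inr ⟨hae, hbe, fun f hf => ?_, ?_, ?_⟩)
  · have hj := hd.2.1 _ (right_mem_join f d)
    have hn : ¬ Orb H e (join f d) := fun e' =>
      hj.elim (fun h => hae (h.trans e'.symm)) fun h => hbe (h.trans e'.symm)
    have hf' := hS.partner_edgePt he hf hn
    exact hj.imp (fun h => hf'.congr (Orb.refl e) h.symm) fun h => hf'.congr (Orb.refl e) h.symm
  · obtain ⟨m, hdm, ham⟩ := hd.exists_line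
    have hne : (meet m e : P) ≠ d := hS.ne_center he (meet_mem_right m e)
    have hj : (join (meet m e) d : L) = m := join_eq hne (meet_mem_left m e) hdm
    have := hS.partner_edgePt he (meet_mem_right m e) (fun e' => hae (ham.trans (hj ▸ e').symm))
    rw [hj] at this
    exact ⟨_, this.congr (Orb.refl e) ham.symm⟩
  · obtain ⟨m, hdm, hbm⟩ := hd.swap.exists_line
    have hne : (meet m e : P) ≠ d := hS.ne_center he (meet_mem_right m e)
    have hj : (join (meet m e) d : L) = m := join_eq hne (meet_mem_left m e) hdm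
    have := hS.partner_edgePt he (meet_mem_right m e) (fun e' => hbe (hbm.trans (hj ▸ e').symm))
    rw [hj] at this
    exact ⟨_, this.congr (Orb.refl e) hbm.symm⟩

/-- An apex line orbit only carries edge points of two kinds. -/
theorem Setup.apex_all {a b e : L} (h : ∀ f, f ∈ e → EdgePt H f e a ∨ EdgePt H f e b) {f : P} {m : L}
    (hem : Orb H e m) (hf : f ∈ m) : EdgePt H f e a ∨ EdgePt H f e b := by
  obtain ⟨k, hk, rfl⟩ := hem
  have : k⁻¹ • f ∈ e := by rw [← smul_mem_iff k, smul_inv_smul]; exact hf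
  exact (h _ this).imp (fun e' => (EdgePt.invP e a).iff (H.inv_mem hk) f |>.1 e')
    (fun e' => (EdgePt.invP e b).iff (H.inv_mem hk) f |>.1 e')

omit hS in
theorem apex_partner {a b e c : L} (h : ∀ f, f ∈ e → EdgePt H f e a ∨ EdgePt H f e b)
    (hS : Setup H) {f : P} (hf : EdgePt H f e c) : Orb H a c ∨ Orb H b c := by
  obtain ⟨m, hfm, hem⟩ := hf.exists_line
  have key : ∀ x : L, EdgePt H f e x → Orb H x c := fun x hx => by
    obtain ⟨m', hfm', hcm'⟩ := hf.swap.exists_line
    refine ((hx.2.1 m' hfm').resolve_left fun e' => hf.1 (e'.trans hcm'.symm)).trans hcm'.symm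
  exact (hS.apex_all h hem hfm).imp (key a) (key b)

theorem Setup.star_or_triangle (hn : ∃ l m : L, ¬ Orb H l m) :
    (∃ b, Star H b) ∨ ∃ a b c, Triangle H a b c := by
  obtain ⟨l₀, m₀, hlm⟩ := hn
  by_cases hall : ∀ (f : P) (c d : L), EdgePt H f c d → Leaf H c d ∨ Leaf H d c
  · left
    obtain ⟨f₀, l₁, hf₀⟩ := hS.exists_edge ⟨m₀, hlm⟩
    obtain ⟨a, b, hab, hleaf⟩ : ∃ a b, EdgePt H f₀ a b ∧ Leaf H a b := by
      rcases hall _ _ _ hf₀ with h | h
      · exact ⟨_, _, hf₀, h⟩
      · exact ⟨_, _, hf₀.swap, h⟩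
    let Q : L → Prop := fun m => Orb H b m ∨ (Leaf H m b ∧ ∃ f, EdgePt H f m b)
    have hQ : InvL H Q := by
      intro h hh m hm
      have e : Orb H m (h • m) := ⟨h, hh, rfl⟩
      rcases hm with hm | ⟨hm, f, hf⟩
      · exact Or.inl (hm.trans e)
      · exact Or.inr ⟨fun f' c hf' => hm f' c (hf'.congr e.symm (Orb.refl c)), f, hf.congr e (Orb.refl b)⟩
    have hstep : ∀ (f : P) (c d : L), EdgePt H f c d → Q c → Q d := by
      intro f c d hf hc
      rcases hc with hc | ⟨hc, -⟩
      · have hbd := hf.congr hc.symm (Orb.refl d)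
        rcases hall _ _ _ hbd with h | h
        · exact (hQ.of_orb (h f₀ a hab.swap).symm).1 (Or.inr ⟨hleaf, f₀, hab⟩)
        · exact Or.inr ⟨h, f, hbd.swap⟩
      · exact Or.inl (hc f d hf)
    have hev : ∀ d : P, Even (cnt d Q) := fun d => hS.even_of_edges hQ fun a' b' he =>
      ⟨hstep _ _ _ he, hstep _ _ _ he.swap⟩
    refine ⟨b, fun f c d hf => ?_⟩
    rcases hS.all_of_even hev (l := b) (Or.inl (Orb.refl b)) c with h | ⟨h, -⟩
    · exact Or.inl h
    · exact Or.inr (h f d hf)
  · right
    push Not at hall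
    obtain ⟨d, a, b, hd, hna, hnb⟩ := hall
    obtain ⟨c, hc⟩ := hS.axis d
    obtain ⟨hca, hcb, hapex, ⟨f₁, hf₁⟩, f₂, hf₂⟩ :=
      ((hS.axis_cases hd hc).resolve_left fun h => hna h.2).resolve_left fun h => hnb h.2
    -- the apex of an edge `(c, x)` is in the orbit of the third vertex `y`
    have key : ∀ x y : L, ∀ f : P, EdgePt H f c x → (∀ z w, EdgePt H w c z → Orb H x z ∨ Orb H y z) →
        ¬ Orb H x y → (∃ w, EdgePt H w c y) → (∃ w, EdgePt H w x y) →
        ∀ g m, Orb H y m → g ∈ m → EdgePt H g y c ∨ EdgePt H g y x := by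
      intro x y f hf hedge hxy ⟨w₁, hw₁⟩ ⟨w₂, hw₂⟩ g m hym hg
      obtain ⟨e, he⟩ := hS.axis f
      rcases hS.axis_cases hf he with ⟨-, h⟩ | ⟨-, h⟩ | ⟨hce, hxe, hap, ⟨w, hw⟩, -⟩
      · exact absurd (h w₁ y hw₁) hxy
      · exact absurd (h w₂ y hw₂) (fun e' => hw₁.1 e')
      · have hye : Orb H y e := (hedge e w hw.swap).resolve_left hxe
        exact (hS.apex_all hap (hye.symm.trans hym) hg).imp (fun h => h.congr hye.symm (Orb.refl c))
          (fun h => h.congr hye.symm (Orb.refl x))
    have hb := key a b f₁ hf₁ (fun z w hw => apex_partner hapex hS hw) hd.1 ⟨f₂, hf₂⟩ ⟨d, hd⟩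
    have ha := key b a f₂ hf₂ (fun z w hw => (apex_partner hapex hS hw).symm) (fun e => hd.1 e.symm)
      ⟨f₁, hf₁⟩ ⟨d, hd.swap⟩
    let Q : L → Prop := fun m => Orb H a m ∨ Orb H b m ∨ Orb H c m
    have hQ : InvL H Q := fun h hh m hm =>
      hm.imp (Orb.invL a h hh m) (Or.imp (Orb.invL b h hh m) (Orb.invL c h hh m))
    have three : ∀ f m, Q m → f ∈ m → EdgePt H f a b ∨ EdgePt H f b c ∨ EdgePt H f c a := by
      rintro f m (h | h | h) hf
      · rcases ha f m h hf with e | e
        · exact Or.inr (Or.inr e.swap)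
        · exact Or.inl e
      · rcases hb f m h hf with e | e
        · exact Or.inr (Or.inl e)
        · exact Or.inl e.swap
      · rcases hS.apex_all hapex h hf with e | e
        · exact Or.inr (Or.inr e)
        · exact Or.inr (Or.inl e.swap)
    have hev : ∀ f : P, Even (cnt f Q) := by
      intro f
      by_cases hm : ∃ m, f ∈ m ∧ Q m
      · obtain ⟨m, hfm, hQm⟩ := hm
        refine hS.even_of_edges hQ fun x y hxy => ?_
        have inQ : ∀ x y : L, EdgePt H f x y → Q x := by
          intro x y hxy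
          obtain ⟨m', hfm', hxm'⟩ := hxy.exists_line
          refine (hQ.of_orb hxm').2 ?_
          rcases three f m hQm hfm with e | e | e <;> rcases e.2.1 m' hfm' with e' | e'
          · exact Or.inl e'
          · exact Or.inr (Or.inl e')
          · exact Or.inr (Or.inl e')
          · exact Or.inr (Or.inr e')
          · exact Or.inr (Or.inr e')
          · exact Or.inl e'
        exact iff_of_true (inQ x y hxy) (inQ y x hxy.swap)
      · push Not at hm
        rw [cnt_eq_zero hm]
        exact Even.zero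
    refine ⟨a, b, c, ⟨hd.1, hcb, fun e => hca e.symm, fun f => ?_, ⟨d, hd⟩, ⟨f₂, hf₂.swap⟩, ⟨f₁, hf₁⟩⟩⟩
    obtain ⟨m, hfm, -, -⟩ := exists_third_line f (join f f : L) (join f f)
    exact three f m (hS.all_of_even hev (l := a) (Or.inl (Orb.refl a)) m) hfm

end Cfsg.Agent.OstromPlane
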