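/-
Double counting between invariant sets of points and lines with constant incidence numbers.

Main results (namespace `Cfsg.Agent.OstromPlane`): `nLines`, `nPts`, `sum_cnt`, `flag_count`,
`exists_fixed_line`, `exists_fixed_point`.
-/
import Cfsg.Agent.Lib.OstromWagner.Orbits

set_option autoImplicit false
set_option linter.unusedSectionVars false

namespace Cfsg.Agent.OstromPlane

open Configuration

universe u v

variable {P : Type u} {L : Type v} [Membership P L] [ProjectivePlane P L] [Finite P] [Finite L]
  [Fintype P] [Fintype L]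

open scoped Classical in
/-- The number of lines in a set. -/
noncomputable def nLines (Q : L → Prop) : ℕ := (Finset.univ.filter fun l : L => Q l).card

open scoped Classical in
/-- The number of points in a set. -/
noncomputable def nPts (R : P → Prop) : ℕ := (Finset.univ.filter fun a : P => R a).card

open scoped Classical in
/-- Lines of `Q` seen from the points of `m`. -/
theorem sum_cnt (m : L) (Q : L → Prop) :
    ∑ d ∈ pts (P := P) m, cnt d Q = nLines Q + if Q m then ProjectivePlane.order P L else 0 := by
  set A : Finset L := Finset.univ.filter fun x => Q x with hA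
  have h : ∑ d ∈ pts (P := P) m, cnt d Q = ∑ y ∈ A, ((pts (P := P) m).filter fun d => d ∈ y).card := by
    rw [← sum_card_filter_comm]
    refine Finset.sum_congr rfl fun d _ => ?_
    rw [cnt]
    congr 1
    ext y
    simp [hA, and_comm]
  have h2 : ∀ y : L, ((pts (P := P) m).filter fun d => d ∈ y).card =
      1 + if y = m then ProjectivePlane.order P L else 0 := by
    intro y
    split_ifs with e
    · subst e
      rw [Finset.filter_true_of_mem fun d hd => mem_pts.1 hd, card_pts, add_comm]
    · rw [add_zero, Finset.card_eq_one]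
      refine ⟨meet m y, Finset.ext fun d => ?_⟩
      simp only [Finset.mem_filter, mem_pts, Finset.mem_singleton]
      exact ⟨fun hh => (meet_eq (Ne.symm e) hh.1 hh.2).symm,
        fun hh => hh ▸ ⟨meet_mem_left m y, meet_mem_right m y⟩⟩
  rw [h, Finset.sum_congr rfl fun y _ => h2 y, Finset.sum_add_distrib, Finset.sum_ite_eq' A m,
    Finset.sum_const, smul_eq_mul, mul_one]
  simp [hA, nLines]

open scoped Classical in
/-- A sum over the points of a line of a function constant on two disjoint kinds. -/
theorem sum_two (m : L) (f : P → ℕ) (R S : P → Prop) (x y : ℕ)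
    (h : ∀ d, d ∈ m → f d = (if R d then x else 0) + if S d then y else 0) :
    ∑ d ∈ pts (P := P) m, f d = onL m R * x + onL m S * y := by
  rw [Finset.sum_congr rfl fun d hd => h d (mem_pts.1 hd), Finset.sum_add_distrib]
  simp [onL, Finset.sum_ite]

open scoped Classical in
theorem flag_count (R : P → Prop) (Q : L → Prop) (x y : ℕ) (h1 : ∀ d, R d → cnt d Q = x)
    (h2 : ∀ l, Q l → onL l R = y) : nPts R * x = nLines Q * y := by
  have h := sum_card_filter_comm (Finset.univ.filter fun d : P => R d) (Finset.univ.filter fun l : L => Q l)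
  have e1 : ∀ d ∈ Finset.univ.filter (fun d : P => R d),
      ((Finset.univ.filter fun l : L => Q l).filter fun l => d ∈ l).card = x := by
    intro d hd
    rw [← h1 d (Finset.mem_filter.1 hd).2, cnt]
    congr 1
    ext l
    simp [and_comm]
  have e2 : ∀ l ∈ Finset.univ.filter (fun l : L => Q l),
      ((Finset.univ.filter fun d : P => R d).filter fun d => d ∈ l).card = y := by
    intro l hl
    rw [← h2 l (Finset.mem_filter.1 hl).2, onL]
    congr 1
    ext d
    simp [and_comm]
  rw [Finset.sum_congr rfl e1, Finset.sum_congr rfl e2, Finset.sum_const, Finset.sum_const,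
    smul_eq_mul, smul_eq_mul] at h
  exact h

theorem onL_congr (m : L) {R S : P → Prop} (h : ∀ d, d ∈ m → (R d ↔ S d)) : onL m R = onL m S := by
  classical
  exact congrArg Finset.card (Finset.filter_congr fun d hd => h d (mem_pts.1 hd))

theorem onL_add_not (m : L) (R : P → Prop) :
    onL m R + onL m (fun d => ¬ R d) = ProjectivePlane.order P L + 1 := by
  classical
  rw [← card_pts m]
  unfold onL
  convert Finset.card_filter_add_card_filter_not (s := pts m) (fun d => R d)

theorem exists_of_onL_pos {m : L} {R : P → Prop} (h : 0 < onL m R) : ∃ d, d ∈ m ∧ R d := by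
  classical
  obtain ⟨d, hd⟩ := Finset.card_pos.1 h
  simp only [Finset.mem_filter, mem_pts] at hd
  exact ⟨d, hd⟩

theorem onL_pos {m : L} {R : P → Prop} {d : P} (hd : d ∈ m) (hR : R d) : 0 < onL m R := by
  classical
  exact Finset.card_pos.2 ⟨d, Finset.mem_filter.2 ⟨mem_pts.2 hd, hR⟩⟩

theorem exists_fixed_line {H : Subgroup (Coll P L)} {Q : L → Prop} (hQ : InvL H Q)
    (h : nLines Q = 1) : ∃ l : L, ∀ g ∈ H, g • l = l := by
  classical
  obtain ⟨l, hl⟩ := Finset.card_eq_one.1 h
  have hl' : Q l := by
    have := Finset.mem_singleton_self l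
    rw [← hl] at this
    exact (Finset.mem_filter.1 this).2
  refine ⟨l, fun g hg => ?_⟩
  have : g • l ∈ (Finset.univ.filter fun x : L => Q x) := Finset.mem_filter.2 ⟨Finset.mem_univ _, hQ g hg l hl'⟩
  rwa [hl, Finset.mem_singleton] at this

theorem exists_fixed_point {H : Subgroup (Coll P L)} {R : P → Prop} (hR : InvP H R)
    (h : nPts R = 1) : ∃ a : P, ∀ g ∈ H, g • a = a := by
  classical
  obtain ⟨l, hl⟩ := Finset.card_eq_one.1 h
  have hl' : R l := by
    have := Finset.mem_singleton_self l
    rw [← hl] at this
    exact (Finset.mem_filter.1 this).2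
  refine ⟨l, fun g hg => ?_⟩
  have : g • l ∈ (Finset.univ.filter fun x : P => R x) := Finset.mem_filter.2 ⟨Finset.mem_univ _, hR g hg l hl'⟩
  rwa [hl, Finset.mem_singleton] at this

end Cfsg.Agent.OstromPlane
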