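/-
A star of line orbits in a covered plane of odd order forces a fixed point or line.

Main results (namespace `Cfsg.Agent.OstromPlane`): `Setup.exists_goodStar`, `Setup.star_fixed`.
-/
import Cfsg.Agent.Lib.OstromWagner.Incidence

set_option autoImplicit false
set_option linter.unusedSectionVars false

namespace Cfsg.Agent.OstromPlane

open Configuration

universe u v

variable {P : Type u} {L : Type v} [Membership P L]

/-- A star in which no edge point has its axis in the central orbit. -/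
structure GoodStar [Fintype P] [Fintype L] (H : Subgroup (Coll P L)) (b : L) : Prop where
  star : Star H b
  axis_ne : ∀ (d : P) (a e : L), EdgePt H d a b → HomPair H d e → ¬ Orb H b e

variable [ProjectivePlane P L] [Finite P] [Finite L] [Fintype P] [Fintype L]

variable {H : Subgroup (Coll P L)} (hS : Setup H)

include hS

theorem Setup.edge_on_line {b l : L} {d : P} (hst : Star H b) (hl : ¬ Orb H b l) (hd : d ∈ l)
    (he : ¬ EvenPt H d) : EdgePt H d l b := by
  obtain ⟨x, y, hxy⟩ := (hS.evenPt_or_edgePt d).resolve_left he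
  rcases hxy.2.1 l hd with h | h
  · rcases hst _ _ _ hxy with h' | h'
    · exact absurd (h'.trans h) hl
    · exact hxy.congr h h'.symm
  · rcases hst _ _ _ hxy with h' | h'
    · exact hxy.swap.congr h h'.symm
    · exact absurd (h'.trans h) hl

theorem Setup.cnt_center_same {c : P} {l : L} (hc : HomPair H c l) :
    cnt c (Orb H l) = onL l (EvenPt H) :=
  (hS.cnt_center hc _).trans (onL_congr l fun _ hd => (hS.evenPt_iff_partner hc hd).symm)

theorem Setup.onL_even_odd {d : P} {a b e : L} (hd : EdgePt H d a b) (he : HomPair H d e)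
    (hae : Orb H a e) : Odd (onL a (EvenPt H)) := by
  rw [← onL_orb EvenPt.invP hae, ← hS.cnt_center_same he, ← orb_fun_eq hae]
  exact hd.2.2.1

theorem Setup.onL_even_even {d : P} {a e : L} (hd : EvenPt H d) (he : HomPair H d e)
    (hae : Orb H a e) : Even (onL a (EvenPt H)) := by
  rw [← onL_orb EvenPt.invP hae, ← hS.cnt_center_same he]
  exact hd _ (Orb.invL e)

theorem Setup.exists_goodStar {b : L} (hst : Star H b) : ∃ b', GoodStar H b' := by
  by_cases hgood : ∀ (d : P) (a e : L), EdgePt H d a b → HomPair H d e → ¬ Orb H b e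
  · exact ⟨b, hst, hgood⟩
  push Not at hgood
  obtain ⟨d, a, e, hd, he, hbe⟩ := hgood
  have hleaf : Leaf H b a := by
    rcases hS.axis_cases hd he with ⟨h, -⟩ | ⟨-, h⟩ | ⟨-, h, -⟩
    · exact absurd (h.trans hbe.symm) hd.1
    · exact h
    · exact absurd hbe h
  have hQ : InvL H fun m => Orb H a m ∨ Orb H b m := fun h hh m hm =>
    hm.imp (Orb.invL a h hh m) (Orb.invL b h hh m)
  have htwo : ∀ m, Orb H a m ∨ Orb H b m := by
    intro m
    refine hS.all_of_even (Q := fun m => Orb H a m ∨ Orb H b m) (fun f => hS.even_of_edges hQ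
      fun x y hxy => ?_) (l := a) (Or.inl (Orb.refl a)) m
    rcases hst f x y hxy with h | h
    · exact iff_of_true (Or.inr h) (Or.inl (hleaf f y (hxy.congr h.symm (Orb.refl y))))
    · exact iff_of_true (Or.inl (hleaf f x (hxy.swap.congr h.symm (Orb.refl x)))) (Or.inr h)
  refine ⟨a, fun f x y hxy => ?_, fun d' x e' hd' he' hae' => ?_⟩
  · rcases htwo x with h | h
    · exact Or.inl h
    · rcases htwo y with h' | h'
      · exact Or.inr h'
      · exact absurd (h.symm.trans h') hxy.1
  · have ha := hS.onL_even_odd hd'.swap he' hae'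
    have hb := hS.onL_even_odd hd.swap he hbe
    obtain ⟨g, -, hg⟩ := exists_of_onL_pos ha.pos
    obtain ⟨m, hm⟩ := hS.axis g
    rcases htwo m with h | h
    · exact Nat.not_even_iff_odd.2 ha (hS.onL_even_even hg hm h)
    · exact Nat.not_even_iff_odd.2 hb (hS.onL_even_even hg hm h)

theorem GoodStar.axis_edge {b a e : L} {d : P} (hb : GoodStar H b) (hd : EdgePt H d a b)
    (he : HomPair H d e) : Orb H a e := by
  rcases hS.axis_cases hd he with ⟨h, -⟩ | ⟨h, -⟩ | ⟨hae, hbe, -, ⟨f, hf⟩, -⟩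
  · exact h
  · exact absurd h (hb.axis_ne d a e hd he)
  · rcases hb.star f e a hf with h | h
    · exact absurd h hbe
    · exact absurd h.symm hd.1

theorem GoodStar.exists_edge {b l : L} (hb : GoodStar H b) (hl : ¬ Orb H b l) :
    ∃ d, EdgePt H d l b := by
  obtain ⟨d, x, hd⟩ := hS.exists_edge ⟨b, fun e => hl e.symm⟩
  rcases hb.star d l x hd with h | h
  · exact absurd h hl
  · exact ⟨d, hd.congr (Orb.refl l) h.symm⟩

theorem GoodStar.axis_even {b e : L} {d : P} (hb : GoodStar H b) (hd : EvenPt H d) (he : HomPair H d e) :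
    Orb H b e := by
  by_contra h
  obtain ⟨f, hf⟩ := hb.exists_edge hS h
  obtain ⟨m, hm⟩ := hS.axis f
  exact Nat.not_even_iff_odd.2 (hS.onL_even_odd hf hm (hb.axis_edge hS hf hm))
    (hS.onL_even_even hd he (Orb.refl e))

theorem GoodStar.cnt_edge {b a : L} {d : P} (hb : GoodStar H b) (hd : EdgePt H d a b) :
    cnt d (Orb H a) = onL a (EvenPt H) ∧ cnt d (Orb H b) = onL a (fun f => ¬ EvenPt H f) := by
  obtain ⟨e, he⟩ := hS.axis d
  have hae := hb.axis_edge hS hd he
  have hnb : ¬ Orb H b e := hb.axis_ne d a e hd he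
  refine ⟨?_, ?_⟩
  · rw [orb_fun_eq hae, hS.cnt_center_same he, onL_orb EvenPt.invP hae, onL_orb EvenPt.invP (Orb.refl a)]
  · rw [hS.cnt_center he, ← onL_orb (R := fun f => ¬ EvenPt H f)
      (fun h hh f hf e' => hf ((EvenPt.invP.iff hh f).1 e')) hae]
    refine onL_congr e fun f hf => ⟨fun hj hev => hnb (hj.trans (hS.partner_even he hf hev).symm),
      fun hne => hS.partner_edge he hf (hS.edge_on_line hb.star hnb hf hne) (Orb.refl e)⟩

theorem GoodStar.cnt_even {b : L} {d : P} (hb : GoodStar H b) (hd : EvenPt H d) :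
    cnt d (Orb H b) = onL b (EvenPt H) ∧
      ∀ a, ¬ Orb H b a → cnt d (Orb H a) = onL b (fun f => EdgePt H f a b) := by
  obtain ⟨e, he⟩ := hS.axis d
  have hbe := hb.axis_even hS hd he
  refine ⟨?_, fun a ha => ?_⟩
  · rw [orb_fun_eq hbe, hS.cnt_center_same he, onL_orb EvenPt.invP hbe, onL_orb EvenPt.invP (Orb.refl b)]
  · rw [hS.cnt_center he, ← onL_orb (EdgePt.invP a b) hbe]
    refine onL_congr e fun f hf => ⟨fun hj => ?_, fun hf' => hS.partner_edge he hf hf'.swap hbe⟩
    have hn : ¬ Orb H e (join f d) := fun e' => ha (hbe.trans (e'.trans hj.symm))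
    exact (hS.partner_edgePt he hf hn).swap.congr hj.symm hbe.symm

theorem GoodStar.cnt_on_center {b a : L} {d : P} (hb : GoodStar H b) (ha : ¬ Orb H b a) :
    cnt d (Orb H a) = (open Classical in if EdgePt H d a b then onL a (EvenPt H) else 0) +
      (open Classical in if EvenPt H d then onL b (fun f => EdgePt H f a b) else 0) := by
  classical
  by_cases h1 : EdgePt H d a b
  · rw [if_pos h1, if_neg h1.not_evenPt, add_zero, (hb.cnt_edge hS h1).1]
  by_cases h2 : EvenPt H d
  · rw [if_neg h1, if_pos h2, zero_add, (hb.cnt_even hS h2).2 a ha]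
  rw [if_neg h1, if_neg h2, add_zero]
  refine cnt_eq_zero fun l hl hal => h1 ?_
  exact (hS.edge_on_line hb.star (fun e => ha (e.trans hal.symm)) hl h2).congr hal.symm (Orb.refl b)

theorem GoodStar.count_center {b a : L} (hb : GoodStar H b) (ha : ¬ Orb H b a) :
    nLines (Orb H a) = onL b (fun f => EdgePt H f a b) * onL a (EvenPt H) +
      onL b (EvenPt H) * onL b (fun f => EdgePt H f a b) := by
  classical
  have h := sum_cnt (P := P) b (Orb H a)
  rw [if_neg (fun e => ha e.symm), add_zero] at h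
  rw [← h]
  exact sum_two b _ _ _ _ _ fun d _ => hb.cnt_on_center hS ha

theorem GoodStar.count_self {b a : L} (hb : GoodStar H b) (ha : ¬ Orb H b a) :
    nLines (Orb H a) + ProjectivePlane.order P L =
      onL a (fun f => ¬ EvenPt H f) * onL a (EvenPt H) +
        onL a (EvenPt H) * onL b (fun f => EdgePt H f a b) := by
  classical
  have h := sum_cnt (P := P) a (Orb H a)
  rw [if_pos (Orb.refl a)] at h
  rw [← h]
  refine sum_two a _ _ _ _ _ fun d hd => ?_
  rw [hb.cnt_on_center hS ha]
  by_cases he : EvenPt H d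
  · rw [if_neg fun e : EdgePt H d a b => e.not_evenPt he, if_neg (not_not.2 he)]
  · rw [if_pos (hS.edge_on_line hb.star ha hd he), if_pos he]

theorem GoodStar.count_other {b a a' : L} (hb : GoodStar H b) (ha : ¬ Orb H b a) (ha' : ¬ Orb H b a')
    (hne : ¬ Orb H a a') :
    nLines (Orb H a') = onL a (EvenPt H) * onL b (fun f => EdgePt H f a' b) := by
  classical
  have h := sum_cnt (P := P) a (Orb H a')
  rw [if_neg (fun e => hne e.symm), add_zero] at h
  rw [← h, sum_two a _ (fun d => EdgePt H d a' b) (EvenPt H) _ _ fun d _ => hb.cnt_on_center hS ha']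
  have h0 : onL a (fun d => EdgePt H d a' b) = 0 := by
    refine Nat.eq_zero_of_not_pos fun hp => ?_
    obtain ⟨d, hd, hd'⟩ := exists_of_onL_pos hp
    exact (hd'.2.1 a hd).elim (fun e => hne e.symm) ha
  rw [h0, zero_mul, zero_add]

theorem transl_eq_bot {l : L} (h : Nat.card (transl H l) = 1) {g : Coll P L} (hg : g ∈ transl H l) :
    g = 1 := by
  rwa [Subgroup.card_eq_one.1 h, Subgroup.mem_bot] at hg

theorem Setup.centers_unique {l : L} (h : Nat.card (transl H l) = 1) {c d : P} (hc : HomPair H c l)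
    (hd : HomPair H d l) : c = d := by
  by_contra hne
  obtain ⟨g, hg, hgi, hga, hgc⟩ := id hc
  obtain ⟨k, hk, hki, hka, hkc⟩ := id hd
  have := transl_eq_bot hS h (mul_invol_mem_transl hg hk hgi hki hga hka hgc hkc
    (hc.not_mem hS.odd) (hd.not_mem hS.odd) hne)
  have hgk : g = k := by
    rw [mul_eq_one_iff_eq_inv] at this
    rw [this, inv_eq_of_mul_eq_one_right hki.sq]
  exact hne (Center.unique hgi.ne hgc (hgk ▸ hkc))

omit hS in
theorem trans_on_line {a : L} {R : P → Prop} (hR : InvP H R)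
    (h : ∀ d, d ∈ a → R d → ∃ g ∈ H, g ^ 2 = 1 ∧ g • a = a ∧ g • d = d ∧
      ∀ x, x ∈ a → R x → g • x = x → x = d)
    {d d' : P} (hd : d ∈ a) (hRd : R d) (hd' : d' ∈ a) (hRd' : R d') :
    ∃ g ∈ H, g • a = a ∧ g • d = d' := by
  classical
  by_contra hnot
  set O : Finset P := Finset.univ.filter fun x => ∃ g ∈ H, g • a = a ∧ g • d = x with hOdef
  have hOinv : ∀ g ∈ H, g • a = a → ∀ x, x ∈ O ↔ g • x ∈ O := by
    intro g hg hgl x
    simp only [hOdef, Finset.mem_filter, Finset.mem_univ, true_and]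
    constructor
    · rintro ⟨k, hk, hkl, rfl⟩
      exact ⟨g * k, H.mul_mem hg hk, by rw [mul_smul, hkl, hgl], mul_smul g k d⟩
    · rintro ⟨k, hk, hkl, e⟩
      refine ⟨g⁻¹ * k, H.mul_mem (H.inv_mem hg) hk, ?_, by rw [mul_smul, e, inv_smul_smul]⟩
      rw [mul_smul, hkl, inv_smul_eq_iff, hgl]
  have hO : ∀ x ∈ O, x ∈ a ∧ R x := by
    intro x hx
    obtain ⟨k, hk, hkl, rfl⟩ := (Finset.mem_filter.1 hx).2
    exact ⟨smul_mem_of_fixed k hkl hd, hR k hk d hRd⟩
  obtain ⟨g, hg, hg2, hgl, hgd, hgo⟩ := h d hd hRd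
  have h1 := card_modEq_fixed Nat.prime_two hg2 O (hOinv g hg hgl)
  have e1 : O.filter (fun x => g • x = x) = {d} := by
    ext x
    simp only [Finset.mem_filter, Finset.mem_singleton]
    exact ⟨fun hx => hgo x (hO x hx.1).1 (hO x hx.1).2 hx.2, fun e => e ▸
      ⟨Finset.mem_filter.2 ⟨Finset.mem_univ _, 1, H.one_mem, one_smul _ _, one_smul _ _⟩, hgd⟩⟩
  obtain ⟨g', hg', hg2', hgl', hgd', hgo'⟩ := h d' hd' hRd'
  have h2 := card_modEq_fixed Nat.prime_two hg2' O (hOinv g' hg' hgl')
  have e2 : O.filter (fun x => g' • x = x) = ∅ := by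
    ext x
    simp only [Finset.mem_filter, Finset.notMem_empty, iff_false, not_and]
    intro hx e
    have hd'O : d' ∈ O := hgo' x (hO x hx).1 (hO x hx).2 e ▸ hx
    exact hnot (Finset.mem_filter.1 hd'O).2
  rw [e1, Finset.card_singleton] at h1
  rw [e2, Finset.card_empty] at h2
  exact Nat.prime_two.not_dvd_one (Nat.modEq_zero_iff_dvd.1 (h1.trans h2.symm))

omit hS in
theorem arith_transl {h k T x : ℕ} (hk : k + 1 = 2 * h) (hT : T = 1 + h * x) (hx : Even x)
    (hdvd : T ∣ k ^ 2) (hlt : T < k ^ 2) : x = 0 := by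
  obtain ⟨M, hM⟩ := hdvd
  have hMh : (h : ℤ) ∣ (M : ℤ) - 1 := by
    refine ⟨4 * (h : ℤ) - 4 - M * x, ?_⟩
    have e1 : ((k : ℤ) + 1) = 2 * h := by exact_mod_cast hk
    have e2 : ((k : ℤ)) ^ 2 = T * M := by exact_mod_cast hM
    have e3 : (T : ℤ) = 1 + h * x := by exact_mod_cast hT
    linear_combination (norm := ring_nf) (k - 1 + 2 * (h : ℤ)) * e1 - e2 - (M : ℤ) * e3
  have hM2 : 2 ≤ M := by
    rcases M with _ | _ | M
    · simp at hM; omega
    · simp at hM; omega
    · omega
  have hMge : h + 1 ≤ M := by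
    have := Int.le_of_dvd (by omega) hMh
    omega
  have hle : T * (h + 1) ≤ k ^ 2 := hM ▸ Nat.mul_le_mul_left T hMge
  have hx4 : x < 4 := by
    by_contra hx4
    have h4 : (1 + h * 4) * (h + 1) ≤ k ^ 2 := le_trans (Nat.mul_le_mul_right _ (by
      rw [hT]
      have := Nat.mul_le_mul_left h (not_lt.1 hx4)
      omega)) hle
    have hk2 : k ≤ 2 * h := by omega
    nlinarith [Nat.pow_le_pow_left hk2 2]
  obtain ⟨y, rfl⟩ := hx
  rcases y with _ | _ | y
  · rfl
  · exfalso
    have hT' : T = k + 2 := by omega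
    have h4 : k + 2 ∣ 4 := by
      have h1 : k + 2 ∣ k ^ 2 := hT' ▸ ⟨M, hM⟩
      have h2 : k + 2 ∣ k ^ 2 + 2 * k := ⟨k, by ring⟩
      have h3 : k + 2 ∣ 2 * k := (Nat.dvd_add_right h1).1 h2
      have h5 : k + 2 ∣ 2 * k + 4 := ⟨2, by ring⟩
      exact (Nat.dvd_add_right h3).1 h5
    have hkle := Nat.le_of_dvd (by norm_num) h4
    have : k ≤ 2 := by omega
    interval_cases k <;> omega
  · omega

theorem GoodStar.orb_transl_trivial {b a : L} (hb : GoodStar H b) (ha : ¬ Orb H b a)
    (heq : onL a (EvenPt H) = onL a (fun f => ¬ EvenPt H f))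
    (hoff1 : ∃ d, EvenPt H d ∧ d ∉ a) (hoff2 : ∃ d, EdgePt H d a b ∧ d ∉ a) {l : L} (hl : Orb H a l) :
    Nat.card (transl H l) = 1 := by
  classical
  set k := ProjectivePlane.order P L with hk
  set h := onL a (EvenPt H) with hh
  have hla : ¬ Orb H b l := fun e => ha (e.trans hl.symm)
  have hhl : onL l (EvenPt H) = h := by rw [onL_orb EvenPt.invP hl]
  have hhl' : onL l (fun f => ¬ EvenPt H f) = h := by
    rw [onL_orb (fun g hg f hf e => hf ((EvenPt.invP.iff hg f).1 e)) hl, ← heq]
  have hK : k + 1 = 2 * h := by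
    have := onL_add_not l (EvenPt H)
    rw [hhl, hhl'] at this
    omega
  have hkodd := hS.odd
  -- the two kinds of points of the line
  have tE : ∀ d d' : P, d ∈ l → EvenPt H d → d' ∈ l → EvenPt H d' → ∃ g ∈ H, g • l = l ∧ g • d = d' := by
    intro d d' hd hed hd' hed'
    refine trans_on_line EvenPt.invP (fun x hx hex => ?_) hd hed hd' hed'
    obtain ⟨e, he⟩ := hS.axis x
    obtain ⟨g, hg, hi, hga, hgc⟩ := id he
    refine ⟨g, hg, by rw [pow_two]; exact hi.sq, hgc l hx, hgc.smul_point, fun y hy hey hfix => ?_⟩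
    rcases hga.fixed_point hi.ne hgc hfix with hye | rfl
    · exfalso
      have hxy : y ≠ x := hS.ne_center he hye
      have := hS.partner_even he hye hey
      rw [join_eq hxy hy hx] at this
      exact hla ((hb.axis_even hS hex he).trans this)
    · rfl
  have tN : ∀ d d' : P, d ∈ l → ¬ EvenPt H d → d' ∈ l → ¬ EvenPt H d' →
      ∃ g ∈ H, g • l = l ∧ g • d = d' := by
    intro d d' hd hed hd' hed'
    refine trans_on_line (R := fun f => ¬ EvenPt H f)
      (fun g hg f hf e => hf ((EvenPt.invP.iff hg f).1 e)) (fun x hx hex => ?_) hd hed hd' hed'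
    obtain ⟨e, he⟩ := hS.axis x
    obtain ⟨g, hg, hi, hga, hgc⟩ := id he
    refine ⟨g, hg, by rw [pow_two]; exact hi.sq, hgc l hx, hgc.smul_point, fun y hy hey hfix => ?_⟩
    rcases hga.fixed_point hi.ne hgc hfix with hye | rfl
    · exfalso
      have hxy : y ≠ x := hS.ne_center he hye
      refine hey ((hS.evenPt_iff_partner he hye).2 ?_)
      rw [join_eq hxy hy hx]
      exact (hb.axis_edge hS (hS.edge_on_line hb.star hla hx hex) he).symm
    · rfl
  obtain ⟨dE, hdE, hdE'⟩ := exists_of_onL_pos (m := l) (R := EvenPt H) (by rw [hhl]; omega)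
  obtain ⟨dN, hdN, hdN'⟩ := exists_of_onL_pos (m := l) (R := fun f => ¬ EvenPt H f) (by rw [hhl']; omega)
  set α := Nat.card (elat H dE l) with hα
  set β := Nat.card (elat H dN l) with hβ
  have hsum : ∑ c ∈ pts l, (Nat.card (elat H c l) - 1) = h * (α - 1) + h * (β - 1) := by
    have hv : ∀ c : P, c ∈ l → Nat.card (elat H c l) - 1 =
        (if EvenPt H c then α - 1 else 0) + if ¬ EvenPt H c then β - 1 else 0 := by
      intro c hc
      by_cases hec : EvenPt H c
      · obtain ⟨g, hg, hgl, hgd⟩ := tE dE c hdE hdE' hc hec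
        rw [if_pos hec, if_neg (not_not.2 hec), add_zero, hα,
          ← card_elat_smul hg (c := dE) (l := l), hgl, hgd]
      · obtain ⟨g, hg, hgl, hgd⟩ := tN dN c hdN hdN' hc hec
        rw [if_neg hec, if_pos hec, zero_add, hβ, ← card_elat_smul hg (c := dN) (l := l), hgl, hgd]
    rw [sum_two l (fun c => Nat.card (elat H c l) - 1) (EvenPt H) (fun c => ¬ EvenPt H c) (α - 1) (β - 1)
      (fun c hc => by convert hv c hc), hhl, hhl']
  have hT : Nat.card (transl H l) = 1 + h * ((α - 1) + (β - 1)) := by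
    rw [card_transl_eq_sum, hsum, mul_add]
  have hodd' : ∀ {c : P}, c ∈ l → Even (Nat.card (elat H c l) - 1) := fun {c} hc => by
    have h1 : Odd (Nat.card (elat H c l)) := hkodd.of_dvd_nat (card_elat_dvd H l hc)
    exact Nat.Odd.sub_odd h1 odd_one
  have hlt : Nat.card (transl H l) < k ^ 2 := by
    obtain ⟨d1, hd1, hd1a⟩ := hoff1
    obtain ⟨d2, hd2, hd2a⟩ := hoff2
    obtain ⟨g, hg, rfl⟩ := id hl
    set E : Finset P := (offPts (g • a)).filter fun f => EvenPt H f with hE
    have hEne : g • d1 ∈ E := Finset.mem_filter.2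
      ⟨mem_offPts.2 fun e => hd1a ((smul_mem_iff g).1 e), EvenPt.invP g hg d1 hd1⟩
    have hne : g • d2 ∈ offPts (g • a) ∧ g • d2 ∉ E :=
      ⟨mem_offPts.2 fun e => hd2a ((smul_mem_iff g).1 e),
        fun e => (EdgePt.invP a b g hg d2 hd2).not_evenPt (Finset.mem_filter.1 e).2⟩
    have hdvd : Nat.card (transl H (g • a)) ∣ E.card := by
      refine card_transl_dvd_of_invariant H _ E (fun f hf => mem_offPts.1 (Finset.mem_filter.1 hf).1)
        fun u hu hua f hf => Finset.mem_filter.2 ⟨mem_offPts.2 ?_, EvenPt.invP u hu f (Finset.mem_filter.1 hf).2⟩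
      rw [smul_mem_iff_of_fixed u hua]
      exact mem_offPts.1 (Finset.mem_filter.1 hf).1
    calc Nat.card (transl H (g • a)) ≤ E.card := Nat.le_of_dvd (Finset.card_pos.2 ⟨_, hEne⟩) hdvd
      _ < (offPts (g • a)).card := Finset.card_lt_card ⟨Finset.filter_subset _ _, fun hsub => hne.2 (hsub hne.1)⟩
      _ = k ^ 2 := card_offPts _
  have := arith_transl hK hT ((hodd' hdE).add (hodd' hdN)) (card_transl_dvd H l) hlt
  rw [hT, this, mul_zero, add_zero]

theorem GoodStar.two_orbits_false {b a : L} (hb : GoodStar H b) (ha : ¬ Orb H b a)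
    (htwo : ∀ m, Orb H b m ∨ Orb H a m)
    (h1 : nPts (fun d => EdgePt H d a b) = nLines (Orb H a)) (h0 : nPts (EvenPt H) = nLines (Orb H b))
    (hT : ∀ l, Orb H a l → Nat.card (transl H l) = 1) : False := by
  classical
  have kindA : ∀ {c : P} {l : L}, HomPair H c l → Orb H a l → EdgePt H c a b := by
    intro c l hc hl
    rcases hS.evenPt_or_edgePt c with he | ⟨x, y, he⟩
    · exact absurd ((hb.axis_even hS he hc).trans hl.symm) ha
    · rcases htwo x with hx | hx <;> rcases htwo y with hy | hy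
      · exact absurd (hx.symm.trans hy) he.1
      · exact he.swap.congr hy.symm hx.symm
      · exact he.congr hx.symm hy.symm
      · exact absurd (hx.symm.trans hy) he.1
  -- a bijection between a set of lines and a set of points gives unique axes
  have bij : ∀ (Q : L → Prop) (R : P → Prop), (∀ c l, HomPair H c l → (Q l ↔ R c)) →
      (∀ c d l, Q l → HomPair H c l → HomPair H d l → c = d) → nPts R = nLines Q →
      ∀ c l m, R c → HomPair H c l → HomPair H c m → l = m := by
    intro Q R hQR huniq hcard c l m hc hl hm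
    choose f hf using hS.center
    have himg : (Finset.univ.filter fun x : L => Q x).image f = Finset.univ.filter fun d : P => R d := by
      ext d
      simp only [Finset.mem_image, Finset.mem_filter, Finset.mem_univ, true_and]
      constructor
      · rintro ⟨x, hx, rfl⟩
        exact (hQR _ _ (hf x)).1 hx
      · intro hd
        obtain ⟨x, hx⟩ := hS.axis d
        exact ⟨x, (hQR _ _ hx).2 hd, huniq _ _ x ((hQR _ _ hx).2 hd) (hf x) hx⟩
    have hinj := Finset.card_image_iff.1 (by rw [himg]; exact hcard)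
    have hQl := (hQR _ _ hl).2 hc
    have hQm := (hQR _ _ hm).2 hc
    refine hinj (Finset.mem_coe.2 (Finset.mem_filter.2 ⟨Finset.mem_univ _, hQl⟩))
      (Finset.mem_coe.2 (Finset.mem_filter.2 ⟨Finset.mem_univ _, hQm⟩)) ?_
    rw [huniq _ _ l hQl (hf l) hl, huniq _ _ m hQm (hf m) hm]
  have hEdge : ∀ c l, HomPair H c l → (Orb H a l ↔ EdgePt H c a b) := fun c l hc =>
    ⟨kindA hc, fun he => hb.axis_edge hS he hc⟩
  have hEven : ∀ c l, HomPair H c l → (Orb H b l ↔ EvenPt H c) := fun c l hc =>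
    ⟨fun hl => (hS.evenPt_or_edgePt c).resolve_right fun ⟨x, y, he⟩ => by
      rcases htwo x with hx | hx <;> rcases htwo y with hy | hy
      · exact he.1 (hx.symm.trans hy)
      · exact hb.axis_ne c a l (he.swap.congr hy.symm hx.symm) hc hl
      · exact hb.axis_ne c a l (he.congr hx.symm hy.symm) hc hl
      · exact he.1 (hx.symm.trans hy),
    fun he => hb.axis_even hS he hc⟩
  have uA : ∀ c d l, Orb H a l → HomPair H c l → HomPair H d l → c = d :=
    fun c d l hl hc hd => hS.centers_unique (hT l hl) hc hd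
  have axA : ∀ c l m, EdgePt H c a b → HomPair H c l → HomPair H c m → l = m :=
    bij (Orb H a) (fun d => EdgePt H d a b) hEdge uA h1
  have hTb : ∀ m, Orb H b m → (∃ d, EdgePt H d a b ∧ d ∈ m) → Nat.card (transl H m) = 1 := by
    intro m hm hex
    rw [Subgroup.card_eq_one, Subgroup.eq_bot_iff_forall]
    intro t ht
    by_contra ht1
    obtain ⟨z, hzm, hz⟩ := exists_center_of_mem_transl ht
    have step : ∀ d : P, EdgePt H d a b → d ∈ m → ∀ e, HomPair H d e →
        z ∈ e ∧ z ≠ d ∧ EdgePt H z a b := by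
      intro d hd hdm e he
      have hae := hb.axis_edge hS hd he
      have hne : e ≠ m := fun e' => ha (hm.trans (e' ▸ hae).symm)
      have hte : t • e = e := by
        refine (axA d _ _ hd ?_ he)
        simpa [ht.2.1 d hdm] using he.conj ht.1
      have hze : z ∈ e := (hz.2.1.fixed_line ht1 hz.2.2 hte).resolve_right hne
      have hzd : z ≠ d := hS.ne_center he hze
      refine ⟨hze, hzd, ?_⟩
      have hn : ¬ Orb H e (join z d) := by
        rw [join_eq hzd hzm hdm]
        exact fun e' => ha (hm.trans (hae.trans e').symm)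
      have := hS.partner_edgePt he hze hn
      rw [join_eq hzd hzm hdm] at this
      exact this.congr hae.symm hm.symm
    obtain ⟨d, hd, hdm⟩ := hex
    obtain ⟨e, he⟩ := hS.axis d
    obtain ⟨-, -, hz'⟩ := step d hd hdm e he
    obtain ⟨e', he'⟩ := hS.axis z
    exact (step z hz' hzm e' he').2.1 rfl
  have hexb : ∀ m, Orb H b m → ∃ d, EdgePt H d a b ∧ d ∈ m := by
    intro m hm
    obtain ⟨d, hd⟩ := hb.exists_edge hS ha
    obtain ⟨m', hdm', hm'⟩ := hd.swap.exists_line
    obtain ⟨g, hg, rfl⟩ := hm'.symm.trans hm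
    exact ⟨g • d, EdgePt.invP a b g hg d hd, smul_mem g hdm'⟩
  have uB : ∀ c d l, Orb H b l → HomPair H c l → HomPair H d l → c = d :=
    fun c d l hl hc hd => hS.centers_unique (hTb l hl (hexb l hl)) hc hd
  have axB : ∀ c l m, EvenPt H c → HomPair H c l → HomPair H c m → l = m :=
    bij (Orb H b) (EvenPt H) hEven uB h0
  refine not_unique_homologies hS.odd hS.axis (fun c l m hl hm => ?_) fun c d l hc hd => ?_
  · rcases htwo l with h | h
    · exact axB c l m ((hEven c l hl).1 h) hl hm
    · exact axA c l m ((hEdge c l hl).1 h) hl hm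
  · rcases htwo l with h | h
    · exact uB c d l h hc hd
    · exact uA c d l h hc hd

theorem GoodStar.flag_eqs {b a : L} (hb : GoodStar H b) (ha : ¬ Orb H b a) :
    nPts (EvenPt H) * onL b (fun f => EdgePt H f a b) = nLines (Orb H a) * onL a (EvenPt H) ∧
    nPts (fun d => EdgePt H d a b) * onL a (EvenPt H) =
      nLines (Orb H a) * onL a (fun f => ¬ EvenPt H f) ∧
    nPts (fun d => EdgePt H d a b) * onL a (fun f => ¬ EvenPt H f) =
      nLines (Orb H b) * onL b (fun f => EdgePt H f a b) ∧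
    nPts (EvenPt H) * onL b (EvenPt H) = nLines (Orb H b) * onL b (EvenPt H) := by
  refine ⟨flag_count _ _ _ _ (fun d hd => (hb.cnt_even hS hd).2 a ha) fun l hl => onL_orb EvenPt.invP hl,
    flag_count _ _ _ _ (fun d hd => (hb.cnt_edge hS hd).1) fun l hl => ?_,
    flag_count _ _ _ _ (fun d hd => (hb.cnt_edge hS hd).2) fun l hl => onL_orb (EdgePt.invP a b) hl,
    flag_count _ _ _ _ (fun d hd => (hb.cnt_even hS hd).1) fun l hl => onL_orb EvenPt.invP hl⟩
  rw [← onL_orb (R := fun f => ¬ EvenPt H f) (fun g hg f hf e => hf ((EvenPt.invP.iff hg f).1 e)) hl]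
  exact onL_congr l fun f hf => ⟨fun e => e.not_evenPt, fun e =>
    (hS.edge_on_line hb.star (fun e' => ha (e'.trans hl.symm)) hf e).congr hl.symm (Orb.refl b)⟩

theorem Setup.star_fixed {b₀ : L} (hst : Star H b₀) (hn : ∃ l m : L, ¬ Orb H l m) :
    (∃ l : L, ∀ g ∈ H, g • l = l) ∨ ∃ x : P, ∀ g ∈ H, g • x = x := by
  classical
  obtain ⟨b, hb⟩ := hS.exists_goodStar hst
  obtain ⟨a, ha⟩ : ∃ a, ¬ Orb H b a := by
    obtain ⟨l, m, hlm⟩ := hn
    by_contra! h
    exact hlm ((h l).symm.trans (h m))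
  have pos : ∀ a, ¬ Orb H b a → 0 < onL b (fun f => EdgePt H f a b) ∧ 0 < onL a (EvenPt H) ∧
      0 < onL a (fun f => ¬ EvenPt H f) ∧ 0 < nLines (Orb H a) := by
    intro a ha
    obtain ⟨d, hd⟩ := hb.exists_edge hS ha
    obtain ⟨m, hdm, hbm⟩ := hd.swap.exists_line
    refine ⟨?_, ?_, ?_, Finset.card_pos.2 ⟨a, Finset.mem_filter.2 ⟨Finset.mem_univ _, Orb.refl a⟩⟩⟩
    · rw [← onL_orb (EdgePt.invP a b) hbm]
      exact onL_pos hdm hd
    · rw [← (hb.cnt_edge hS hd).1]
      exact hd.2.2.1.pos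
    · rw [← (hb.cnt_edge hS hd).2]
      exact hd.2.2.2.pos
  obtain ⟨hq, hu, hw, hN⟩ := pos a ha
  have huw := onL_add_not a (EvenPt H)
  obtain ⟨hC, hD, hE, hF⟩ := hb.flag_eqs hS ha
  have hA := hb.count_center hS ha
  have hB := hb.count_self hS ha
  set k := ProjectivePlane.order P L
  set q := onL b (fun f => EdgePt H f a b)
  set r := onL b (EvenPt H) with hr
  set u := onL a (EvenPt H)
  set w := onL a (fun f => ¬ EvenPt H f)
  by_cases hr0 : r = 0
  · rw [hr0, zero_mul, add_zero] at hA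
    have hcases : u = 1 ∨ w = 1 := by
      have h1 : k = w * u := by
        rw [hA, mul_comm u q] at hB
        omega
      rcases u with _ | _ | u
      · omega
      · exact Or.inl rfl
      · rcases w with _ | _ | w
        · omega
        · exact Or.inr rfl
        · exfalso
          have h2 : u + 1 + 1 + (w + 1 + 1) = (w + 1 + 1) * (u + 1 + 1) + 1 := by omega
          nlinarith
    rcases hcases with hu1 | hw1
    · right
      refine exists_fixed_point EvenPt.invP (Nat.eq_of_mul_eq_mul_right hq ?_)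
      rw [hC, hA, hu1, mul_one, mul_one, one_mul]
    · left
      refine exists_fixed_line (Orb.invL b) ?_
      rw [hA, hw1, mul_one] at hD
      have hp1 : nPts (fun d => EdgePt H d a b) = q := Nat.eq_of_mul_eq_mul_right hu hD
      rw [hp1, hw1, mul_one] at hE
      exact Nat.eq_of_mul_eq_mul_right hq (by rw [one_mul]; exact hE.symm)
  · have hrpos : 0 < r := Nat.pos_of_ne_zero hr0
    have hP0 : nPts (EvenPt H) = nLines (Orb H b) := Nat.eq_of_mul_eq_mul_right hrpos hF
    have key : ∀ a, ¬ Orb H b a → nPts (fun d => EdgePt H d a b) = nLines (Orb H a) ∧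
        onL a (EvenPt H) = onL a (fun f => ¬ EvenPt H f) := by
      intro a ha
      obtain ⟨hC, hD, hE, -⟩ := hb.flag_eqs hS ha
      obtain ⟨-, hu, -, hN⟩ := pos a ha
      rw [← hP0, hC] at hE
      have h1 : nPts (fun d => EdgePt H d a b) = nLines (Orb H a) := by
        refine Nat.eq_of_mul_eq_mul_right (m := onL a (EvenPt H) + onL a (fun f => ¬ EvenPt H f))
          (by omega) ?_
        rw [mul_add, hD, hE, ← mul_add, add_comm]
      exact ⟨h1, Nat.eq_of_mul_eq_mul_left hN (h1 ▸ hD)⟩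
    exfalso
    by_cases htwo : ∀ m, Orb H b m ∨ Orb H a m
    · obtain ⟨h1, heq⟩ := key a ha
      -- both kinds of points occur off `a`
      obtain ⟨e0, -, he0⟩ := exists_of_onL_pos (hr ▸ hrpos : 0 < onL b (EvenPt H))
      have two : ∀ R : P → Prop, Even (onL b R) → 0 < onL b R → ∃ d, R d ∧ d ∉ a := by
        intro R hev hpos
        have h2 : 2 ≤ ((pts b).filter fun d => R d).card := by
          obtain ⟨j, hj⟩ := hev
          unfold onL at hj hpos
          omega
        obtain ⟨x, hx, y, hy, hxy⟩ := Finset.one_lt_card.1 h2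
        simp only [Finset.mem_filter, mem_pts] at hx hy
        by_cases hxa : x ∈ a
        · refine ⟨y, hy.2, fun hya => hxy (point_unique (fun e : b = a => ha (e ▸ Orb.refl b))
            hx.1 hxa hy.1 hya)⟩
        · exact ⟨x, hx.2, hxa⟩
      have hT : ∀ l, Orb H a l → Nat.card (transl H l) = 1 := fun l hl =>
        hb.orb_transl_trivial hS ha heq
          (two _ ((hb.cnt_even hS he0).1 ▸ he0 _ (Orb.invL b)) hrpos)
          (two _ ((hb.cnt_even hS he0).2 a ha ▸ he0 _ (Orb.invL a)) hq) hl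
      exact hb.two_orbits_false hS ha htwo h1 hP0 hT
    · push Not at htwo
      obtain ⟨a', ha', haa'⟩ := htwo
      obtain ⟨-, hu'eq⟩ := key a' ha'
      obtain ⟨-, hueq⟩ := key a ha
      have huw' := onL_add_not a' (EvenPt H)
      have hA' := hb.count_center hS ha'
      have hG := hb.count_other hS ha ha' haa'
      obtain ⟨hq', -, -, -⟩ := pos a' ha'
      have : u = onL a' (EvenPt H) + r := Nat.eq_of_mul_eq_mul_right hq' (by
        rw [← hG, hA', add_mul, mul_comm (onL a' (EvenPt H))])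
      omega

end Cfsg.Agent.OstromPlane
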