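/-
A triangle of line orbits in a covered plane of odd order forces a fixed point or line; hence a covered
group of odd order fixes a point or a line or is transitive on lines.

Main results (namespace `Cfsg.Agent.OstromPlane`): `Setup.triangle_fixed`, `Setup.fixed_or_transitive`.
-/
import Cfsg.Agent.Lib.OstromWagner.Star

set_option autoImplicit false
set_option linter.unusedSectionVars false

namespace Cfsg.Agent.OstromPlane

open Configuration

universe u v

variable {P : Type u} {L : Type v} [Membership P L] [ProjectivePlane P L] [Finite P] [Finite L]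
  [Fintype P] [Fintype L]

variable {H : Subgroup (Coll P L)}

theorem Triangle.rot {a b c : L} (T : Triangle H a b c) : Triangle H b c a :=
  ⟨T.bc, T.ca, T.ab, fun f => (T.cover f).elim (fun h => Or.inr (Or.inr h))
    fun h => h.elim Or.inl fun h => Or.inr (Or.inl h), T.exists_bc, T.exists_ca, T.exists_ab⟩

theorem Triangle.swap {a b c : L} (T : Triangle H a b c) : Triangle H b a c := by
  obtain ⟨d, hd⟩ := T.exists_ab
  obtain ⟨e, he⟩ := T.exists_bc
  obtain ⟨f, hf⟩ := T.exists_ca
  exact ⟨fun h => T.ab h.symm, fun h => T.ca h.symm, fun h => T.bc h.symm,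
    fun x => (T.cover x).elim (fun h => Or.inl h.swap)
      fun h => h.elim (fun h => Or.inr (Or.inr h.swap)) fun h => Or.inr (Or.inl h.swap),
    ⟨d, hd.swap⟩, ⟨f, hf.swap⟩, ⟨e, he.swap⟩⟩

theorem Triangle.mem_orb {a b c : L} (T : Triangle H a b c) (m : L) :
    Orb H a m ∨ Orb H b m ∨ Orb H c m := by
  obtain ⟨x, hx, -, -⟩ := exists_third_point (P := P) m (meet m m) (meet m m)
  rcases T.cover x with h | h | h <;> rcases h.2.1 m hx with e | e
  · exact Or.inl e
  · exact Or.inr (Or.inl e)
  · exact Or.inr (Or.inl e)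
  · exact Or.inr (Or.inr e)
  · exact Or.inr (Or.inr e)
  · exact Or.inl e

theorem EdgePt.third_zero {a b c : L} {d : P} (T : Triangle H a b c) (hd : EdgePt H d a b) :
    cnt d (Orb H c) = 0 :=
  cnt_eq_zero fun m hm hcm =>
    (hd.2.1 m hm).elim (fun e => T.ca (hcm.trans e.symm)) fun e => T.bc (e.trans hcm.symm)

/-- A point on a line of the orbit of `a` is an edge point at `a`. -/
theorem Triangle.on_line {a b c : L} (T : Triangle H a b c) {m : L} {x : P} (hm : Orb H a m)
    (hx : x ∈ m) : EdgePt H x a b ∨ EdgePt H x c a := by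
  rcases T.cover x with h | h | h
  · exact Or.inl h
  · exact ((h.2.1 m hx).elim (fun e => T.ab (hm.trans e.symm)) fun e => T.ca (e.trans hm.symm)).elim
  · exact Or.inr h

variable (hS : Setup H)

include hS

theorem Triangle.axis_orb {a b c e : L} {d : P} (T : Triangle H a b c) (hd : EdgePt H d a b)
    (he : HomPair H d e) : Orb H c e := by
  rcases hS.axis_cases hd he with ⟨-, h⟩ | ⟨-, h⟩ | ⟨hae, hbe, -⟩
  · obtain ⟨f, hf⟩ := T.exists_ca
    exact absurd (h f c hf.swap) T.bc
  · obtain ⟨f, hf⟩ := T.exists_bc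
    exact absurd (h f c hf).symm T.ca
  · exact ((T.mem_orb e).resolve_left hae).resolve_left hbe

theorem Triangle.cnt_left {a b c : L} {d : P} (T : Triangle H a b c) (hd : EdgePt H d a b) :
    cnt d (Orb H a) = onL c (fun f => EdgePt H f c a) := by
  obtain ⟨e, he⟩ := hS.axis d
  have hce := T.axis_orb hS hd he
  rw [hS.cnt_center he, ← onL_orb (EdgePt.invP c a) hce]
  refine onL_congr e fun f hf => ⟨fun hj => ?_, fun hf' => hS.partner_edge he hf hf' hce⟩
  have hn : ¬ Orb H e (join f d) := fun e' => T.ca (hce.trans (e'.trans hj.symm))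
  exact (hS.partner_edgePt he hf hn).congr hce.symm hj.symm

omit hS in
theorem onL_comm (m x y : L) : onL m (fun f => EdgePt H f x y) = onL m (fun f => EdgePt H f y x) :=
  onL_congr (P := P) m fun _ _ => ⟨EdgePt.swap, EdgePt.swap⟩

theorem Triangle.cnt_right {a b c : L} {d : P} (T : Triangle H a b c) (hd : EdgePt H d a b) :
    cnt d (Orb H b) = onL c (fun f => EdgePt H f b c) := by
  rw [T.swap.cnt_left hS hd.swap, onL_comm]

omit hS in
theorem Triangle.onL_add {a b c : L} (T : Triangle H a b c) :
    onL a (fun f => EdgePt H f a b) + onL a (fun f => EdgePt H f c a) =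
      ProjectivePlane.order P L + 1 := by
  rw [← onL_add_not a (fun f => EdgePt H f a b)]
  congr 1
  refine onL_congr a fun x hx => ⟨fun h h' => ?_, (T.on_line (Orb.refl a) hx).resolve_left⟩
  exact Nat.not_odd_zero (EdgePt.third_zero T h' ▸ h.2.2.1)

omit hS in
theorem Triangle.pos {a b c : L} (T : Triangle H a b c) :
    0 < onL a (fun f => EdgePt H f a b) ∧ 0 < onL a (fun f => EdgePt H f c a) := by
  obtain ⟨d, hd⟩ := T.exists_ab
  obtain ⟨m, hdm, ham⟩ := hd.exists_line
  obtain ⟨e, he⟩ := T.exists_ca
  obtain ⟨m', hem', ham'⟩ := he.swap.exists_line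
  refine ⟨?_, ?_⟩
  · rw [← onL_orb (EdgePt.invP a b) ham]
    exact onL_pos hdm hd
  · rw [← onL_orb (EdgePt.invP c a) ham']
    exact onL_pos hem' he

theorem Triangle.count_lines {a b c : L} (T : Triangle H a b c) :
    nLines (Orb H a) = onL b (fun f => EdgePt H f a b) * onL c (fun f => EdgePt H f c a) := by
  classical
  have h := sum_cnt (P := P) b (Orb H a)
  rw [if_neg T.ab, add_zero] at h
  rw [← h, sum_two b _ (fun f => EdgePt H f a b) (fun f => EdgePt H f b c)
    (onL c (fun f => EdgePt H f c a)) 0 fun d hd => ?_]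
  · simp
  rcases T.rot.on_line (Orb.refl b) hd with e | e
  · rw [EdgePt.third_zero T.rot e, if_neg, if_pos e]
    exact fun e' => Nat.not_odd_zero (EdgePt.third_zero T e' ▸ e.2.2.2)
  · rw [T.cnt_left hS e, if_pos e, if_neg]
    · rfl
    · exact fun e' => Nat.not_odd_zero (EdgePt.third_zero T.rot e' ▸ e.2.2.1)

theorem Triangle.count_self {a b c : L} (T : Triangle H a b c) :
    nLines (Orb H a) + ProjectivePlane.order P L =
      onL a (fun f => EdgePt H f a b) * onL c (fun f => EdgePt H f c a) +
        onL a (fun f => EdgePt H f c a) * onL b (fun f => EdgePt H f a b) := by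
  classical
  have h := sum_cnt (P := P) a (Orb H a)
  rw [if_pos (Orb.refl a)] at h
  rw [← h]
  refine sum_two a _ _ _ _ _ fun d hd => ?_
  rcases T.on_line (Orb.refl a) hd with e | e
  · rw [T.cnt_left hS e, if_pos e, if_neg, add_zero]
    exact fun e' => Nat.not_odd_zero (EdgePt.third_zero T e ▸ e'.2.2.1)
  · rw [T.rot.rot.cnt_right hS e, if_neg, if_pos e, zero_add]
    exact fun e' => Nat.not_odd_zero (EdgePt.third_zero T e' ▸ e.2.2.1)

theorem Triangle.count_points {a b c : L} (T : Triangle H a b c) :
    nPts (fun f => EdgePt H f a b) =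
      onL a (fun f => EdgePt H f a b) * onL b (fun f => EdgePt H f a b) := by
  classical
  obtain ⟨f, hf⟩ := T.exists_bc
  have h := sum_card_filter_comm (Finset.univ.filter fun g : P => EdgePt H g a b)
    ((lns f).filter fun l : L => Orb H b l)
  have e1 : ∀ g ∈ Finset.univ.filter (fun g : P => EdgePt H g a b),
      (((lns f).filter fun l : L => Orb H b l).filter fun l => g ∈ l).card = 1 := by
    intro g hg
    replace hg := (Finset.mem_filter.1 hg).2
    have hne : g ≠ f := fun e => Nat.not_odd_zero (EdgePt.third_zero T (e ▸ hg) ▸ hf.2.2.2)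
    have hb : Orb H b (join g f) := by
      rcases hg.2.1 _ (left_mem_join g f) with h1 | h1
      · rcases hf.2.1 _ (right_mem_join g f) with h2 | h2
        · exact h2
        · exact absurd (h2.trans h1.symm) T.ca
      · exact h1
    rw [Finset.card_eq_one]
    refine ⟨join g f, Finset.ext fun l => ?_⟩
    simp only [Finset.mem_filter, mem_lns, Finset.mem_singleton]
    exact ⟨fun h => (join_eq hne h.2 h.1.1).symm,
      fun e => e ▸ ⟨⟨right_mem_join g f, hb⟩, left_mem_join g f⟩⟩
  have e2 : ∀ l ∈ (lns f).filter (fun l : L => Orb H b l),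
      ((Finset.univ.filter fun g : P => EdgePt H g a b).filter fun g => g ∈ l).card =
        onL b (fun f => EdgePt H f a b) := by
    intro l hl
    rw [← onL_orb (EdgePt.invP a b) (Finset.mem_filter.1 hl).2, onL]
    congr 1
    ext g
    simp [and_comm]
  rw [Finset.sum_congr rfl e1, Finset.sum_congr rfl e2, Finset.sum_const, Finset.sum_const,
    smul_eq_mul, smul_eq_mul, mul_one] at h
  rw [nPts, h]
  congr 1
  exact T.rot.cnt_left hS hf

omit hS in
theorem triangle_arith {k α α' β β' γ γ' : ℕ} (hα : α + α' = k + 1) (hβ : β + β' = k + 1)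
    (hγ : γ + γ' = k + 1) (h1 : 0 < α) (h2 : 0 < α') (h3 : 0 < β) (h4 : 0 < β') (h5 : 0 < γ)
    (h6 : 0 < γ') (heq : β' * γ + k = α * γ + α' * β') :
    β' * γ = 1 ∨ γ' * α = 1 ∨ α' * β = 1 ∨ α * β' = 1 ∨ β * γ' = 1 ∨ γ * α' = 1 := by
  have hp : ((β' : ℤ) - α) * (γ' - α) = ((α : ℤ) - 1) * (α - k) := by
    have e1 : (β' : ℤ) * γ + k = α * γ + α' * β' := by exact_mod_cast heq
    have e2 : (α' : ℤ) = k + 1 - α := by omega
    have e3 : (γ : ℤ) = k + 1 - γ' := by omega
    rw [e2, e3] at e1
    linarith
  have d1 : α = 1 ∨ α = k ∨ (1 < α ∧ α < k) := by omega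
  rcases d1 with rfl | hk | ⟨ha1, hak⟩
  · simp only [Nat.cast_one, sub_self, zero_mul, mul_eq_zero] at hp
    rcases hp with h | h
    · exact Or.inr (Or.inr (Or.inr (Or.inl (by rw [show β' = 1 by omega]))))
    · exact Or.inr (Or.inl (by rw [show γ' = 1 by omega]))
  · have ha' : α' = 1 := by omega
    rw [show (α : ℤ) = k by omega, sub_self, mul_zero, mul_eq_zero] at hp
    rcases hp with h | h
    · exact Or.inr (Or.inr (Or.inl (by rw [ha', show β = 1 by omega])))
    · exact Or.inr (Or.inr (Or.inr (Or.inr (Or.inr (by rw [ha', show γ = 1 by omega])))))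
  · rcases lt_trichotomy β' α with h | h | h
    · have hb : β' = 1 := by
        by_contra hb
        have hb2 : (2 : ℤ) ≤ β' := by omega
        have hk : (γ' : ℤ) ≤ k := by omega
        have hak' : (α : ℤ) < k := by omega
        have h' : (β' : ℤ) < α := by omega
        nlinarith
      have hg : γ = 1 := by
        rw [hb] at hp
        have hne : (1 : ℤ) - α ≠ 0 := by omega
        have : (γ' : ℤ) - α = k - α := by
          apply mul_left_cancel₀ hne
          push_cast at hp
          linarith
        omega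
      exact Or.inl (by rw [hb, hg])
    · exfalso
      rw [h, sub_self, zero_mul, eq_comm, mul_eq_zero] at hp
      omega
    · have hb : β' = k := by
        by_contra hb
        have hb2 : (β' : ℤ) ≤ k - 1 := by omega
        have hk : (1 : ℤ) ≤ γ' := by omega
        have ha1' : (1 : ℤ) < α := by omega
        have h' : (α : ℤ) < β' := by omega
        nlinarith
      have hg : γ' = 1 := by
        rw [hb] at hp
        have hne : (k : ℤ) - α ≠ 0 := by omega
        have : (γ' : ℤ) - α = 1 - α := by
          apply mul_left_cancel₀ hne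
          linarith
        omega
      exact Or.inr (Or.inr (Or.inr (Or.inr (Or.inl (by rw [hg, show β = 1 by omega])))))

theorem Setup.triangle_fixed {a b c : L} (T : Triangle H a b c) :
    (∃ l : L, ∀ g ∈ H, g • l = l) ∨ ∃ x : P, ∀ g ∈ H, g • x = x := by
  have A := T.count_lines hS
  have B := T.rot.count_lines hS
  have C := T.rot.rot.count_lines hS
  have hself := T.count_self hS
  rw [A] at hself
  have pa := T.pos
  have pb := T.rot.pos
  have pc := T.rot.rot.pos
  rcases triangle_arith T.onL_add T.rot.onL_add T.rot.rot.onL_add pa.1 pa.2 pb.1 pb.2 pc.1 pc.2 hself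
    with h | h | h | h | h | h
  · exact Or.inl (exists_fixed_line (Orb.invL a) (A.trans h))
  · exact Or.inl (exists_fixed_line (Orb.invL b) (B.trans h))
  · exact Or.inl (exists_fixed_line (Orb.invL c) (C.trans h))
  · exact Or.inr (exists_fixed_point (EdgePt.invP a b) ((T.count_points hS).trans h))
  · exact Or.inr (exists_fixed_point (EdgePt.invP b c) ((T.rot.count_points hS).trans h))
  · exact Or.inr (exists_fixed_point (EdgePt.invP c a) ((T.rot.rot.count_points hS).trans h))

theorem Setup.fixed_or_transitive :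
    (∃ l : L, ∀ g ∈ H, g • l = l) ∨ (∃ x : P, ∀ g ∈ H, g • x = x) ∨ ∀ l m : L, Orb H l m := by
  by_cases h : ∀ l m : L, Orb H l m
  · exact Or.inr (Or.inr h)
  push Not at h
  rcases hS.star_or_triangle h with ⟨b, hb⟩ | ⟨a, b, c, T⟩
  · exact (hS.star_fixed hb h).imp_right Or.inl
  · exact (hS.triangle_fixed T).imp_right Or.inl

end Cfsg.Agent.OstromPlane
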