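/-
A covered group of collineations forces prime power order and an element of that prime order fixing an
antiflag.

Main results (namespace `Cfsg.Agent.OstromPlane`): `GoodElation`, `Covered.good`.
-/
import Cfsg.Agent.Lib.OstromWagner.Triangle

set_option autoImplicit false
set_option linter.unusedSectionVars false

namespace Cfsg.Agent.OstromPlane

open Configuration

universe u v

variable {P : Type u} {L : Type v} [Membership P L] [ProjectivePlane P L] [Finite P] [Finite L]
  [Fintype P] [Fintype L]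

/-- Prime power order `p ^ e` and an element of order `p` fixing an antiflag. -/
def GoodElation (H : Subgroup (Coll P L)) : Prop :=
  ∃ p e : ℕ, p.Prime ∧ 0 < e ∧ ProjectivePlane.order P L = p ^ e ∧
    ∃ g ∈ H, orderOf g = p ∧ ∃ (a : P) (m : L), a ∉ m ∧ g • a = a ∧ g • m = m

variable {H : Subgroup (Coll P L)}

theorem Full.good {l : L} (hF : Full H l) : GoodElation H := by
  obtain ⟨p, e, hp, he, hn, hexp⟩ := hF.prime_pow
  have hc : (meet l l : P) ∈ l := meet_mem_left l l
  have hn1 := ProjectivePlane.one_lt_order P L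
  obtain ⟨g, hg, hg1⟩ := exists_ne_one (K := elat H _ l) (by rw [hF.card_elat hc]; exact hn1)
  obtain ⟨a, hal, hac, -⟩ := exists_third_point l (meet l l : P) (meet l l)
  obtain ⟨m, hcm, hml, -⟩ := exists_third_line (meet l l : P) l l
  haveI := Fact.mk hp
  exact ⟨p, e, hp, he, hn, g, hg.1, orderOf_eq_prime (hexp g (elat_le_transl hc hg)) hg1, a, m,
    fun ham => hac (point_unique hml ham hal hcm hc), hg.2.1 a hal, hg.2.2 m hcm⟩

theorem goodElation_of_dual [Fintype (Dual L)] [Fintype (Dual P)]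
    (h : GoodElation (H.map (dualHom (P := P) (L := L)))) : GoodElation H := by
  obtain ⟨p, e, hp, he, hn, _, ⟨g, hg, rfl⟩, hgo, a, m, ham, hga, hgm⟩ := h
  refine ⟨p, e, hp, he, (ProjectivePlane.Dual.order P L).symm.trans hn, g, hg, ?_, m, a, ham, hgm, hga⟩
  rwa [orderOf_injective _ dualHom_injective] at hgo

theorem exists_elation_of_two_centers {c d : P} {l : L} (hc : HomPair H c l) (hd : HomPair H d l)
    (hcl : c ∉ l) (hdl : d ∉ l) (hne : c ≠ d) : ∃ z, z ∈ l ∧ ∃ g ∈ elat H z l, g ≠ 1 := by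
  obtain ⟨g, hg, hgi, hga, hgc⟩ := hc
  obtain ⟨k, hk, hki, hka, hkc⟩ := hd
  obtain ⟨z, hz, ht⟩ := exists_center_of_mem_transl
    (mul_invol_mem_transl hg hk hgi hki hga hka hgc hkc hcl hdl hne)
  refine ⟨z, hz, g * k, ht, fun e => hne ?_⟩
  have hgk : g = k := by
    rw [mul_eq_one_iff_eq_inv] at e
    rw [e, inv_eq_of_mul_eq_one_right hki.sq]
  exact Center.unique hgi.ne hgc (hgk ▸ hkc)

theorem exists_elation (hS : Setup H) :
    ∃ (z : P) (l : L), z ∈ l ∧ ∃ g ∈ elat H z l, g ≠ 1 := by
  by_contra! hno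
  refine not_unique_homologies hS.odd hS.axis (fun c l m hl hm => ?_) fun c d l hc hd => ?_
  · by_contra hne
    have : Fintype (Dual L) := inferInstanceAs (Fintype L)
    have : Fintype (Dual P) := inferInstanceAs (Fintype P)
    obtain ⟨z, hz, g, hg, hg1⟩ := exists_elation_of_two_centers (homPair_dual hl) (homPair_dual hm)
      (show c ∉ l from hl.not_mem hS.odd) (show c ∉ m from hm.not_mem hS.odd) hne
    obtain ⟨⟨g₀, hg₀, rfl⟩, ha, hcz⟩ := hg
    refine hg1 ?_
    rw [hno c z hz g₀ ⟨hg₀, axis_iff_dual.2 hcz, center_iff_dual.2 ha⟩, map_one]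
  · by_contra hne
    obtain ⟨z, hz, g, hg, hg1⟩ := exists_elation_of_two_centers hc hd (hc.not_mem hS.odd)
      (hd.not_mem hS.odd) hne
    exact hg1 (hno z l hz g hg)

theorem Covered.good (hH : Covered H) : GoodElation H := by
  have : Fintype (Dual L) := inferInstanceAs (Fintype L)
  have : Fintype (Dual P) := inferInstanceAs (Fintype P)
  obtain ⟨l₀, -⟩ := exists_third_line
    (Classical.choose (@ProjectivePlane.exists_config P L _ _))
    (join (Classical.choose (@ProjectivePlane.exists_config P L _ _))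
      (Classical.choose (@ProjectivePlane.exists_config P L _ _)) : L)
    (join (Classical.choose (@ProjectivePlane.exists_config P L _ _))
      (Classical.choose (@ProjectivePlane.exists_config P L _ _)))
  rcases Nat.even_or_odd (ProjectivePlane.order P L) with hev | hodd
  · exact (hH.full_of_even hev l₀).good
  have hodd' : Odd (ProjectivePlane.order (Dual L) (Dual P)) := by rwa [ProjectivePlane.Dual.order P L]
  have fixed_point : ∀ x : P, (∀ g ∈ H, g • x = x) → GoodElation H := fun x hx =>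
    goodElation_of_dual (Full.good (full_of_fixed_line hH.dual hodd' (l := dln x) (by
      rintro _ ⟨g, hg, rfl⟩
      exact hx g hg)))
  rcases Setup.fixed_or_transitive ⟨hH, hodd⟩ with ⟨l, hl⟩ | ⟨x, hx⟩ | htl
  · exact (full_of_fixed_line hH hodd hl).good
  · exact fixed_point x hx
  rcases Setup.fixed_or_transitive ⟨hH.dual, hodd'⟩ with ⟨l, hl⟩ | ⟨x, hx⟩ | htp
  · exact fixed_point l fun g hg => hl _ (Subgroup.mem_map_of_mem _ hg)
  · exact (full_of_fixed_line hH hodd (l := x) fun g hg => hx _ (Subgroup.mem_map_of_mem _ hg)).good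
  obtain ⟨z, l, hzl, g, hg, hg1⟩ := exists_elation (H := H) ⟨hH, hodd⟩
  obtain ⟨p, hp, hdvd⟩ := Nat.exists_prime_and_dvd (fun e => hg1 (orderOf_eq_one_iff.1 e))
  set g₀ := g ^ (orderOf g / p)
  have hgo : orderOf g₀ = p := by
    rw [orderOf_pow' g (Nat.div_pos (Nat.le_of_dvd (orderOf_pos g) hdvd) hp.pos).ne',
      Nat.gcd_eq_right (Nat.div_dvd_of_dvd hdvd), Nat.div_div_self hdvd (orderOf_pos g).ne']
  have hg₀ : g₀ ∈ elat H z l := pow_mem hg _
  refine (full_of_elations H hp (fun m => ?_) (fun x => ?_) l₀).good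
  · obtain ⟨h, hh, rfl⟩ := htl l m
    exact ⟨h • z, smul_mem h hzl, _, conj_mem_elat hh hg₀,
      by rw [← MulAut.conj_apply, MulEquiv.orderOf_eq]; exact hgo⟩
  · obtain ⟨_, ⟨h, hh, rfl⟩, he⟩ := htp (dln z) (dln x)
    refine ⟨h • l, (show h • z = x from he) ▸ smul_mem h hzl, _, (show h • z = x from he) ▸ conj_mem_elat hh hg₀, ?_⟩
    rw [← MulAut.conj_apply, MulEquiv.orderOf_eq]
    exact hgo

end Cfsg.Agent.OstromPlane
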