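/-
The fixed subplane of a planar group of collineations, the action of its normaliser, and the order of the
fixed subplane of a planar 2-group.

Main results (namespace `Cfsg.Agent.OstromPlane`): `Planar`, `fixPlane`, `res`, `Invol.baer`,
`planar_two_group_order`.
-/
import Cfsg.Agent.Lib.OstromWagner.Central

set_option autoImplicit false
set_option linter.unusedSectionVars false

namespace Cfsg.Agent.OstromPlane

open Configuration

universe u v

variable {P : Type u} {L : Type v} [Membership P L]

/-- The points fixed by `U`. -/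
def FixP (U : Subgroup (Coll P L)) : Type u := {p : P // ∀ g ∈ U, g • p = p}

/-- The lines fixed by `U`. -/
def FixL (U : Subgroup (Coll P L)) : Type v := {l : L // ∀ g ∈ U, g • l = l}

instance (U : Subgroup (Coll P L)) : Membership (FixP U) (FixL U) := ⟨fun l p => p.1 ∈ l.1⟩

instance [Finite P] (U : Subgroup (Coll P L)) : Finite (FixP U) :=
  inferInstanceAs (Finite {p : P // ∀ g ∈ U, g • p = p})

instance [Finite L] (U : Subgroup (Coll P L)) : Finite (FixL U) :=
  inferInstanceAs (Finite {l : L // ∀ g ∈ U, g • l = l})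

/-- A fixed point as a point of the fixed configuration. -/
abbrev FixP.mk {U : Subgroup (Coll P L)} (p : P) (h : ∀ g ∈ U, g • p = p) : FixP U := ⟨p, h⟩

/-- A fixed line as a line of the fixed configuration. -/
abbrev FixL.mk {U : Subgroup (Coll P L)} (l : L) (h : ∀ g ∈ U, g • l = l) : FixL U := ⟨l, h⟩

theorem fix_mem_iff {U : Subgroup (Coll P L)} {p : FixP U} {l : FixL U} : p ∈ l ↔ p.1 ∈ l.1 := Iff.rfl

/-- `U` fixes a quadrangle. -/
def Planar (U : Subgroup (Coll P L)) : Prop :=
  ∃ a b c d : P, Quad L a b c d ∧ (∀ g ∈ U, g • a = a) ∧ (∀ g ∈ U, g • b = b) ∧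
    (∀ g ∈ U, g • c = c) ∧ ∀ g ∈ U, g • d = d

theorem Planar.mono {U V : Subgroup (Coll P L)} (hU : Planar U) (h : V ≤ U) : Planar V := by
  obtain ⟨a, b, c, d, hq, ha, hb, hc, hd⟩ := hU
  exact ⟨a, b, c, d, hq, fun g hg => ha g (h hg), fun g hg => hb g (h hg), fun g hg => hc g (h hg),
    fun g hg => hd g (h hg)⟩

theorem fixed_by_closure {S : Set (Coll P L)} {x : P} (h : ∀ g ∈ S, g • x = x) :
    ∀ g ∈ Subgroup.closure S, g • x = x :=
  (Subgroup.closure_le (K := MulAction.stabilizer (Coll P L) x)).2 h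

theorem forall_zpowers_smul {g : Coll P L} {x : P} :
    (∀ h ∈ Subgroup.zpowers g, h • x = x) ↔ g • x = x :=
  ⟨fun h => h g (Subgroup.mem_zpowers g),
    fun h => (Subgroup.zpowers_le (H := MulAction.stabilizer (Coll P L) x)).2 h⟩

/-- The restriction of the normaliser of `U` to the fixed configuration. -/
def res (U : Subgroup (Coll P L)) : Subgroup.normalizer (U : Set (Coll P L)) →* Coll (FixP U) (FixL U) where
  toFun g :=
    ⟨(⟨fun p => ⟨(g : Coll P L) • p.1, fun u hu => by
          have := p.2 _ ((Subgroup.mem_normalizer_iff'.1 g.2 ((g : Coll P L)⁻¹ * u)).2 (by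
            rwa [mul_inv_cancel_left]))
          rw [mul_smul, mul_smul, inv_smul_eq_iff] at this
          exact this⟩,
        fun p => ⟨(g : Coll P L)⁻¹ • p.1, fun u hu => by
          have := p.2 _ ((Subgroup.mem_normalizer_iff.1 g.2 u).1 hu)
          rw [mul_smul, mul_smul, smul_eq_iff_eq_inv_smul] at this
          exact this⟩,
        fun p => Subtype.ext (inv_smul_smul _ p.1), fun p => Subtype.ext (smul_inv_smul _ p.1)⟩,
      ⟨fun p => ⟨(g : Coll P L) • p.1, fun u hu => by
          have := p.2 _ ((Subgroup.mem_normalizer_iff'.1 g.2 ((g : Coll P L)⁻¹ * u)).2 (by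
            rwa [mul_inv_cancel_left]))
          rw [mul_smul, mul_smul, inv_smul_eq_iff] at this
          exact this⟩,
        fun p => ⟨(g : Coll P L)⁻¹ • p.1, fun u hu => by
          have := p.2 _ ((Subgroup.mem_normalizer_iff.1 g.2 u).1 hu)
          rw [mul_smul, mul_smul, smul_eq_iff_eq_inv_smul] at this
          exact this⟩,
        fun p => Subtype.ext (inv_smul_smul _ p.1), fun p => Subtype.ext (smul_inv_smul _ p.1)⟩),
      fun p l => smul_mem_iff (g : Coll P L)⟩
  map_one' := Subtype.ext (Prod.ext (Equiv.ext fun p => Subtype.ext (one_smul _ p.1))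
    (Equiv.ext fun l => Subtype.ext (one_smul _ l.1)))
  map_mul' g h := Subtype.ext (Prod.ext (Equiv.ext fun p => Subtype.ext (mul_smul _ _ p.1))
    (Equiv.ext fun l => Subtype.ext (mul_smul _ _ l.1)))

theorem res_smul_point {U : Subgroup (Coll P L)} (g : Subgroup.normalizer (U : Set (Coll P L))) (p : FixP U) :
    (res U g • p).1 = (g : Coll P L) • p.1 := rfl

theorem res_smul_line {U : Subgroup (Coll P L)} (g : Subgroup.normalizer (U : Set (Coll P L))) (l : FixL U) :
    (res U g • l).1 = (g : Coll P L) • l.1 := rfl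

variable [ProjectivePlane P L] [Finite P] [Finite L]

/-- The fixed configuration of a planar group is a projective plane. -/
@[instance_reducible]
noncomputable def fixPlane (U : Subgroup (Coll P L)) (hU : Planar U) :
    ProjectivePlane (FixP U) (FixL U) where
  exists_point l := by
    obtain ⟨a, b, c, d, hq, ha, hb, hc, hd⟩ := hU
    by_contra! h
    exact (hq l.1).1 ⟨h ⟨a, ha⟩, h ⟨b, hb⟩, h ⟨c, hc⟩⟩
  exists_line p := by
    obtain ⟨a, b, c, d, hq, ha, hb, hc, hd⟩ := hU
    by_contra! h
    obtain ⟨hab, hac, -, hbc, hbd, hcd⟩ := hq.ne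
    have h1 : p.1 ∈ (join a b : L) :=
      h ⟨join a b, fun g hg => join_fixed g hab (ha g hg) (hb g hg)⟩
    have h2 : p.1 ∈ (join a c : L) :=
      h ⟨join a c, fun g hg => join_fixed g hac (ha g hg) (hc g hg)⟩
    have h3 : p.1 ∈ (join b c : L) :=
      h ⟨join b c, fun g hg => join_fixed g hbc (hb g hg) (hc g hg)⟩
    have hne : (join a b : L) ≠ join a c := fun e =>
      hq.not_mem₃.1 (e ▸ right_mem_join a c)
    have hp : p.1 = a := point_unique hne h1 h2 (left_mem_join a b) (left_mem_join a c)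
    exact (hq (join b c)).1 ⟨hp ▸ h3, left_mem_join b c, right_mem_join b c⟩
  eq_or_eq h1 h2 h3 h4 := (OstromPlane.eq_or_eq (P := P) (L := L) h1 h2 h3 h4).imp Subtype.ext Subtype.ext
  mkPoint {l m} h := ⟨meet l.1 m.1, fun g hg =>
    meet_fixed g (fun e => h (Subtype.ext e)) (l.2 g hg) (m.2 g hg)⟩
  mkPoint_ax {l m} h := ⟨meet_mem_left l.1 m.1, meet_mem_right l.1 m.1⟩
  mkLine {a b} h := ⟨join a.1 b.1, fun g hg =>
    join_fixed g (fun e => h (Subtype.ext e)) (a.2 g hg) (b.2 g hg)⟩
  mkLine_ax {a b} h := ⟨left_mem_join a.1 b.1, right_mem_join a.1 b.1⟩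
  exists_config := by
    obtain ⟨a, b, c, d, hq, ha, hb, hc, hd⟩ := hU
    obtain ⟨hab, hac, had, hbc, hbd, hcd⟩ := hq.ne
    refine ⟨⟨a, ha⟩, ⟨b, hb⟩, ⟨c, hc⟩, ⟨join a d, fun g hg => join_fixed g had (ha g hg) (hd g hg)⟩,
      ⟨join b c, fun g hg => join_fixed g hbc (hb g hg) (hc g hg)⟩,
      ⟨join b d, fun g hg => join_fixed g hbd (hb g hg) (hd g hg)⟩, ?_, ?_, ?_, left_mem_join b c,
      left_mem_join b d, ?_, right_mem_join b c, ?_⟩
    · exact fun e => (hq _).1 ⟨e, left_mem_join b c, right_mem_join b c⟩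
    · exact fun e => (hq _).2.1 ⟨e, left_mem_join b d, right_mem_join b d⟩
    · exact fun e => (hq _).2.1 ⟨left_mem_join a d, e, right_mem_join a d⟩
    · exact fun e => (hq _).2.2.1 ⟨left_mem_join a d, e, right_mem_join a d⟩
    · exact fun e => (hq _).2.2.2 ⟨left_mem_join b d, e, right_mem_join b d⟩

theorem Quad.up {U : Subgroup (Coll P L)} (hU : Planar U) {a b c d : FixP U}
    (hq : Quad (FixL U) a b c d) : Quad L a.1 b.1 c.1 d.1 := by
  let _ := fixPlane U hU
  obtain ⟨hab, hac, -, hbc, -, -⟩ := hq.ne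
  have line : ∀ {x y : FixP U} (m : L), x ≠ y → x.1 ∈ m → y.1 ∈ m → ∀ g ∈ U, g • m = m :=
    fun {x y} m h hx hy g hg => fixed_of_points g (fun e => h (Subtype.ext e)) (x.2 g hg) (y.2 g hg) hx hy
  exact fun m => ⟨fun h => (hq ⟨m, line m hab h.1 h.2.1⟩).1 h,
    fun h => (hq ⟨m, line m hab h.1 h.2.1⟩).2.1 h,
    fun h => (hq ⟨m, line m hac h.1 h.2.1⟩).2.2.1 h,
    fun h => (hq ⟨m, line m hbc h.1 h.2.1⟩).2.2.2 h⟩

theorem Quad.down {U : Subgroup (Coll P L)} {a b c d : FixP U} (hq : Quad L a.1 b.1 c.1 d.1) :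
    Quad (FixL U) a b c d := fun l => hq l.1

theorem card_points' : Nat.card P = ProjectivePlane.order P L ^ 2 + ProjectivePlane.order P L + 1 := by
  have : Fintype P := Fintype.ofFinite P
  rw [Nat.card_eq_fintype_card, ProjectivePlane.card_points P L]

theorem order_eq_of_card {P' : Type*} {L' : Type*} [Membership P' L'] [ProjectivePlane P' L'] [Finite P']
    [Finite L'] (h : Nat.card P' = Nat.card P) :
    ProjectivePlane.order P' L' = ProjectivePlane.order P L := by
  rw [card_points' (L := L'), card_points' (L := L)] at h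
  rcases lt_trichotomy (ProjectivePlane.order P' L') (ProjectivePlane.order P L) with hlt | he | hlt
  · have := Nat.pow_lt_pow_left hlt two_ne_zero
    omega
  · exact he
  · have := Nat.pow_lt_pow_left hlt two_ne_zero
    omega

/-- Baer: the fixed subplane of a planar involution has order the square root of the order. -/
theorem Invol.baer {g : Coll P L} (hg : Invol g) (hU : Planar (Subgroup.zpowers g)) :
    letI := fixPlane _ hU
    ProjectivePlane.order (FixP (Subgroup.zpowers g)) (FixL (Subgroup.zpowers g)) ^ 2 =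
      ProjectivePlane.order P L := by
  classical
  let _ := fixPlane _ hU
  have : Fintype P := Fintype.ofFinite P
  have : Fintype L := Fintype.ofFinite L
  set n := ProjectivePlane.order P L with hn
  set k := ProjectivePlane.order (FixP (Subgroup.zpowers g)) (FixL (Subgroup.zpowers g)) with hk
  have hlfix : ∀ l : L, g • l = l → ∀ h ∈ Subgroup.zpowers g, h • l = l := fun l hl =>
    (Subgroup.zpowers_le (H := MulAction.stabilizer (Coll P L) l)).2 hl
  have hFP : (Finset.univ.filter fun p : P => g • p = p).card = k ^ 2 + k + 1 := by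
    rw [hk, ← card_points' (P := FixP (Subgroup.zpowers g)) (L := FixL (Subgroup.zpowers g))]
    rw [← Fintype.card_subtype, ← Nat.card_eq_fintype_card]
    exact Nat.card_congr (Equiv.subtypeEquivRight fun p => forall_zpowers_smul.symm)
  have hFL : (Finset.univ.filter fun l : L => g • l = l).card = k ^ 2 + k + 1 := by
    rw [← card_fixed_points_eq_lines, hFP]
  have hon : ∀ m : L, g • m = m → ((pts m).filter fun p : P => ¬ g • p = p).card = n - k := by
    intro m hm
    have h1 : ((pts m).filter fun p : P => g • p = p).card = k + 1 := by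
      have := ProjectivePlane.pointCount_eq (FixP (Subgroup.zpowers g)) (FixL.mk m (hlfix m hm))
      rw [← hk] at this
      rw [← this]
      change _ = Nat.card _
      rw [← Fintype.card_coe, ← Nat.card_eq_fintype_card]
      refine Nat.card_congr ⟨fun p => ⟨⟨p.1, forall_zpowers_smul.2 (Finset.mem_filter.1 p.2).2⟩,
        (mem_pts (P := P) (L := L)).1 (Finset.mem_filter.1 p.2).1⟩, fun p => ⟨p.1.1, Finset.mem_filter.2
        ⟨(mem_pts (P := P) (L := L)).2 p.2, forall_zpowers_smul.1 p.1.2⟩⟩, fun _ => rfl, fun _ => rfl⟩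
    have h2 := Finset.card_filter_add_card_filter_not (s := pts m) (fun p : P => g • p = p)
    rw [card_pts, h1] at h2
    omega
  have hmoved : (Finset.univ.filter fun p : P => ¬ g • p = p).card = (k ^ 2 + k + 1) * (n - k) := by
    rw [Finset.card_eq_sum_card_fiberwise (f := fun p : P => (join p (g • p) : L))
      (t := Finset.univ.filter fun l : L => g • l = l) fun p hp => by
        simp only [Finset.coe_filter, Finset.mem_univ, true_and, Set.mem_ofPred_eq] at hp ⊢
        exact hg.smul_join hp]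
    rw [Finset.sum_congr rfl (g := fun _ => n - k) fun m hm => ?_, Finset.sum_const, hFL, smul_eq_mul]
    have hm' := (Finset.mem_filter.1 hm).2
    rw [← hon m hm']
    congr 1
    ext p
    simp only [Finset.mem_filter, Finset.mem_univ, true_and, mem_pts]
    constructor
    · rintro ⟨hp, rfl⟩
      exact ⟨left_mem_join _ _, hp⟩
    · rintro ⟨hpm, hp⟩
      exact ⟨hp, join_eq (Ne.symm hp) hpm (smul_mem_of_fixed g hm' hpm)⟩
  have htot := Finset.card_filter_add_card_filter_not (s := (Finset.univ : Finset P)) (fun p => g • p = p)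
  rw [hFP, hmoved, Finset.card_univ, ProjectivePlane.card_points P L, ← hn] at htot
  have hkn : k < n := by
    rcases lt_or_ge k n with h | h
    · exact h
    · rw [Nat.sub_eq_zero_of_le h, mul_zero] at hmoved
      exact absurd (eq_one_of_points fun p => by
        by_contra hp
        have := Finset.card_eq_zero.1 hmoved ▸ Finset.mem_filter.2 ⟨Finset.mem_univ p, hp⟩
        simp at this) hg.ne
  obtain ⟨d, hd⟩ : ∃ d, n = k + (d + 1) := ⟨n - k - 1, by omega⟩
  rw [hd, Nat.add_sub_cancel_left] at htot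
  rw [hd]
  nlinarith

theorem order_fix_eq_self {U : Subgroup (Coll P L)} (hU : Planar U) (hbot : U = ⊥) :
    letI := fixPlane _ hU
    ProjectivePlane.order (FixP U) (FixL U) = ProjectivePlane.order P L := by
  let _ := fixPlane _ hU
  refine order_eq_of_card (Nat.card_congr (Equiv.subtypeUnivEquiv fun p g hg => ?_))
  rw [hbot, Subgroup.mem_bot] at hg
  rw [hg, one_smul]

omit [ProjectivePlane P L] [Finite P] [Finite L] in
theorem planar_two_group_order_aux (N : ℕ) : ∀ {P : Type u} {L : Type v} [Membership P L]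
    [ProjectivePlane P L] [Finite P] [Finite L] (U : Subgroup (Coll P L)), Nat.card U = N →
    IsPGroup 2 U → (hU : Planar U) →
    letI := fixPlane _ hU
    ∃ j : ℕ, ProjectivePlane.order P L = ProjectivePlane.order (FixP U) (FixL U) ^ 2 ^ j := by
  induction N using Nat.strong_induction_on with
  | _ N ih =>
  intro P L _ _ _ _ U hN h2 hU
  let _ := fixPlane _ hU
  by_cases hbot : U = ⊥
  · exact ⟨0, by rw [order_fix_eq_self hU hbot, pow_zero, pow_one]⟩
  have : Nontrivial U := U.nontrivial_iff_ne_bot.2 hbot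
  haveI := Fact.mk Nat.prime_two
  obtain ⟨z, hz⟩ := exists_prime_orderOf_dvd_card' (G := Subgroup.center U) 2
    (by
      haveI := h2.center_nontrivial
      obtain ⟨i, hi⟩ := IsPGroup.iff_card.1 (h2.to_subgroup (Subgroup.center U))
      rcases i with _ | i
      · rw [pow_zero] at hi
        exact absurd hi Finite.one_lt_card.ne'
      · exact ⟨2 ^ i, by rw [hi, pow_succ']⟩)
  set g : Coll P L := ((z : U) : Coll P L) with hgdef
  have hgo : orderOf g = 2 := by rw [hgdef, Subgroup.orderOf_coe, Subgroup.orderOf_coe, hz]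
  have hgU : g ∈ U := (z : U).2
  have hgi : Invol g := ⟨by rw [← pow_two, ← hgo, pow_orderOf_eq_one],
    fun e => by rw [e, orderOf_one] at hgo; omega⟩
  set W := Subgroup.zpowers g with hWdef
  have hWU : W ≤ U := Subgroup.zpowers_le.2 hgU
  have hW : Planar W := hU.mono hWU
  let _ := fixPlane _ hW
  have hle : U ≤ Subgroup.normalizer (W : Set (Coll P L)) := by
    refine le_trans ?_ (Subgroup.centralizer_le_normalizer _)
    intro u hu
    rw [Subgroup.mem_centralizer_iff]
    intro w hw
    obtain ⟨i, rfl⟩ := Subgroup.mem_zpowers_iff.1 hw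
    have hcomm : Commute g u := (congrArg Subtype.val (Subgroup.mem_center_iff.1 z.2 ⟨u, hu⟩)).symm
    exact (hcomm.zpow_left i).eq
  let f : U →* Coll (FixP W) (FixL W) := (res W).comp (Subgroup.inclusion hle)
  have hker : f ⟨g, hgU⟩ = 1 := by
    refine eq_one_of_points fun p => Subtype.ext ?_
    exact p.2 g (Subgroup.mem_zpowers g)
  have hcard : Nat.card f.range < N := by
    rw [← hN, f.ker.card_eq_card_quotient_mul_card_subgroup,
      Nat.card_congr (QuotientGroup.quotientKerEquivRange f).toEquiv]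
    refine lt_mul_of_one_lt_right Nat.card_pos ((Subgroup.one_lt_card_iff_ne_bot _).2 fun e => ?_)
    have : (⟨g, hgU⟩ : U) = 1 := Subgroup.mem_bot.1 (e ▸ (MonoidHom.mem_ker.2 hker))
    exact hgi.ne (congrArg Subtype.val this)
  obtain ⟨a, b, c, d, hq, ha, hb, hc, hd⟩ := id hU
  have hlift : ∀ {x : P} (hx : ∀ u ∈ U, u • x = x), ∀ h ∈ f.range,
      h • FixP.mk (U := W) x (fun w hw => hx w (hWU hw)) = FixP.mk x (fun w hw => hx w (hWU hw)) := by
    rintro x hx _ ⟨u, rfl⟩
    exact Subtype.ext (hx u u.2)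
  have hV : Planar f.range :=
    ⟨⟨a, fun w hw => ha w (hWU hw)⟩, ⟨b, fun w hw => hb w (hWU hw)⟩, ⟨c, fun w hw => hc w (hWU hw)⟩,
      ⟨d, fun w hw => hd w (hWU hw)⟩, Quad.down hq, hlift ha, hlift hb, hlift hc, hlift hd⟩
  obtain ⟨j, hj⟩ := ih _ hcard f.range rfl (h2.of_surjective f.rangeRestrict f.rangeRestrict_surjective) hV
  let _ := fixPlane _ hV
  refine ⟨j + 1, ?_⟩
  have hsame : ProjectivePlane.order (FixP f.range) (FixL f.range) =
      ProjectivePlane.order (FixP U) (FixL U) := by
    refine order_eq_of_card (Nat.card_congr ⟨fun p => ⟨p.1.1, fun u hu => ?_⟩,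
      fun p => ⟨⟨p.1, fun w hw => p.2 w (hWU hw)⟩, hlift p.2⟩, fun _ => rfl, fun _ => rfl⟩)
    exact congrArg Subtype.val (p.2 _ ⟨⟨u, hu⟩, rfl⟩)
  rw [← hgi.baer hW, hj, hsame, ← pow_mul, pow_succ]

/-- The order is a power of the order of the fixed subplane of a planar 2-group. -/
theorem planar_two_group_order (U : Subgroup (Coll P L)) (h2 : IsPGroup 2 U) (hU : Planar U) :
    letI := fixPlane _ hU
    ∃ j : ℕ, ProjectivePlane.order P L = ProjectivePlane.order (FixP U) (FixL U) ^ 2 ^ j :=
  planar_two_group_order_aux _ U rfl h2 hU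

end Cfsg.Agent.OstromPlane
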