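/-
Small group-theoretic tools: p-subgroups of maximal order inside a subgroup, a Witt argument, growth in
normalisers, orbit counting, transitivity of Sylow subgroups on sets of prime power size.

Main results (namespace `Cfsg.Agent.OstromPlane`): `MaxP`, `MaxP.exists_normalizing`,
`exists_grow_normalizer`, `exists_pow_two_group_elt`, `card_eq_orbit_mul`, `MaxP.orbit_eq`.
-/
import Cfsg.Agent.EqLemmas

set_option autoImplicit false
set_option linter.unusedSectionVars false

namespace Cfsg.Agent.OstromPlane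

universe u v

variable {Γ : Type u} [Group Γ] [Finite Γ]

/-- A `p`-subgroup of `K` of maximal order. -/
structure MaxP (p : ℕ) (U K : Subgroup Γ) : Prop where
  le : U ≤ K
  isPGroup : IsPGroup p U
  max : ∀ W : Subgroup Γ, W ≤ K → IsPGroup p W → Nat.card W ≤ Nat.card U

theorem exists_maxP (p : ℕ) [Fact p.Prime] (K : Subgroup Γ) : ∃ U, MaxP p U K := by
  let S : Sylow p K := default
  refine ⟨(S : Subgroup K).map K.subtype, Subgroup.map_subtype_le _, S.2.map _, fun W hW hWp => ?_⟩
  rw [Subgroup.card_map_of_injective K.subtype_injective]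
  have hW' : IsPGroup p (W.subgroupOf K) := hWp.of_equiv (Subgroup.subgroupOfEquivOfLe hW).symm
  obtain ⟨T, hT⟩ := hW'.exists_le_sylow
  rw [← Nat.card_congr (Subgroup.subgroupOfEquivOfLe hW).toEquiv]
  refine le_trans (Nat.le_of_dvd Nat.card_pos (Subgroup.card_dvd_of_le hT)) ?_
  rw [T.card_eq_multiplicity, S.card_eq_multiplicity]

/-- A `p`-group of maximal order as a Sylow subgroup. -/
def MaxP.sylow {p : ℕ} {U K : Subgroup Γ} (h : MaxP p U K) : Sylow p K where
  toSubgroup := U.subgroupOf K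
  isPGroup' := h.isPGroup.of_equiv (Subgroup.subgroupOfEquivOfLe h.le).symm
  is_maximal' {Q} hQ hle := by
    have hcard := h.max (Q.map K.subtype) (Subgroup.map_subtype_le _) (hQ.map _)
    rw [Subgroup.card_map_of_injective K.subtype_injective,
      ← Nat.card_congr (Subgroup.subgroupOfEquivOfLe h.le).toEquiv] at hcard
    exact (Subgroup.eq_of_le_of_card_ge hle hcard).symm

theorem MaxP.card {p : ℕ} [Fact p.Prime] {U K : Subgroup Γ} (h : MaxP p U K) :
    Nat.card U = p ^ (Nat.card K).factorization p := by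
  rw [← h.sylow.card_eq_multiplicity]
  exact (Nat.card_congr (Subgroup.subgroupOfEquivOfLe h.le).toEquiv).symm

theorem MaxP.of_card {p : ℕ} {U V K : Subgroup Γ} (h : MaxP p U K) (hV : V ≤ K) (hVp : IsPGroup p V)
    (hcard : Nat.card V = Nat.card U) : MaxP p V K :=
  ⟨hV, hVp, fun W hW hWp => hcard ▸ h.max W hW hWp⟩

/-- Witt: if a conjugate of `U` is in `K`, correct it by an element of `K`. -/
theorem MaxP.exists_normalizing {p : ℕ} [Fact p.Prime] {U K : Subgroup Γ} (h : MaxP p U K) {g : Γ}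
    (hg : U.map (MulAut.conj g).toMonoidHom ≤ K) :
    ∃ k ∈ K, k * g ∈ Subgroup.normalizer (U : Set Γ) := by
  have h' : MaxP p (U.map (MulAut.conj g).toMonoidHom) K :=
    h.of_card hg (h.isPGroup.map _) (Subgroup.card_map_of_injective (MulAut.conj g).injective)
  obtain ⟨k, hk⟩ := MulAction.exists_smul_eq K h'.sylow h.sylow
  refine ⟨k, k.2, ?_⟩
  have key : ∀ x ∈ U, k * g * x * (k * g)⁻¹ ∈ U := by
    intro x hx
    have h1 : (⟨g * x * g⁻¹, hg ⟨x, hx, rfl⟩⟩ : K) ∈ (h'.sylow : Subgroup K) := ⟨x, hx, rfl⟩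
    have h2 := Subgroup.smul_mem_pointwise_smul _ (MulAut.conj k) _ h1
    rw [← Sylow.coe_subgroup_smul] at h2
    erw [hk] at h2
    change ((k : Γ) * (g * x * g⁻¹) * (k : Γ)⁻¹) ∈ U at h2
    rw [mul_inv_rev]
    simpa [mul_assoc] using h2
  have hfin : (U : Set Γ).Finite := Set.toFinite _
  refine Subgroup.mem_normalizer_iff.2 fun x => ⟨key x, fun hx => ?_⟩
  have hsurj : ∃ y ∈ U, k * g * y * (k * g)⁻¹ = k * g * x * (k * g)⁻¹ := by
    let f : U → U := fun y => ⟨_, key y y.2⟩
    have hf : Function.Injective f := fun a b e =>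
      Subtype.ext (mul_left_cancel (mul_right_cancel (congrArg Subtype.val e)))
    obtain ⟨y, hy⟩ := (Finite.injective_iff_surjective.1 hf) ⟨_, hx⟩
    exact ⟨y, y.2, congrArg Subtype.val hy⟩
  obtain ⟨y, hy, e⟩ := hsurj
  rwa [← mul_left_cancel (mul_right_cancel e)]

theorem exists_grow_normalizer {p : ℕ} [Fact p.Prime] {U S : Subgroup Γ} (hS : IsPGroup p S) (h : U < S) :
    ∃ W, U < W ∧ W ≤ S ∧ W ≤ Subgroup.normalizer (U : Set Γ) := by
  refine ⟨S ⊓ Subgroup.normalizer (U : Set Γ), lt_of_le_of_ne (le_inf h.le Subgroup.le_normalizer) ?_,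
    inf_le_left, inf_le_right⟩
  intro e
  have : Group.IsNilpotent S := hS.isNilpotent
  have hlt : U.subgroupOf S < ⊤ := lt_top_iff_ne_top.2 fun e' =>
    h.not_ge (Subgroup.subgroupOf_eq_top.1 e')
  have h2 := Group.normalizerCondition_of_isNilpotent (G := S) _ hlt
  refine h2.not_ge fun x hx => ?_
  have hmem : (x : Γ) ∈ Subgroup.normalizer (U : Set Γ) := by
    refine Subgroup.mem_normalizer_iff.2 fun y => ?_
    constructor
    · intro hy
      exact (Subgroup.mem_normalizer_iff.1 hx ⟨y, h.le hy⟩).1 hy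
    · intro hy
      have hyS : y ∈ S := by
        have := S.mul_mem (S.mul_mem (S.inv_mem x.2) (h.le hy)) x.2
        simpa [mul_assoc] using this
      exact (Subgroup.mem_normalizer_iff.1 hx ⟨y, hyS⟩).2 hy
  have : (x : Γ) ∈ S ⊓ Subgroup.normalizer (U : Set Γ) := ⟨x.2, hmem⟩
  rwa [← e] at this

/-- An element generating a `p`-group having the same image under a map to an element of `p`-power order. -/
theorem exists_pPart {Δ : Type v} [Group Δ] {p : ℕ} [Fact p.Prime] (f : Γ →* Δ) {g : Γ} {i : ℕ}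
    (hg : f g ^ p ^ i = 1) : ∃ m : ℕ, f (g ^ m) = f g ∧ ∃ j : ℕ, (g ^ m) ^ p ^ j = 1 := by
  obtain ⟨j, r, hr, hjr⟩ := Nat.exists_eq_pow_mul_and_not_dvd (orderOf_pos g).ne' p
    (Fact.out : p.Prime).ne_one
  have hcop : Nat.Coprime r (p ^ i) :=
    (Nat.Coprime.pow_right i ((Nat.Prime.coprime_iff_not_dvd Fact.out).2 hr).symm)
  obtain ⟨m, hm⟩ := exists_pow_eq_self_of_coprime
    (hcop.coprime_dvd_right (orderOf_dvd_of_pow_eq_one hg))
  refine ⟨r * m, ?_, j, ?_⟩
  · rw [map_pow, pow_mul, hm]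
  · rw [← pow_mul, show r * m * p ^ j = orderOf g * m by rw [hjr]; ring, pow_mul, pow_orderOf_eq_one,
      one_pow]

variable {X : Type v} [MulAction Γ X]

theorem card_eq_orbit_mul (K : Subgroup Γ) (x : X) :
    Nat.card K = (MulAction.orbit K x).ncard * Nat.card ↥(K ⊓ MulAction.stabilizer Γ x) := by
  classical
  have : Fintype K := Fintype.ofFinite K
  have : Fintype (MulAction.stabilizer K x) := Fintype.ofFinite _
  have hfin : Finite (MulAction.orbit K x) := Finite.of_surjective
    (fun k : K => (⟨k • x, MulAction.mem_orbit x k⟩ : MulAction.orbit K x))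
    (fun ⟨_, k, hk⟩ => ⟨k, Subtype.ext hk⟩)
  have : Fintype (MulAction.orbit K x) := Fintype.ofFinite _
  rw [Nat.card_eq_fintype_card, ← MulAction.card_orbit_mul_card_stabilizer_eq_card_group K x,
    ← Nat.card_coe_set_eq, Nat.card_eq_fintype_card]
  congr 1
  rw [← Nat.card_eq_fintype_card]
  exact Nat.card_congr ⟨fun k => ⟨k.1.1, k.1.2, k.2⟩, fun k => ⟨⟨k.1, k.2.1⟩, k.2.2⟩,
    fun _ => rfl, fun _ => rfl⟩

/-- A Sylow subgroup is transitive on an orbit of `p`-power size. -/
theorem MaxP.orbit_eq {p : ℕ} [Fact p.Prime] {U K : Subgroup Γ} (h : MaxP p U K) {x : X} {a : ℕ}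
    (hx : (MulAction.orbit K x).ncard = p ^ a) :
    MulAction.orbit U x = MulAction.orbit K x ∧
      MaxP p (U ⊓ MulAction.stabilizer Γ x) (K ⊓ MulAction.stabilizer Γ x) ∧
      Nat.card U = p ^ a * Nat.card ↥(U ⊓ MulAction.stabilizer Γ x) := by
  have hp : p.Prime := Fact.out
  have hK := card_eq_orbit_mul K x
  rw [hx] at hK
  have hU := card_eq_orbit_mul U x
  have hsub : MulAction.orbit U x ⊆ MulAction.orbit K x := fun y ⟨k, hk⟩ => ⟨⟨k, h.le k.2⟩, hk⟩
  have hfin : (MulAction.orbit K x).Finite := Set.finite_range _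
  have hle := Set.ncard_le_ncard hsub hfin
  rw [hx] at hle
  obtain ⟨V, hV⟩ := exists_maxP p (K ⊓ MulAction.stabilizer Γ x)
  have hcardV := hV.card
  have hcardU := h.card
  have hfac : (Nat.card K).factorization p = a + (Nat.card ↥(K ⊓ MulAction.stabilizer Γ x)).factorization p := by
    rw [hK, Nat.factorization_mul (pow_pos hp.pos a).ne' Nat.card_pos.ne', Finsupp.add_apply,
      hp.factorization_pow, Finsupp.single_eq_same]
  have hUV : Nat.card U = p ^ a * Nat.card V := by rw [hcardU, hcardV, hfac, pow_add]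
  have hWle : Nat.card ↥(U ⊓ MulAction.stabilizer Γ x) ≤ Nat.card V :=
    hV.max _ (inf_le_inf_right _ h.le) (h.isPGroup.to_le inf_le_left)
  have heq : (MulAction.orbit U x).ncard = p ^ a := by
    refine le_antisymm hle ?_
    by_contra hlt
    have := Nat.mul_lt_mul_of_lt_of_le (not_le.1 hlt) hWle Nat.card_pos
    rw [← hU, hUV] at this
    exact lt_irrefl _ this
  have hcard : Nat.card ↥(U ⊓ MulAction.stabilizer Γ x) = Nat.card V := by
    refine Nat.eq_of_mul_eq_mul_left (pow_pos hp.pos a) ?_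
    rw [← hUV, ← heq]
    exact hU.symm
  refine ⟨Set.eq_of_subset_of_ncard_le hsub (by rw [hx, heq]) hfin,
    hV.of_card (inf_le_inf_right _ h.le) (h.isPGroup.to_le inf_le_left) hcard, ?_⟩
  rw [hcard, hUV]

end Cfsg.Agent.OstromPlane
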