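/-
A 2-transitive collineation group containing a central collineation has full elation groups.

Main results (namespace `Cfsg.Agent.OstromPlane`): `TwoTrans`, `TwoTrans.flag`, `TwoTrans.antiflag`,
`TwoTrans.full_of_axis`.
-/
import Cfsg.Agent.Lib.OstromWagner.Translation

set_option autoImplicit false
set_option linter.unusedSectionVars false

namespace Cfsg.Agent.OstromPlane

open Configuration

universe u v

variable {P : Type u} {L : Type v} [Membership P L]

/-- `G` is 2-transitive on points. -/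
def TwoTrans (G : Subgroup (Coll P L)) : Prop :=
  ∀ a b c d : P, a ≠ b → c ≠ d → ∃ g ∈ G, g • a = c ∧ g • b = d

variable [ProjectivePlane P L] [Finite P] [Finite L] [Fintype P] [Fintype L] {G : Subgroup (Coll P L)}

theorem TwoTrans.flag (h2 : TwoTrans G) {a c : P} {l m : L} (ha : a ∈ l) (hc : c ∈ m) :
    ∃ g ∈ G, g • a = c ∧ g • l = m := by
  obtain ⟨b, hb, hba, -⟩ := exists_third_point (P := P) l a a
  obtain ⟨d, hd, hdc, -⟩ := exists_third_point (P := P) m c c
  obtain ⟨g, hg, hga, hgb⟩ := h2 a b c d (Ne.symm hba) (Ne.symm hdc)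
  exact ⟨g, hg, hga, line_unique (Ne.symm hdc) (hga ▸ smul_mem g ha) (hgb ▸ smul_mem g hb) hc hd⟩

theorem TwoTrans.point (h2 : TwoTrans G) (a c : P) : ∃ g ∈ G, g • a = c := by
  obtain ⟨g, hg, h, -⟩ := h2.flag (left_mem_join (L := L) a a) (left_mem_join (L := L) c c)
  exact ⟨g, hg, h⟩

theorem TwoTrans.antiflag (h2 : TwoTrans G) {a c : P} {l m : L} (ha : a ∉ l) (hc : c ∉ m) :
    ∃ g ∈ G, g • a = c ∧ g • l = m := by
  classical
  obtain ⟨g₀, hg₀, hac⟩ := h2.point a c
  suffices h : ∃ k ∈ G, k • c = c ∧ k • (g₀ • l) = m by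
    obtain ⟨k, hk, hkc, hkl⟩ := h
    exact ⟨k * g₀, G.mul_mem hk hg₀, by rw [mul_smul, hac, hkc], by rw [mul_smul, hkl]⟩
  have hl : c ∉ g₀ • l := fun e => ha ((smul_mem_iff g₀).1 (hac ▸ e))
  by_contra hno
  let K : Subgroup (Coll P L) := G ⊓ MulAction.stabilizer (Coll P L) c
  have : Fintype K := Fintype.ofFinite K
  have : Fintype (Quotient (MulAction.orbitRel K P)) := Fintype.ofFinite _
  have : Fintype (Quotient (MulAction.orbitRel K L)) := Fintype.ofFinite _
  have hP := MulAction.sum_card_fixedBy_eq_card_orbits_mul_card_group K P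
  have hL := MulAction.sum_card_fixedBy_eq_card_orbits_mul_card_group K L
  have hsum : ∀ g : K, Fintype.card (MulAction.fixedBy P g) = Fintype.card (MulAction.fixedBy L g) := by
    intro g
    have h := card_fixed_points_eq_lines (g : Coll P L)
    rw [← Fintype.card_subtype, ← Fintype.card_subtype] at h
    exact (Fintype.card_congr (Equiv.subtypeEquivRight fun _ => Iff.rfl)).trans
      (h.trans (Fintype.card_congr (Equiv.subtypeEquivRight fun _ => Iff.rfl)))
  rw [Finset.sum_congr rfl fun g _ => hsum g, hL] at hP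
  have hcard := Nat.eq_of_mul_eq_mul_right Fintype.card_pos hP
  obtain ⟨d, -, hdc, -⟩ := exists_third_point (P := P) m c c
  have hle : Fintype.card (Quotient (MulAction.orbitRel K P)) ≤ 2 := by
    have hsurj : Function.Surjective fun b : Bool =>
        (Quotient.mk (MulAction.orbitRel K P) (if b then c else d) : Quotient (MulAction.orbitRel K P)) := by
      intro q
      induction q using Quotient.ind with
      | _ x =>
        by_cases hx : x = c
        · exact ⟨true, by simp [hx]⟩
        · obtain ⟨g, hg, hgc, hgd⟩ := h2 c x c d (Ne.symm hx) (Ne.symm hdc)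
          exact ⟨false, Quotient.sound ⟨⟨g, hg, hgc⟩, hgd⟩⟩
    simpa using Fintype.card_le_of_surjective _ hsurj
  obtain ⟨p, hp, -, -⟩ := exists_third_line c (join c c : L) (join c c)
  let f : Fin 3 → Quotient (MulAction.orbitRel K L) := fun i => Quotient.mk _ (![p, g₀ • l, m] i)
  have key : ∀ x y : L, (Quotient.mk (MulAction.orbitRel K L) x) = Quotient.mk _ y →
      ∃ k ∈ G, k • c = c ∧ k • y = x := fun x y e => by
    obtain ⟨k, hk⟩ := Quotient.exact e
    exact ⟨k, k.2.1, k.2.2, hk⟩
  have hpen : ∀ x y : L, (Quotient.mk (MulAction.orbitRel K L) x) = Quotient.mk _ y → (c ∈ x ↔ c ∈ y) := by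
    intro x y e
    obtain ⟨k, -, hkc, rfl⟩ := key x y e
    exact mem_smul_iff_of_fixed k hkc
  have hne1 : Quotient.mk (MulAction.orbitRel K L) p ≠ Quotient.mk _ (g₀ • l) :=
    fun e => hl ((hpen _ _ e).1 hp)
  have hne2 : Quotient.mk (MulAction.orbitRel K L) p ≠ Quotient.mk _ m := fun e => hc ((hpen _ _ e).1 hp)
  have hne3 : Quotient.mk (MulAction.orbitRel K L) (g₀ • l) ≠ Quotient.mk _ m := fun e => hno (key _ _ e.symm)
  have hinj : Function.Injective f := fun i j e => by
    fin_cases i <;> fin_cases j <;> first | rfl | (exfalso; simp [f] at e; first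
      | exact hne1 e | exact hne1 e.symm
      | exact hne2 e | exact hne2 e.symm
      | exact hne3 e | exact hne3 e.symm)
  have := Fintype.card_le_of_injective f hinj
  rw [Fintype.card_fin] at this
  omega

/-- All the members of `G` with axis `l`. -/
def axGroup (G : Subgroup (Coll P L)) (l : L) : Subgroup (Coll P L) where
  carrier := {g | g ∈ G ∧ Axis g l}
  one_mem' := ⟨G.one_mem, Axis.one l⟩
  mul_mem' := fun ha hb => ⟨G.mul_mem ha.1 hb.1, ha.2.mul hb.2⟩
  inv_mem' := fun ha => ⟨G.inv_mem ha.1, ha.2.inv⟩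

theorem card_axGroup_of_no_elation {l : L} (hno : ∀ z, z ∈ l → ∀ g ∈ elat G z l, g = 1) :
    Nat.card (axGroup G l) = 1 + ∑ c ∈ offPts l, (Nat.card (elat G c l) - 1) := by
  classical
  have : Fintype (Coll P L) := Fintype.ofFinite _
  let S : Subgroup (Coll P L) → Finset (Coll P L) := fun K => Finset.univ.filter (· ∈ K)
  have hS : ∀ K : Subgroup (Coll P L), (S K).card = Nat.card K := fun K => by
    rw [Nat.card_eq_fintype_card, Fintype.card_subtype]
  have hsplit : (S (axGroup G l)).erase 1 = (offPts l).biUnion fun c => (S (elat G c l)).erase 1 := by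
    ext g
    simp only [S, Finset.mem_erase, Finset.mem_filter, Finset.mem_univ, true_and, Finset.mem_biUnion,
      mem_offPts]
    constructor
    · rintro ⟨h1, hg⟩
      obtain ⟨c, hc⟩ := hg.2.exists_center
      exact ⟨c, fun hcl => h1 (hno c hcl g ⟨hg.1, hg.2, hc⟩), h1, hg.1, hg.2, hc⟩
    · rintro ⟨c, -, h1, hgc⟩
      exact ⟨h1, hgc.1, hgc.2.1⟩
  have hdisj : (↑(offPts (P := P) l) : Set P).PairwiseDisjoint fun c => (S (elat G c l)).erase 1 := by
    intro c _ d _ hcd
    refine Finset.disjoint_left.2 fun g hg hg' => hcd ?_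
    simp only [S, Finset.mem_erase, Finset.mem_filter, Finset.mem_univ, true_and] at hg hg'
    exact Center.unique hg.1 hg.2.2.2 hg'.2.2.2
  have h1 : ∀ K : Subgroup (Coll P L), ((S K).erase 1).card = Nat.card K - 1 := fun K => by
    rw [Finset.card_erase_of_mem (Finset.mem_filter.2 ⟨Finset.mem_univ _, K.one_mem⟩), hS]
  have h2 := congrArg Finset.card hsplit
  rw [Finset.card_biUnion hdisj, h1, Finset.sum_congr rfl fun c _ => h1 (elat G c l)] at h2
  have := Nat.card_pos (α := axGroup G l)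
  omega

theorem TwoTrans.exists_elation (h2 : TwoTrans G) {g : Coll P L} {l : L} (hg : g ∈ G) (hg1 : g ≠ 1)
    (hl : Axis g l) : ∃ z, z ∈ l ∧ ∃ k ∈ elat G z l, k ≠ 1 := by
  classical
  by_contra! hno
  obtain ⟨c, hc⟩ := hl.exists_center
  have hcl : c ∉ l := fun h => hg1 (hno c h g ⟨hg, hl, hc⟩)
  set h := Nat.card (elat G c l) with hh
  have h1 : 2 ≤ h := by
    rw [hh, Nat.succ_le_iff, Subgroup.one_lt_card_iff_ne_bot]
    exact fun e => hg1 (Subgroup.mem_bot.1 (e ▸ (⟨hg, hl, hc⟩ : g ∈ elat G c l)))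
  have hconst : ∀ a : P, a ∉ l → Nat.card (elat G a l) = h := by
    intro a ha
    obtain ⟨k, hk, hkc, hkl⟩ := h2.antiflag hcl ha
    rw [hh, ← card_elat_smul hk (c := c) (l := l), hkc, hkl]
  have hD : Nat.card (axGroup G l) = 1 + ProjectivePlane.order P L ^ 2 * (h - 1) := by
    rw [card_axGroup_of_no_elation hno, Finset.sum_congr rfl fun a ha => by
      rw [hconst a (mem_offPts.1 ha)], Finset.sum_const, card_offPts, smul_eq_mul]
  let O : P → Finset P := fun a => Finset.univ.filter fun x => x ∈ MulAction.orbit (axGroup G l) a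
  have hO : ∀ a : P, a ∉ l → (O a).card * h = Nat.card (axGroup G l) ∧ O a ⊆ offPts l := by
    intro a ha
    have : Fintype (axGroup G l) := Fintype.ofFinite _
    have : Fintype (MulAction.stabilizer (axGroup G l) a) := Fintype.ofFinite _
    refine ⟨?_, fun x hx => ?_⟩
    · rw [Nat.card_eq_fintype_card, ← MulAction.card_orbit_mul_card_stabilizer_eq_card_group (axGroup G l) a]
      congr 1
      · rw [← Fintype.card_subtype]
      · rw [← hconst a ha, ← Nat.card_eq_fintype_card]
        exact Nat.card_congr ⟨fun k => ⟨⟨k.1, k.2.1, k.2.2.1⟩, k.2.2.2.smul_point⟩,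
          fun k => ⟨k.1.1, k.1.2.1, k.1.2.2, k.1.2.2.center_of_fixed ha k.2⟩, fun _ => rfl, fun _ => rfl⟩
    · obtain ⟨k, rfl⟩ := (Finset.mem_filter.1 hx).2
      exact mem_offPts.2 fun e => ha ((smul_mem_iff_of_fixed (k : Coll P L) k.2.2.smul_line).1 e)
  obtain ⟨hc1, hc2⟩ := hO c hcl
  rw [hD] at hc1
  have hn := ProjectivePlane.one_lt_order P L
  have hn2 : 2 ≤ ProjectivePlane.order P L ^ 2 := le_trans hn (Nat.le_self_pow two_ne_zero _)
  have hcard := card_offPts (P := P) l
  obtain ⟨b, hb⟩ : ∃ b, h = b + 2 := ⟨h - 2, by omega⟩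
  rw [hb, show b + 2 - 1 = b + 1 from rfl] at hc1 hD
  by_cases hall : O c = offPts l
  · rw [hall, hcard] at hc1
    nlinarith
  · obtain ⟨a, ha, hac⟩ := Finset.exists_of_ssubset (lt_of_le_of_ne hc2 hall)
    obtain ⟨ha1, ha2⟩ := hO a (mem_offPts.1 ha)
    rw [hD, hb] at ha1
    have hdisj : Disjoint (O c) (O a) := by
      refine Finset.disjoint_left.2 fun x hx hx' => hac (Finset.mem_filter.2 ⟨Finset.mem_univ _, ?_⟩)
      have e1 := MulAction.orbit_eq_iff.2 (Finset.mem_filter.1 hx).2
      have e2 := MulAction.orbit_eq_iff.2 (Finset.mem_filter.1 hx').2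
      rw [← e1, e2]
      exact MulAction.mem_orbit_self a
    have := Finset.card_le_card (Finset.union_subset hc2 ha2)
    rw [Finset.card_union_of_disjoint hdisj, hcard] at this
    nlinarith

theorem TwoTrans.full_of_axis (h2 : TwoTrans G) {g : Coll P L} {l : L} (hg : g ∈ G) (hg1 : g ≠ 1)
    (hl : Axis g l) (m : L) : Full G m := by
  obtain ⟨z, hz, k, hk, hk1⟩ := h2.exists_elation hg hg1 hl
  refine full_of_const G m (h := Nat.card (elat G z l)) ?_ fun c hc => ?_
  · rw [Nat.succ_le_iff, Subgroup.one_lt_card_iff_ne_bot]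
    exact fun e => hk1 (Subgroup.mem_bot.1 (e ▸ hk))
  · obtain ⟨u, hu, huz, hul⟩ := h2.flag hz hc
    rw [← card_elat_smul hu (c := z) (l := l), huz, hul]

end Cfsg.Agent.OstromPlane
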