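/-
Consequences of 2-transitivity on points: 2-transitivity on lines and transitivity on triples consisting
of a point, a line through it and a line not through it.

Main results (namespace `Cfsg.Agent.OstromPlane`): `TwoTrans.dual`, `TwoTrans.triple`.
-/
import Cfsg.Agent.Lib.OstromWagner.Perspective
import Cfsg.Agent.Lib.OstromWagner.GroupTools

set_option autoImplicit false
set_option linter.unusedSectionVars false

namespace Cfsg.Agent.OstromPlane

open Configuration

universe u v

variable {P : Type u} {L : Type v} [Membership P L] [ProjectivePlane P L] [Finite P] [Finite L]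
  [Fintype P] [Fintype L] {G : Subgroup (Coll P L)}

theorem two_orbit_lines (K : Subgroup (Coll P L)) (x y : P)
    (hP : ∀ z, z ∈ MulAction.orbit K x ∨ z ∈ MulAction.orbit K y) {l m n : L}
    (hlm : m ∉ MulAction.orbit K l) (hln : n ∉ MulAction.orbit K l) : n ∈ MulAction.orbit K m := by
  classical
  by_contra hmn
  have : Fintype K := Fintype.ofFinite K
  have : Fintype (Quotient (MulAction.orbitRel K P)) := Fintype.ofFinite _
  have : Fintype (Quotient (MulAction.orbitRel K L)) := Fintype.ofFinite _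
  have hPc := MulAction.sum_card_fixedBy_eq_card_orbits_mul_card_group K P
  have hLc := MulAction.sum_card_fixedBy_eq_card_orbits_mul_card_group K L
  have hsum : ∀ g : K, Fintype.card (MulAction.fixedBy P g) = Fintype.card (MulAction.fixedBy L g) := by
    intro g
    have h := card_fixed_points_eq_lines (g : Coll P L)
    rw [← Fintype.card_subtype, ← Fintype.card_subtype] at h
    exact (Fintype.card_congr (Equiv.subtypeEquivRight fun _ => Iff.rfl)).trans
      (h.trans (Fintype.card_congr (Equiv.subtypeEquivRight fun _ => Iff.rfl)))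
  rw [Finset.sum_congr rfl fun g _ => hsum g, hLc] at hPc
  have hcard := Nat.eq_of_mul_eq_mul_right Fintype.card_pos hPc
  have hle : Fintype.card (Quotient (MulAction.orbitRel K P)) ≤ 2 := by
    have hsurj : Function.Surjective fun b : Bool =>
        (Quotient.mk (MulAction.orbitRel K P) (if b then x else y) : Quotient (MulAction.orbitRel K P)) := by
      intro q
      induction q using Quotient.ind with
      | _ z =>
        rcases hP z with hz | hz
        · exact ⟨true, (Quotient.sound hz).symm⟩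
        · exact ⟨false, (Quotient.sound hz).symm⟩
    simpa using Fintype.card_le_of_surjective _ hsurj
  let f : Fin 3 → Quotient (MulAction.orbitRel K L) := fun i => Quotient.mk _ (![l, m, n] i)
  have hne1 : Quotient.mk (MulAction.orbitRel K L) m ≠ Quotient.mk _ l := fun e => hlm (Quotient.exact e)
  have hne2 : Quotient.mk (MulAction.orbitRel K L) n ≠ Quotient.mk _ l := fun e => hln (Quotient.exact e)
  have hne3 : Quotient.mk (MulAction.orbitRel K L) n ≠ Quotient.mk _ m := fun e => hmn (Quotient.exact e)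
  have hinj : Function.Injective f := fun i j e => by
    fin_cases i <;> fin_cases j <;> first | rfl | (exfalso; simp [f] at e; first
      | exact hne1 e | exact hne1 e.symm | exact hne2 e | exact hne2 e.symm
      | exact hne3 e | exact hne3 e.symm)
  have := Fintype.card_le_of_injective f hinj
  rw [Fintype.card_fin] at this
  omega

theorem TwoTrans.lines (h2 : TwoTrans G) (l m l' m' : L) (hlm : l ≠ m) (hlm' : l' ≠ m') :
    ∃ g ∈ G, g • l = l' ∧ g • m = m' := by
  obtain ⟨g, hg, -, hgl⟩ := h2.flag (meet_mem_left (P := P) (L := L) l l)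
    (meet_mem_left (P := P) (L := L) l' l')
  let K : Subgroup (Coll P L) := G ⊓ MulAction.stabilizer (Coll P L) (l' : L)
  obtain ⟨y, hy⟩ := Nondegenerate.exists_point (P := P) (L := L) l'
  have hP : ∀ z : P, z ∈ MulAction.orbit K (meet (L := L) l' l' : P) ∨ z ∈ MulAction.orbit K y := by
    intro z
    by_cases hz : z ∈ (l' : L)
    · obtain ⟨k, hk, hkx, hkl⟩ := h2.flag (meet_mem_left (P := P) (L := L) l' l') hz
      exact Or.inl ⟨⟨k, hk, hkl⟩, hkx⟩
    · obtain ⟨k, hk, hkx, hkl⟩ := h2.antiflag hy hz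
      exact Or.inr ⟨⟨k, hk, hkl⟩, hkx⟩
  have hfix : ∀ n : L, n ≠ l' → n ∉ MulAction.orbit K (l' : L) := by
    rintro n hn ⟨k, hk⟩
    exact hn (hk.symm.trans k.2.2)
  have hm : g • (m : L) ≠ l' := fun e => hlm (MulAction.injective g (hgl.trans e.symm))
  obtain ⟨k, hk⟩ := two_orbit_lines K _ y hP (hfix _ hm) (hfix m' (Ne.symm hlm'))
  refine ⟨(k : Coll P L) * g, G.mul_mem k.2.1 hg, ?_, ?_⟩
  · rw [mul_smul, hgl]
    exact k.2.2
  · rw [mul_smul]
    exact hk

theorem TwoTrans.dual (h2 : TwoTrans G) : TwoTrans (G.map (dualHom (P := P) (L := L))) :=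
  fun l m l' m' hlm hlm' => by
    obtain ⟨g, hg, h1, h3⟩ := h2.lines l m l' m' hlm hlm'
    exact ⟨dualHom g, Subgroup.mem_map_of_mem _ hg, h1, h3⟩

theorem TwoTrans.pencil (h2 : TwoTrans G) {x : P} {l : L} (hxl : x ∉ l) {y z : P} (hy : y ∈ l)
    (hz : z ∈ l) : ∃ g ∈ G, g • x = x ∧ g • l = l ∧ g • y = z := by
  classical
  set n := ProjectivePlane.order P L with hn
  have hxy : x ≠ y := fun e => hxl (e ▸ hy)
  let Kx : Subgroup (Coll P L) := G ⊓ MulAction.stabilizer (Coll P L) x
  have hA := card_eq_orbit_mul Kx l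
  have hB := card_eq_orbit_mul Kx y
  have hC := card_eq_orbit_mul (Kx ⊓ MulAction.stabilizer (Coll P L) l) y
  have hD := card_eq_orbit_mul (Kx ⊓ MulAction.stabilizer (Coll P L) y) l
  rw [inf_right_comm Kx (MulAction.stabilizer (Coll P L) y)] at hD
  have hoA : (MulAction.orbit Kx l).ncard = n ^ 2 := by
    have : MulAction.orbit Kx l = {m : L | x ∉ m} := by
      ext m
      constructor
      · rintro ⟨k, rfl⟩ hm
        exact hxl ((mem_smul_iff_of_fixed (k : Coll P L) k.2.2).1 hm)
      · intro hm
        obtain ⟨k, hk, hkx, hkl⟩ := h2.antiflag hxl hm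
        exact ⟨⟨k, hk, hkx⟩, hkl⟩
    rw [this, Set.ncard_eq_toFinset_card']
    have hc : (Finset.univ \ lns (L := L) x).card = n ^ 2 := by
      rw [Finset.card_univ_diff, card_lns, ProjectivePlane.card_lines P L, ← hn]
      omega
    rw [← hc]
    congr 1
    ext m
    simp
  have hoB : (MulAction.orbit Kx y).ncard = n ^ 2 + n := by
    have : MulAction.orbit Kx y = {x}ᶜ := by
      ext w
      constructor
      · rintro ⟨k, rfl⟩ (hw : (k : Coll P L) • y = x)
        exact hxy (MulAction.injective (k : Coll P L) ((k.2.2 : (k : Coll P L) • x = x).trans hw.symm))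
      · intro hw
        obtain ⟨k, hk, hkx, hky⟩ := h2 x y x w hxy (Ne.symm hw)
        exact ⟨⟨k, hk, hkx⟩, hky⟩
    rw [this, Set.ncard_compl, Set.ncard_singleton, Nat.card_eq_fintype_card,
      ProjectivePlane.card_points P L, ← hn]
    omega
  set o := (MulAction.orbit ↥(Kx ⊓ MulAction.stabilizer (Coll P L) l) y).ncard with ho
  set s := (MulAction.orbit ↥(Kx ⊓ MulAction.stabilizer (Coll P L) y) l).ncard with hs
  have hol : MulAction.orbit ↥(Kx ⊓ MulAction.stabilizer (Coll P L) l) y ⊆ {w : P | w ∈ l} := by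
    rintro _ ⟨k, rfl⟩
    exact smul_mem_of_fixed (k : Coll P L) k.2.2 hy
  have hlcard : ({w : P | w ∈ l}).ncard = n + 1 := by
    rw [hn, ← card_pts l, Set.ncard_eq_toFinset_card']
    congr 1
    ext w
    simp
  have hsle : s ≤ n := by
    have hsub : MulAction.orbit ↥(Kx ⊓ MulAction.stabilizer (Coll P L) y) l ⊆
        (((lns y).erase (join x y) : Finset L) : Set L) := by
      rintro _ ⟨k, rfl⟩
      simp only [Finset.coe_erase, Set.mem_diff, Finset.mem_coe, mem_lns, Set.mem_singleton_iff]
      refine ⟨mem_smul_of_fixed (k : Coll P L) k.2.2 hy, fun e => hxl ?_⟩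
      refine (mem_smul_iff_of_fixed (k : Coll P L) k.2.1.2).1 ?_
      rw [show (k : Coll P L) • l = k • l from rfl, e]
      exact left_mem_join x y
    have h := Set.ncard_le_ncard hsub (Finset.finite_toSet _)
    rw [Set.ncard_coe_finset, Finset.card_erase_of_mem (mem_lns.2 (right_mem_join x y)), card_lns] at h
    exact h
  have hn1 := ProjectivePlane.one_lt_order P L
  have hspos : 0 < s := (Set.ncard_pos (Set.toFinite _)).2 ⟨l, MulAction.mem_orbit_self l⟩
  have hkey : n * o = (n + 1) * s := by
    refine Nat.eq_of_mul_eq_mul_right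
      (Nat.card_pos (α := ↥(Kx ⊓ MulAction.stabilizer (Coll P L) l ⊓ MulAction.stabilizer (Coll P L) y))) ?_
    refine Nat.eq_of_mul_eq_mul_left (show 0 < n by omega) ?_
    rw [hoA, hC] at hA
    rw [hoB, hD, hA] at hB
    linarith
  have hsn : s = n := by
    have h1 : n ∣ s := by
      have : n ∣ (n + 1) * s := ⟨o, hkey.symm⟩
      exact (Nat.coprime_self_add_right.2 (Nat.coprime_one_right n)).dvd_of_dvd_mul_left this
    exact le_antisymm hsle (Nat.le_of_dvd hspos h1)
  have ho' : o = n + 1 := by
    rw [hsn, mul_comm (n + 1)] at hkey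
    exact Nat.eq_of_mul_eq_mul_left (by omega) hkey
  have hall := Set.eq_of_subset_of_ncard_le hol (by rw [hlcard, ← ho, ho']) (Set.toFinite _)
  obtain ⟨k, hk⟩ := hall.symm ▸ (show z ∈ {w : P | w ∈ l} from hz)
  exact ⟨k, k.2.1.1, k.2.1.2, k.2.2, hk⟩

/-- Transitivity on point, incident line, non-incident line. -/
theorem TwoTrans.triple (h2 : TwoTrans G) {x x' : P} {m m' l l' : L} (hm : x ∈ m) (hl : x ∉ l)
    (hm' : x' ∈ m') (hl' : x' ∉ l') : ∃ g ∈ G, g • x = x' ∧ g • m = m' ∧ g • l = l' := by
  obtain ⟨g, hg, hgx, hgl⟩ := h2.antiflag hl hl'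
  have hgm : x' ∈ g • m := hgx ▸ smul_mem g hm
  obtain ⟨k, hk, hkx, hkl, hky⟩ := h2.pencil hl' (meet_mem_right (g • m) l') (meet_mem_right m' l')
  refine ⟨k * g, G.mul_mem hk hg, by rw [mul_smul, hgx, hkx], ?_, by rw [mul_smul, hgl, hkl]⟩
  have hne : x' ≠ meet m' l' := fun e => hl' (e ▸ meet_mem_right m' l')
  rw [mul_smul]
  exact line_unique hne (hkx ▸ smul_mem k hgm) (hky ▸ smul_mem k (meet_mem_left (g • m) l')) hm'
    (meet_mem_left m' l')

end Cfsg.Agent.OstromPlane
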