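/-
In a 2-transitive collineation group a planar 2-group is never a Sylow 2-subgroup of the stabiliser of two
points or of two lines; a maximal planar 2-group induces a covered group on its fixed subplane.

Main results (namespace `Cfsg.Agent.OstromPlane`): `imgG`, `swap_invol`, `TwoTrans.exists_larger`,
`TwoTrans.covered_of_max`.
-/
import Cfsg.Agent.Lib.OstromWagner.TwoTransitive
import Cfsg.Agent.Lib.OstromWagner.Subplane
import Cfsg.Agent.Lib.OstromWagner.Covered

set_option autoImplicit false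
set_option linter.unusedSectionVars false

namespace Cfsg.Agent.OstromPlane

open Configuration

universe u v

variable {P : Type u} {L : Type v} [Membership P L]

/-- The group induced by `G` on the configuration fixed by `U`. -/
def imgG (G U : Subgroup (Coll P L)) : Subgroup (Coll (FixP U) (FixL U)) :=
  (G.subgroupOf (Subgroup.normalizer (U : Set (Coll P L)))).map (res U)

theorem mem_imgG {G U : Subgroup (Coll P L)} {h : Subgroup.normalizer (U : Set (Coll P L))}
    (hh : (h : Coll P L) ∈ G) : res U h ∈ imgG G U :=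
  ⟨h, hh, rfl⟩

theorem res_eq_one_of_mem {U : Subgroup (Coll P L)} {h : Subgroup.normalizer (U : Set (Coll P L))}
    (hh : (h : Coll P L) ∈ U) : res U h = 1 :=
  Subtype.ext (Prod.ext (Equiv.ext fun p => Subtype.ext (p.2 _ hh))
    (Equiv.ext fun l => Subtype.ext (l.2 _ hh)))

theorem fixed_sup_zpowers {U : Subgroup (Coll P L)} {h : Coll P L} {x : P}
    (hU : ∀ u ∈ U, u • x = x) (hh : h • x = x) : ∀ u ∈ U ⊔ Subgroup.zpowers h, u • x = x :=
  fun _ hu => (sup_le (fun u hu => hU u hu)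
    ((Subgroup.zpowers_le (H := MulAction.stabilizer (Coll P L) x)).2 hh) :
      U ⊔ Subgroup.zpowers h ≤ MulAction.stabilizer (Coll P L) x) hu

theorem fixed_sup_zpowers_line {U : Subgroup (Coll P L)} {h : Coll P L} {x : L}
    (hU : ∀ u ∈ U, u • x = x) (hh : h • x = x) : ∀ u ∈ U ⊔ Subgroup.zpowers h, u • x = x :=
  fun _ hu => (sup_le (fun u hu => hU u hu)
    ((Subgroup.zpowers_le (H := MulAction.stabilizer (Coll P L) x)).2 hh) :
      U ⊔ Subgroup.zpowers h ≤ MulAction.stabilizer (Coll P L) x) hu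

theorem isPGroup_zpowers {p : ℕ} {h : Coll P L} {j : ℕ} (hj : h ^ p ^ j = 1) :
    IsPGroup p (Subgroup.zpowers h) := by
  rintro ⟨_, z, rfl⟩
  refine ⟨j, Subtype.ext ?_⟩
  rw [SubgroupClass.coe_pow]
  change (h ^ z) ^ p ^ j = 1
  rw [← zpow_natCast, ← zpow_mul, mul_comm, zpow_mul, zpow_natCast, hj, one_zpow]

variable [ProjectivePlane P L] [Finite P] [Finite L]

/-- An element swapping two points has a power which is an involution. -/
theorem swap_invol {g : Coll P L} {a b : P} (hab : a ≠ b) (h1 : g • a = b) (h2 : g • b = a) :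
    Invol (g ^ (orderOf g / 2)) := by
  have hodd : ∀ t : ℕ, g ^ (2 * t + 1) • a = b := by
    intro t
    induction t with
    | zero => simpa using h1
    | succ t ih =>
      rw [show 2 * (t + 1) + 1 = 1 + (1 + (2 * t + 1)) by ring, pow_add, pow_add, pow_one, mul_smul,
        mul_smul, ih, h2, h1]
  rcases Nat.even_or_odd (orderOf g) with ⟨j, hj⟩ | ⟨j, hj⟩
  · have hpos := orderOf_pos g
    rw [show orderOf g / 2 = j by omega]
    exact ⟨by rw [← pow_add, ← hj, pow_orderOf_eq_one], pow_ne_one_of_lt_orderOf (by omega) (by omega)⟩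
  · exfalso
    have := hodd j
    rw [← hj, pow_orderOf_eq_one, one_smul] at this
    exact hab this

theorem Quad.dual {a b c d : P} (hq : Quad L a b c d) :
    Quad (Dual P) (dpt (join a b : L)) (dpt (join b c)) (dpt (join c d)) (dpt (join d a)) := by
  obtain ⟨hab, hac, had, hbc, hbd, hcd⟩ := hq.ne
  intro x
  have hne1 : (join a b : L) ≠ join b c := fun e => (hq _).1
    ⟨left_mem_join a b, right_mem_join a b, e ▸ right_mem_join b c⟩
  have hne2 : (join a b : L) ≠ join d a := fun e => (hq _).2.1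
    ⟨left_mem_join a b, right_mem_join a b, e ▸ left_mem_join d a⟩
  have hne3 : (join b c : L) ≠ join c d := fun e => (hq _).2.2.2
    ⟨left_mem_join b c, right_mem_join b c, e ▸ right_mem_join c d⟩
  refine ⟨?_, ?_, ?_, ?_⟩ <;> rintro ⟨h1, h2, h3⟩
  · have : (x : P) = b := point_unique (P := P) (L := L) hne1 h1 h2 (right_mem_join a b) (left_mem_join b c)
    subst this
    exact (hq (join c d)).2.2.2 ⟨h3, left_mem_join c d, right_mem_join c d⟩
  · have : (x : P) = b := point_unique (P := P) (L := L) hne1 h1 h2 (right_mem_join a b) (left_mem_join b c)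
    subst this
    exact (hq (join d a)).2.1 ⟨right_mem_join d a, h3, left_mem_join d a⟩
  · have : (x : P) = a := point_unique (P := P) (L := L) hne2 h1 h3 (left_mem_join a b) (right_mem_join d a)
    subst this
    exact (hq (join c d)).2.2.1 ⟨h2, left_mem_join c d, right_mem_join c d⟩
  · have : (x : P) = c := point_unique (P := P) (L := L) hne3 h1 h2 (right_mem_join b c) (left_mem_join c d)
    subst this
    exact (hq (join d a)).2.2.1 ⟨right_mem_join d a, h3, left_mem_join d a⟩

theorem Planar.dual {U : Subgroup (Coll P L)} (hU : Planar U) :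
    Planar (U.map (dualHom (P := P) (L := L))) := by
  obtain ⟨a, b, c, d, hq, ha, hb, hc, hd⟩ := hU
  obtain ⟨hab, -, had, hbc, -, hcd⟩ := hq.ne
  refine ⟨_, _, _, _, hq.dual, ?_, ?_, ?_, ?_⟩ <;> rintro _ ⟨g, hg, rfl⟩
  · exact join_fixed g hab (ha g hg) (hb g hg)
  · exact join_fixed g hbc (hb g hg) (hc g hg)
  · exact join_fixed g hcd (hc g hg) (hd g hg)
  · exact join_fixed g (Ne.symm had) (hd g hg) (ha g hg)

variable [Fintype P] [Fintype L] {G : Subgroup (Coll P L)}

/-- A planar 2-group fixing two points grows inside their stabiliser and its normaliser. -/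
theorem TwoTrans.exists_larger (h2 : TwoTrans G) {U : Subgroup (Coll P L)} (hUG : U ≤ G)
    (hU2 : IsPGroup 2 U) (hU : Planar U) {a b : P} (hab : a ≠ b) (ha : ∀ g ∈ U, g • a = a)
    (hb : ∀ g ∈ U, g • b = b) :
    ∃ W, W ≤ G ∧ IsPGroup 2 W ∧ U < W ∧ W ≤ Subgroup.normalizer (U : Set (Coll P L)) ∧
      (∀ g ∈ W, g • a = a) ∧ ∀ g ∈ W, g • b = b := by
  haveI := Fact.mk Nat.prime_two
  let K : P → P → Subgroup (Coll P L) := fun x y =>
    G ⊓ (MulAction.stabilizer (Coll P L) x ⊓ MulAction.stabilizer (Coll P L) y)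
  have hUK : U ≤ K a b := fun g hg => ⟨hUG hg, ha g hg, hb g hg⟩
  obtain ⟨T, hT⟩ := (hU2.of_equiv (Subgroup.subgroupOfEquivOfLe hUK).symm :
    IsPGroup 2 (U.subgroupOf (K a b))).exists_le_sylow
  set S : Subgroup (Coll P L) := (T : Subgroup (K a b)).map (K a b).subtype with hSdef
  have hUS : U ≤ S := fun g hg => ⟨⟨g, hUK hg⟩, hT hg, rfl⟩
  have hS2 : IsPGroup 2 S := T.2.map _
  have hSK : S ≤ K a b := Subgroup.map_subtype_le _
  rcases hUS.eq_or_lt with heq | hlt
  swap
  · obtain ⟨W, hUW, hWS, hWN⟩ := exists_grow_normalizer hS2 hlt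
    exact ⟨W, fun g hg => (hSK (hWS hg)).1, hS2.to_le hWS, hUW, hWN, fun g hg => (hSK (hWS hg)).2.1,
      fun g hg => (hSK (hWS hg)).2.2⟩
  exfalso
  have hmax : MaxP 2 U (K a b) := by
    refine ⟨hUK, hU2, fun W hW hWp => ?_⟩
    rw [heq, hSdef, Subgroup.card_map_of_injective (K a b).subtype_injective]
    have hW' : IsPGroup 2 (W.subgroupOf (K a b)) := hWp.of_equiv (Subgroup.subgroupOfEquivOfLe hW).symm
    obtain ⟨T', hT'⟩ := hW'.exists_le_sylow
    rw [← Nat.card_congr (Subgroup.subgroupOfEquivOfLe hW).toEquiv]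
    refine le_trans (Nat.le_of_dvd Nat.card_pos (Subgroup.card_dvd_of_le hT')) ?_
    rw [T'.card_eq_multiplicity, T.card_eq_multiplicity]
  obtain ⟨s, hs, hsa, hsb⟩ := h2 a b b a hab (Ne.symm hab)
  have hsK : U.map (MulAut.conj s).toMonoidHom ≤ K a b := by
    rintro _ ⟨g, hg, rfl⟩
    have e1 : s⁻¹ • a = b := inv_smul_eq_iff.2 hsb.symm
    have e2 : s⁻¹ • b = a := inv_smul_eq_iff.2 hsa.symm
    refine ⟨G.mul_mem (G.mul_mem hs (hUG hg)) (G.inv_mem hs), ?_, ?_⟩
    · show (s * g * s⁻¹) • a = a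
      rw [mul_smul, mul_smul, e1, hb g hg, hsb]
    · show (s * g * s⁻¹) • b = b
      rw [mul_smul, mul_smul, e2, ha g hg, hsa]
  obtain ⟨k, hk, hks⟩ := hmax.exists_normalizing hsK
  let _ := fixPlane U hU
  let g : Subgroup.normalizer (U : Set (Coll P L)) := ⟨k * s, hks⟩
  have hga : res U g • FixP.mk a ha = FixP.mk b hb :=
    Subtype.ext (show (k * s) • a = b by rw [mul_smul, hsa]; exact hk.2.2)
  have hgb : res U g • FixP.mk b hb = FixP.mk a ha :=
    Subtype.ext (show (k * s) • b = a by rw [mul_smul, hsb]; exact hk.2.1)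
  have hw : Invol (res U g ^ (orderOf (res U g) / 2)) :=
    swap_invol (fun e => hab (congrArg Subtype.val e)) hga hgb
  set i := orderOf (res U g) / 2
  have hwi : (res U) (g ^ i) ^ 2 ^ 1 = 1 := by rw [map_pow, pow_one, pow_two]; exact hw.sq
  obtain ⟨m, hm0, j, hj⟩ := exists_pPart (res U) hwi
  set h := (g ^ i) ^ m
  have hm : res U h = res U g ^ i := hm0.trans (map_pow _ _ _)
  obtain ⟨x, y, hxy, hx, hy⟩ := hw.two_fixed
  set W := U ⊔ Subgroup.zpowers (h : Coll P L)
  have hj' : (h : Coll P L) ^ 2 ^ j = 1 := by rw [← SubgroupClass.coe_pow, hj]; rfl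
  have hWp : IsPGroup 2 W :=
    hU2.to_sup_of_normal_left' (isPGroup_zpowers hj') (Subgroup.zpowers_le.2 h.2)
  have hWG : W ≤ G := sup_le hUG (Subgroup.zpowers_le.2 (by
    show ((g ^ i) ^ m : Subgroup.normalizer (U : Set (Coll P L))).1 ∈ G
    rw [SubgroupClass.coe_pow, SubgroupClass.coe_pow]
    exact G.pow_mem (G.pow_mem (G.mul_mem hk.1 hs) _) _))
  have hfix : ∀ z : FixP U, (res U g ^ i) • z = z → ∀ u ∈ W, u • z.1 = z.1 := by
    intro z hz
    refine fixed_sup_zpowers z.2 ?_
    rw [← hm] at hz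
    exact congrArg Subtype.val hz
  obtain ⟨t, ht, htx, hty⟩ := h2 x.1 y.1 a b (fun e => hxy (Subtype.ext e)) hab
  have hW' : W.map (MulAut.conj t).toMonoidHom ≤ K a b := by
    rintro _ ⟨u, hu, rfl⟩
    have e1 : t⁻¹ • a = x.1 := inv_smul_eq_iff.2 htx.symm
    have e2 : t⁻¹ • b = y.1 := inv_smul_eq_iff.2 hty.symm
    refine ⟨G.mul_mem (G.mul_mem ht (hWG hu)) (G.inv_mem ht), ?_, ?_⟩
    · show (t * u * t⁻¹) • a = a
      rw [mul_smul, mul_smul, e1, hfix x hx u hu, htx]
    · show (t * u * t⁻¹) • b = b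
      rw [mul_smul, mul_smul, e2, hfix y hy u hu, hty]
  have hle := hmax.max _ hW' (hWp.map _)
  rw [Subgroup.card_map_of_injective (MulAut.conj t).injective] at hle
  have hWU : U = W := Subgroup.eq_of_le_of_card_ge le_sup_left hle
  have : res U h = 1 := res_eq_one_of_mem
    (hWU.ge ((le_sup_right : Subgroup.zpowers (h : Coll P L) ≤ W) (Subgroup.mem_zpowers _)))
  exact hw.ne (hm.symm.trans this)

/-- A maximal planar 2-group induces a covered group on its fixed subplane. -/
theorem TwoTrans.covered_of_max (h2 : TwoTrans G) {U : Subgroup (Coll P L)} (hUG : U ≤ G)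
    (hU2 : IsPGroup 2 U) (hU : Planar U)
    (hmax : ∀ W : Subgroup (Coll P L), W ≤ G → IsPGroup 2 W → U ≤ W → Planar W → W = U) :
    letI := fixPlane U hU
    Covered (imgG G U) := by
  haveI := Fact.mk Nat.prime_two
  let _ := fixPlane U hU
  -- an element of the normaliser of 2-power order acting trivially lies in `U`
  have triv : ∀ h : Subgroup.normalizer (U : Set (Coll P L)), (h : Coll P L) ∈ G →
      (∃ j, (h : Coll P L) ^ 2 ^ j = 1) → res U h = 1 → (h : Coll P L) ∈ U := by
    rintro h hG ⟨j, hj⟩ hres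
    obtain ⟨a, b, c, d, hq, ha, hb, hc, hd⟩ := id hU
    have hf : ∀ z : P, (∀ u ∈ U, u • z = z) → ∀ u ∈ U ⊔ Subgroup.zpowers (h : Coll P L), u • z = z := by
      intro z hz
      refine fixed_sup_zpowers hz ?_
      have := congrArg (fun r : Coll (FixP U) (FixL U) => (r • FixP.mk z hz).1) hres
      exact this.trans (congrArg Subtype.val (one_smul _ (FixP.mk z hz)))
    have := hmax (U ⊔ Subgroup.zpowers (h : Coll P L)) (sup_le hUG (Subgroup.zpowers_le.2 hG))
      (hU2.to_sup_of_normal_left' (isPGroup_zpowers hj) (Subgroup.zpowers_le.2 h.2)) le_sup_left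
      ⟨a, b, c, d, hq, hf a ha, hf b hb, hf c hc, hf d hd⟩
    exact this.le ((le_sup_right : Subgroup.zpowers (h : Coll P L) ≤ _) (Subgroup.mem_zpowers _))
  -- a larger 2-group in the normaliser gives an involution
  have invol : ∀ W : Subgroup (Coll P L), W ≤ G → IsPGroup 2 W → U < W →
      W ≤ Subgroup.normalizer (U : Set (Coll P L)) →
      ∃ h : Subgroup.normalizer (U : Set (Coll P L)), (h : Coll P L) ∈ W ∧ res U h ∈ imgG G U ∧
        Invol (res U h) := by
    intro W hWG hW2 hUW hWN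
    obtain ⟨g, hg, hgU⟩ := SetLike.exists_of_lt hUW
    obtain ⟨j, hj⟩ := hW2 ⟨g, hg⟩
    have hj' : g ^ 2 ^ j = 1 := congrArg Subtype.val hj
    set f : Subgroup.normalizer (U : Set (Coll P L)) := ⟨g, hWN hg⟩
    have hne : res U f ≠ 1 := fun e => hgU (triv f (hWG hg) ⟨j, hj'⟩ e)
    have hpow : res U f ^ 2 ^ j = 1 := by
      rw [← map_pow, show f ^ 2 ^ j = 1 from Subtype.ext hj', map_one]
    obtain ⟨i, -, hi⟩ := (Nat.dvd_prime_pow Nat.prime_two).1 (orderOf_dvd_of_pow_eq_one hpow)
    rcases i with _ | i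
    · exact absurd (orderOf_eq_one_iff.1 (hi.trans (pow_zero 2))) hne
    refine ⟨f ^ 2 ^ i, by rw [SubgroupClass.coe_pow]; exact W.pow_mem hg _, mem_imgG (by
      rw [SubgroupClass.coe_pow]; exact G.pow_mem (hWG hg) _), ?_, ?_⟩
    · rw [map_pow, ← pow_add, ← two_mul, ← pow_succ', ← hi, pow_orderOf_eq_one]
    · rw [map_pow]
      exact pow_ne_one_of_lt_orderOf (by positivity) (by rw [hi, pow_succ]; have := Nat.two_pow_pos i; omega)
  refine ⟨fun x y hxy => ?_, fun l m hlm => ?_, ?_⟩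
  · obtain ⟨W, hWG, hW2, hUW, hWN, hWx, hWy⟩ :=
      h2.exists_larger hUG hU2 hU (fun e => hxy (Subtype.ext e)) x.2 y.2
    obtain ⟨h, hh, hmem, hi⟩ := invol W hWG hW2 hUW hWN
    exact ⟨_, hmem, hi, Subtype.ext (hWx _ hh), Subtype.ext (hWy _ hh)⟩
  · have : Fintype (Dual L) := inferInstanceAs (Fintype L)
    have : Fintype (Dual P) := inferInstanceAs (Fintype P)
    obtain ⟨W, hWG, hW2, hUW, hWN, hWl, hWm⟩ := h2.dual.exists_larger
      (Subgroup.map_mono hUG) (hU2.map _) hU.dual (a := dpt l.1) (b := dpt m.1)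
      (fun e => hlm (Subtype.ext e)) (by rintro _ ⟨u, hu, rfl⟩; exact l.2 u hu)
      (by rintro _ ⟨u, hu, rfl⟩; exact m.2 u hu)
    set W₀ := W.comap (dualHom (P := P) (L := L)) with hW₀
    have hW₀G : W₀ ≤ G := fun g hg => by
      obtain ⟨g', hg', e⟩ := hWG hg
      exact dualHom_injective e ▸ hg'
    have hlt : U < W₀ := by
      refine lt_of_le_of_ne (fun u hu => hUW.le (Subgroup.mem_map_of_mem _ hu)) fun e => ?_
      refine hUW.not_ge fun w hw => ?_
      obtain ⟨g, -, rfl⟩ := hWG hw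
      exact Subgroup.mem_map_of_mem _ (e.symm ▸ (hw : g ∈ W₀))
    have hN : W₀ ≤ Subgroup.normalizer (U : Set (Coll P L)) := fun g hg => by
      refine Subgroup.mem_normalizer_iff.2 fun u => ?_
      have := Subgroup.mem_normalizer_iff.1 (hWN hg) (dualHom u)
      rw [← map_inv, ← map_mul, ← map_mul, Subgroup.mem_map_iff_mem dualHom_injective,
        Subgroup.mem_map_iff_mem dualHom_injective] at this
      exact this
    obtain ⟨h, hh, hmem, hi⟩ := invol W₀ hW₀G (hW2.comap_of_injective _ dualHom_injective) hlt hN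
    exact ⟨_, hmem, hi, Subtype.ext (hWl _ hh), Subtype.ext (hWm _ hh)⟩
  · rintro _ ⟨g, hg, rfl⟩ hi
    by_contra hno
    obtain ⟨a, b, c, d, hq, ha, hb, hc, hd⟩ := hi.axis_or_quad.resolve_left hno
    obtain ⟨m, hm, j, hj⟩ := exists_pPart (res U) (p := 2) (g := g) (i := 1)
      (by rw [pow_one, pow_two]; exact hi.sq)
    have hj' : ((g ^ m : Subgroup.normalizer (U : Set (Coll P L))) : Coll P L) ^ 2 ^ j = 1 := by
      rw [← SubgroupClass.coe_pow, hj]; rfl
    have hG : ((g ^ m : Subgroup.normalizer (U : Set (Coll P L))) : Coll P L) ∈ G := by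
      rw [SubgroupClass.coe_pow]; exact G.pow_mem hg m
    have hf : ∀ z : FixP U, res U g • z = z →
        ∀ u ∈ U ⊔ Subgroup.zpowers ((g ^ m : Subgroup.normalizer (U : Set (Coll P L))) : Coll P L),
          u • z.1 = z.1 := fun z hz => fixed_sup_zpowers z.2 (by
      rw [← hm] at hz
      exact congrArg Subtype.val hz)
    have := hmax _ (sup_le hUG (Subgroup.zpowers_le.2 hG))
      (hU2.to_sup_of_normal_left' (isPGroup_zpowers hj') (Subgroup.zpowers_le.2 (g ^ m).2)) le_sup_left
      ⟨a.1, b.1, c.1, d.1, Quad.up hU hq, hf a ha, hf b hb, hf c hc, hf d hd⟩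
    have hmem := this.le ((le_sup_right : Subgroup.zpowers
      ((g ^ m : Subgroup.normalizer (U : Set (Coll P L))) : Coll P L) ≤ _) (Subgroup.mem_zpowers _))
    exact hi.ne (hm.symm.trans (res_eq_one_of_mem hmem))

end Cfsg.Agent.OstromPlane
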