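/-
A 2-transitive collineation group of a finite projective plane contains a central collineation.

Main results (namespace `Cfsg.Agent.OstromPlane`): `TwoTrans.antiflag_elt`, `TwoTrans.exists_axis`.
-/
import Cfsg.Agent.Lib.OstromWagner.PairGrowth
import Cfsg.Agent.Lib.OstromWagner.CoveredMain

set_option autoImplicit false
set_option linter.unusedSectionVars false

namespace Cfsg.Agent.OstromPlane

open Configuration

universe u v

variable {P : Type u} {L : Type v} [Membership P L] [ProjectivePlane P L] [Finite P] [Finite L]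
  [Fintype P] [Fintype L] {G : Subgroup (Coll P L)}

/-- Without central collineations the order is a prime power and some antiflag is fixed by an element of
that prime order. -/
theorem TwoTrans.antiflag_elt (h2 : TwoTrans G) (hno : ∀ g ∈ G, ∀ l : L, Axis g l → g = 1) :
    ∃ p A : ℕ, p.Prime ∧ 0 < A ∧ ProjectivePlane.order P L = p ^ A ∧
      ∃ g ∈ G, g ≠ 1 ∧ (∃ i : ℕ, g ^ p ^ i = 1) ∧ ∃ (a : P) (l : L), a ∉ l ∧ g • a = a ∧ g • l = l := by
  classical
  haveI := Fact.mk Nat.prime_two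
  obtain ⟨x, -, -, m₀, -, -, -, -, -, -, -, -, -, -⟩ := @ProjectivePlane.exists_config P L _ _
  obtain ⟨y, -, hyx, -⟩ := exists_third_point (P := P) m₀ x x
  obtain ⟨g, hg, hgx, hgy⟩ := h2 x y y x (Ne.symm hyx) hyx
  have hi := swap_invol (Ne.symm hyx) hgx hgy
  set i := orderOf g / 2
  have hgi : g ^ i ∈ G := G.pow_mem hg i
  obtain ⟨a, b, c, d, hq, ha, hb, hc, hd⟩ := hi.axis_or_quad.resolve_left
    fun ⟨l, hl⟩ => hi.ne (hno _ hgi l hl)
  have hU₀ : Planar (Subgroup.zpowers (g ^ i)) :=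
    ⟨a, b, c, d, hq, forall_zpowers_smul.2 ha, forall_zpowers_smul.2 hb, forall_zpowers_smul.2 hc,
      forall_zpowers_smul.2 hd⟩
  let Good : Subgroup (Coll P L) → Prop := fun W => W ≤ G ∧ IsPGroup 2 W ∧ Planar W
  have hfin : Finite (Subgroup (Coll P L)) := inferInstance
  obtain ⟨U, -, ⟨hUG, hU2, hU⟩, hUmax⟩ := Finite.exists_le_maximal (p := Good)
    (a := Subgroup.zpowers (g ^ i))
    ⟨Subgroup.zpowers_le.2 hgi, isPGroup_zpowers (j := 1) (by rw [pow_one, pow_two]; exact hi.sq), hU₀⟩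
  let _ := fixPlane U hU
  have : Fintype (FixP U) := Fintype.ofFinite _
  have : Fintype (FixL U) := Fintype.ofFinite _
  have hcov := h2.covered_of_max hUG hU2 hU fun W hWG hW2 hUW hWp =>
    le_antisymm (hUmax ⟨hWG, hW2, hWp⟩ hUW) hUW
  obtain ⟨p, e, hp, he, hk, _, ⟨h, hh, rfl⟩, hho, a', m', ham, hga, hgm⟩ := hcov.good
  haveI := Fact.mk hp
  obtain ⟨j, hj⟩ := planar_two_group_order U hU2 hU
  refine ⟨p, e * 2 ^ j, hp, Nat.mul_pos he (Nat.two_pow_pos j), by rw [hj, hk, pow_mul], ?_⟩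
  obtain ⟨m, hm, i', hi'⟩ := exists_pPart (res U) (p := p) (g := h) (i := 1)
    (by rw [pow_one, ← hho, pow_orderOf_eq_one])
  rw [← hm] at hga hgm
  refine ⟨((h ^ m : Subgroup.normalizer (U : Set (Coll P L))) : Coll P L),
    by rw [SubgroupClass.coe_pow]; exact G.pow_mem hh m, fun e' => ?_,
    ⟨i', by rw [← SubgroupClass.coe_pow, hi']; rfl⟩, a'.1, m'.1, ham, congrArg Subtype.val hga,
    congrArg Subtype.val hgm⟩
  have : h ^ m = 1 := Subtype.ext e'
  rw [this, map_one] at hm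
  rw [← hm, orderOf_one] at hho
  exact hp.one_lt.ne hho

omit [ProjectivePlane P L] [Finite P] [Finite L] [Fintype P] [Fintype L] in
theorem exists_axis_aux (N : ℕ) : ∀ {P : Type u} {L : Type v} [Membership P L] [ProjectivePlane P L]
    [Finite P] [Finite L] [Fintype P] [Fintype L] {G : Subgroup (Coll P L)}, Fintype.card P = N →
    TwoTrans G → ∃ g ∈ G, g ≠ 1 ∧ ∃ l : L, Axis g l := by
  induction N using Nat.strong_induction_on with
  | _ N ih =>
  intro P L _ _ _ _ _ _ G hN h2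
  classical
  by_contra! hno
  have hno' : ∀ g ∈ G, ∀ l : L, Axis g l → g = 1 := fun g hg l hl =>
    by_contra fun h1 => hno g hg h1 l hl
  obtain ⟨p, A, hp, hA, hn, g₀, hg₀G, hg₀1, ⟨i₀, hg₀p⟩, a₀, l₀, hal, hga, hgl⟩ := h2.antiflag_elt hno'
  haveI := Fact.mk hp
  set n := ProjectivePlane.order P L with hndef
  have hn1 := ProjectivePlane.one_lt_order P L
  let Kl : Subgroup (Coll P L) := G ⊓ MulAction.stabilizer (Coll P L) l₀
  obtain ⟨Q, hQ⟩ := exists_maxP p Kl
  have horb : MulAction.orbit Kl a₀ = {x : P | x ∉ l₀} := by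
    ext x
    constructor
    · rintro ⟨k, rfl⟩ hx
      exact hal ((smul_mem_iff_of_fixed (k : Coll P L) k.2.2).1 hx)
    · intro hx
      obtain ⟨k, hk, hka, hkl⟩ := h2.antiflag hal hx
      exact ⟨⟨k, hk, hkl⟩, hka⟩
  have hoff : (MulAction.orbit Kl a₀).ncard = p ^ (A * 2) := by
    rw [horb, pow_mul, ← hn, hndef, ← card_offPts l₀, Set.ncard_eq_toFinset_card']
    congr 1
    ext x
    simp
  obtain ⟨htrans, hPA, -⟩ := hQ.orbit_eq hoff
  rw [horb] at htrans
  set PA : Subgroup (Coll P L) := Q ⊓ MulAction.stabilizer (Coll P L) a₀ with hPAdef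
  have move : ∀ x : P, x ∉ l₀ → ∃ k ∈ Q, k • a₀ = x := by
    intro x hx
    have : x ∈ MulAction.orbit Q a₀ := htrans ▸ hx
    obtain ⟨k, hk⟩ := this
    exact ⟨k, k.2, hk⟩
  have hQG : ∀ k ∈ Q, k ∈ G := fun k hk => (hQ.le hk).1
  have hQl : ∀ k ∈ Q, k • l₀ = l₀ := fun k hk => (hQ.le hk).2
  -- the stabiliser of the antiflag is a nontrivial maximal p-subgroup
  have hbound : ∀ (x : P) (l : L), x ∉ l → ∀ W : Subgroup (Coll P L), W ≤ G → IsPGroup p W →
      (∀ w ∈ W, w • x = x) → (∀ w ∈ W, w • l = l) → Nat.card W ≤ Nat.card PA := by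
    intro x l hxl W hWG hWp hWx hWl
    obtain ⟨t, ht, htx, htl⟩ := h2.antiflag hxl hal
    rw [← Subgroup.card_map_of_injective (f := (MulAut.conj t).toMonoidHom) (MulAut.conj t).injective]
    refine hPA.max _ ?_ (hWp.map _)
    rintro _ ⟨w, hw, rfl⟩
    have e1 : t⁻¹ • a₀ = x := inv_smul_eq_iff.2 htx.symm
    have e2 : t⁻¹ • l₀ = l := inv_smul_eq_iff.2 htl.symm
    refine ⟨⟨G.mul_mem (G.mul_mem ht (hWG hw)) (G.inv_mem ht), ?_⟩, ?_⟩
    · show (t * w * t⁻¹) • l₀ = l₀
      rw [mul_smul, mul_smul, e2, hWl w hw, htl]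
    · show (t * w * t⁻¹) • a₀ = a₀
      rw [mul_smul, mul_smul, e1, hWx w hw, htx]
  have hPA1 : 1 < Nat.card PA := by
    refine lt_of_lt_of_le ?_ (hbound a₀ l₀ hal (Subgroup.zpowers g₀) (Subgroup.zpowers_le.2 hg₀G)
      (isPGroup_zpowers hg₀p) (forall_zpowers_smul.2 hga)
      ((Subgroup.zpowers_le (H := MulAction.stabilizer (Coll P L) l₀)).2 hgl))
    rw [Nat.card_zpowers]
    have h0 : orderOf g₀ ≠ 1 := fun e => hg₀1 (orderOf_eq_one_iff.1 e)
    have := orderOf_pos g₀
    omega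
  -- a fixed point X on l₀
  have hfixP : Nonempty (MulAction.fixedPoints Q P) := by
    have h := hQ.isPGroup.card_modEq_card_fixedPoints (α := P)
    by_contra hempty
    rw [not_nonempty_iff] at hempty
    rw [Nat.card_of_isEmpty (α := MulAction.fixedPoints Q P), card_points' (L := L)] at h
    have hd : p ∣ n ^ 2 + n := by
      rw [hn]
      exact dvd_add (dvd_trans (dvd_pow_self p (by omega)) (dvd_pow_self (p ^ A) two_ne_zero))
        (dvd_pow_self p (by omega))
    exact hp.not_dvd_one ((Nat.dvd_add_right hd).1 (Nat.modEq_zero_iff_dvd.1 h))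
  obtain ⟨⟨X, hX⟩⟩ := hfixP
  have hXfix : ∀ k ∈ Q, k • X = X := fun k hk => hX ⟨k, hk⟩
  have hXl : X ∈ l₀ := by
    by_contra hXl
    obtain ⟨k, hk, hka⟩ := move X hXl
    obtain ⟨m, hm, hml, -⟩ := exists_third_line X l₀ l₀
    obtain ⟨y, hy, hyX, hym⟩ := exists_third_point m X (meet m l₀)
    have hyl : y ∉ l₀ := fun h => hym (meet_eq hml hy h).symm
    obtain ⟨k', hk', hk'a⟩ := move y hyl
    have h1 := hXfix (k' * k⁻¹) (Q.mul_mem hk' (Q.inv_mem hk))
    rw [mul_smul, inv_smul_eq_iff.2 hka.symm, hk'a] at h1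
    exact hyX h1
  -- a central element of order p
  have hQ1 : Nontrivial Q := by
    refine Finite.one_lt_card_iff_nontrivial.1 (lt_of_lt_of_le hPA1 ?_)
    exact Nat.le_of_dvd Nat.card_pos (Subgroup.card_dvd_of_le inf_le_left)
  obtain ⟨zc, hzc⟩ := exists_prime_orderOf_dvd_card' (G := Subgroup.center Q) p
    (by
      haveI := hQ.isPGroup.center_nontrivial
      obtain ⟨i, hi⟩ := IsPGroup.iff_card.1 (hQ.isPGroup.to_subgroup (Subgroup.center Q))
      rcases i with _ | i
      · rw [pow_zero] at hi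
        exact absurd hi Finite.one_lt_card.ne'
      · exact ⟨p ^ i, by rw [hi, pow_succ']⟩)
  set z : Coll P L := ((zc : Q) : Coll P L) with hzdef
  have hzo : orderOf z = p := by rw [hzdef, Subgroup.orderOf_coe, Subgroup.orderOf_coe, hzc]
  have hzQ : z ∈ Q := (zc : Q).2
  have hz1 : z ≠ 1 := fun e => hp.one_lt.ne (by rw [← hzo, e, orderOf_one])
  have hzG : z ∈ G := hQG z hzQ
  have hcomm : ∀ k ∈ Q, k * z = z * k := fun k hk =>
    congrArg Subtype.val (Subgroup.mem_center_iff.1 zc.2 ⟨k, hk⟩)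
  have hzmove : ∀ x : P, x ∉ l₀ → z • x ≠ x := by
    intro x hx e
    refine hz1 (eq_one_of_lines fun m => ?_)
    by_cases hm : m = l₀
    · exact hm ▸ hQl z hzQ
    have hall : ∀ y : P, y ∉ l₀ → z • y = y := by
      intro y hy
      obtain ⟨k, hk, hka⟩ := move x hx
      obtain ⟨k', hk', hk'a⟩ := move y hy
      have h1 : (k' * k⁻¹) • x = y := by rw [mul_smul, inv_smul_eq_iff.2 hka.symm, hk'a]
      rw [← h1, ← mul_smul, ← hcomm _ (Q.mul_mem hk' (Q.inv_mem hk)), mul_smul, e]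
    obtain ⟨y, hy, hy', -⟩ := exists_third_point (P := P) m (meet m l₀) (meet m l₀)
    obtain ⟨w, hw, hw', hwy⟩ := exists_third_point (P := P) m (meet m l₀) y
    exact fixed_of_points z hwy (hall w fun e => hw' (meet_eq hm hw e).symm)
      (hall y fun e => hy' (meet_eq hm hy e).symm) hw hy
  -- no line through a point and its image is fixed or passes through X
  set j : L := join a₀ (z • a₀) with hj
  have hza : z • a₀ ∉ l₀ := fun e => hal ((smul_mem_iff_of_fixed z (hQl z hzQ)).1 e)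
  have hzj : z • j ≠ j := by
    intro hzj
    have hjl : j ≠ l₀ := fun e => hal (e ▸ left_mem_join a₀ (z • a₀))
    obtain ⟨Y, hYj, hYl⟩ := exists_meet (P := P) j l₀
    have hfixed : Center z Y := by
      intro m hm
      by_cases hml : m = l₀
      · exact hml ▸ hQl z hzQ
      obtain ⟨y, hy, hy', -⟩ := exists_third_point (P := P) m Y Y
      have hyl : y ∉ l₀ := fun e => hy' (point_unique hml hy e hm hYl)
      obtain ⟨k, hk, hka⟩ := move y hyl
      have hkj : z • (k • j) = k • j := by rw [← mul_smul, ← hcomm k hk, mul_smul, hzj]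
      have hYkj : Y ∈ k • j := by
        by_contra hY
        obtain ⟨w, hw1, hw2⟩ := exists_meet (P := P) j (k • j)
        have hne : j ≠ k • j := fun e => hY (e ▸ hYj)
        exact hzmove w (fun e => hY (point_unique hjl hYj hYl hw1 e ▸ hw2))
          (fixed_of_lines z hne hzj hkj hw1 hw2)
      rw [line_unique hy' hy hm (hka ▸ smul_mem k (left_mem_join a₀ (z • a₀))) hYkj]
      exact hkj
    obtain ⟨l, hl⟩ := hfixed.exists_axis
    exact hz1 (hno' z hzG l hl)
  have hXj : X ∉ j := by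
    intro hXj
    refine hzj (line_unique (fun e : X = z • a₀ => hza (e ▸ hXl))
      (mem_smul_of_fixed z (hXfix z hzQ) hXj) (smul_mem z (left_mem_join a₀ (z • a₀))) hXj
      (right_mem_join a₀ (z • a₀)))
  have hp2 : p ≠ 2 := by
    intro e
    refine hzj (line_unique (Ne.symm (hzmove a₀ hal)) ?_ (smul_mem z (left_mem_join a₀ (z • a₀)))
      (left_mem_join _ _) (right_mem_join _ _))
    have h := smul_mem z (right_mem_join (L := L) a₀ (z • a₀))
    rwa [← mul_smul, ← pow_two, ← e, ← hzo, pow_orderOf_eq_one, one_smul] at h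
  have hodd : Odd p := hp.odd_of_ne_two hp2
  have hgen : ∀ {X : Type v} [MulAction (Coll P L) X] (x : X), z • z • x = x → z • x = x := by
    intro X _ x e
    obtain ⟨t, ht⟩ := hodd
    have h2t : ∀ t : ℕ, z ^ (2 * t) • x = x := by
      intro t
      induction t with
      | zero => simp
      | succ t iht => rw [Nat.mul_succ, pow_add, mul_smul, pow_two, mul_smul, e, iht]
    have h1 : z ^ p • x = x := by rw [← hzo, pow_orderOf_eq_one, one_smul]
    rw [ht, pow_succ', mul_smul, h2t] at h1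
    exact h1
  have hzza : z • z • a₀ ≠ a₀ := by
    intro e
    refine hzj (line_unique (Ne.symm (hzmove a₀ hal)) ?_ (smul_mem z (left_mem_join a₀ (z • a₀)))
      (left_mem_join _ _) (right_mem_join _ _))
    have h := smul_mem z (right_mem_join (L := L) a₀ (z • a₀))
    rwa [e] at h
  have hzzl : z • z • a₀ ∉ l₀ := fun e => hza ((smul_mem_iff_of_fixed z (hQl z hzQ)).1 e)
  have hquad : Quad L X a₀ (z • a₀) (z • z • a₀) := by
    refine fun m => ⟨fun ⟨h1, h2, h3⟩ => ?_, fun ⟨h1, h2, h3⟩ => ?_, fun ⟨h1, h2, h3⟩ => ?_,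
      fun ⟨h1, h2, h3⟩ => ?_⟩
    · exact hXj (by rw [hj, join_eq (Ne.symm (hzmove a₀ hal)) h2 h3]; exact h1)
    · have hm : z • m = m := hgen m (line_unique (fun e : X = z • z • a₀ => hzzl (e ▸ hXl))
        (mem_smul_of_fixed z (hXfix z hzQ) (mem_smul_of_fixed z (hXfix z hzQ) h1))
        (smul_mem z (smul_mem z h2)) h1 h3)
      exact hXj (by
        rw [hj, join_eq (Ne.symm (hzmove a₀ hal)) h2 (hm ▸ smul_mem z h2)]
        exact h1)
    · have h1' : X ∈ z⁻¹ • m :=
        mem_smul_of_fixed z⁻¹ (inv_smul_eq_iff.2 (hXfix z hzQ).symm) h1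
      have h2' : a₀ ∈ z⁻¹ • m := by simpa using smul_mem z⁻¹ h2
      have h3' : z • a₀ ∈ z⁻¹ • m := by simpa using smul_mem z⁻¹ h3
      exact hXj (by rw [hj, join_eq (Ne.symm (hzmove a₀ hal)) h2' h3']; exact h1')
    · refine hzj ?_
      have hmj : m = j := (join_eq (Ne.symm (hzmove a₀ hal)) h1 h2).symm
      subst hmj
      exact line_unique (fun e => hzmove a₀ hal (MulAction.injective z e).symm)
        (smul_mem z (left_mem_join a₀ (z • a₀))) (smul_mem z (right_mem_join a₀ (z • a₀))) h2 h3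
  have hPAa : ∀ k ∈ PA, k • a₀ = a₀ := fun k hk => hk.2
  have hPAza : ∀ k ∈ PA, k • (z • a₀) = z • a₀ := fun k hk => by
    rw [← mul_smul, hcomm k hk.1, mul_smul, hPAa k hk]
  have hPAzza : ∀ k ∈ PA, k • (z • z • a₀) = z • z • a₀ := fun k hk => by
    rw [← mul_smul, hcomm k hk.1, mul_smul, hPAza k hk]
  have hU : Planar PA :=
    ⟨X, a₀, z • a₀, z • z • a₀, hquad, fun k hk => hXfix k hk.1, hPAa, hPAza, hPAzza⟩
  let _ := fixPlane PA hU
  have : Fintype (FixP PA) := Fintype.ofFinite _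
  have : Fintype (FixL PA) := Fintype.ofFinite _
  have hlt : Fintype.card (FixP PA) < N := by
    rw [← hN]
    refine Fintype.card_lt_of_injective_not_surjective Subtype.val Subtype.val_injective fun hs => ?_
    have hbot : PA = ⊥ := (Subgroup.eq_bot_iff_forall _).2 fun k hk => eq_one_of_points fun x => by
      obtain ⟨⟨y, hy⟩, rfl⟩ := hs x
      exact hy k hk
    rw [hbot, Subgroup.card_bot] at hPA1
    exact lt_irrefl 1 hPA1
  -- the induced group is transitive on triples, hence 2-transitive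
  have hPAG : PA ≤ G := fun k hk => hQG k hk.1
  have htriple : ∀ (x x' : FixP PA) (m m' l l' : FixL PA), x ∈ m → x ∉ l → x' ∈ m' → x' ∉ l' →
      ∃ h ∈ imgG G PA, h • x = x' ∧ h • m = m' ∧ h • l = l' := by
    intro x x' m m' l l' h1 h3 h1' h3'
    obtain ⟨t, ht, htx, htm, htl⟩ := h2.triple (x := x.1) (x' := x'.1) h1 h3 h1' h3'
    let K : Subgroup (Coll P L) := G ⊓ (MulAction.stabilizer (Coll P L) x'.1 ⊓
      (MulAction.stabilizer (Coll P L) m'.1 ⊓ MulAction.stabilizer (Coll P L) l'.1))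
    have hmax : MaxP p PA K := ⟨fun k hk => ⟨hPAG hk, x'.2 k hk, m'.2 k hk, l'.2 k hk⟩,
      hQ.isPGroup.to_le inf_le_left, fun W hW hWp => hbound x'.1 l'.1 h3' W (fun w hw => (hW hw).1) hWp
        (fun w hw => (hW hw).2.1) fun w hw => (hW hw).2.2.2⟩
    have htK : PA.map (MulAut.conj t).toMonoidHom ≤ K := by
      rintro _ ⟨k, hk, rfl⟩
      have e1 : t⁻¹ • x'.1 = x.1 := inv_smul_eq_iff.2 htx.symm
      have e2 : t⁻¹ • m'.1 = m.1 := inv_smul_eq_iff.2 htm.symm
      have e3 : t⁻¹ • l'.1 = l.1 := inv_smul_eq_iff.2 htl.symm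
      refine ⟨G.mul_mem (G.mul_mem ht (hPAG hk)) (G.inv_mem ht), ?_, ?_, ?_⟩
      · show (t * k * t⁻¹) • x'.1 = x'.1
        rw [mul_smul, mul_smul, e1, x.2 k hk, htx]
      · show (t * k * t⁻¹) • m'.1 = m'.1
        rw [mul_smul, mul_smul, e2, m.2 k hk, htm]
      · show (t * k * t⁻¹) • l'.1 = l'.1
        rw [mul_smul, mul_smul, e3, l.2 k hk, htl]
    obtain ⟨k, hk, hkt⟩ := hmax.exists_normalizing htK
    refine ⟨res PA ⟨k * t, hkt⟩, mem_imgG (G.mul_mem hk.1 ht), Subtype.ext ?_, Subtype.ext ?_,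
      Subtype.ext ?_⟩
    · show (k * t) • x.1 = x'.1
      rw [mul_smul, htx]; exact hk.2.1
    · show (k * t) • m.1 = m'.1
      rw [mul_smul, htm]; exact hk.2.2.1
    · show (k * t) • l.1 = l'.1
      rw [mul_smul, htl]; exact hk.2.2.2
  have h2' : TwoTrans (imgG G PA) := by
    intro a b c d hab hcd
    obtain ⟨l, hbl, hl, -⟩ := exists_third_line b (join a b : FixL PA) (join a b)
    obtain ⟨l', hdl, hl', -⟩ := exists_third_line d (join c d : FixL PA) (join c d)
    have hal' : a ∉ l := fun e => hl (join_eq hab e hbl).symm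
    have hcl' : c ∉ l' := fun e => hl' (join_eq hcd e hdl).symm
    obtain ⟨h, hh, hha, hhm, hhl⟩ :=
      htriple a c (join a b) (join c d) l l' (left_mem_join a b) hal' (left_mem_join c d) hcl'
    refine ⟨h, hh, hha, point_unique (Ne.symm hl') (hhm ▸ smul_mem h (right_mem_join a b))
      (hhl ▸ smul_mem h hbl) (right_mem_join c d) hdl⟩
  obtain ⟨w, hw, hw1, lw, hlw⟩ := ih _ hlt rfl h2'
  obtain ⟨q, e', hq, he', hk', _, ⟨h, hh, rfl⟩, hho, a', m', ham, hfa, hfm⟩ :=
    (h2'.full_of_axis hw hw1 hlw lw).good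
  -- the prime is the same
  have hzN : z ∈ Subgroup.normalizer (PA : Set (Coll P L)) :=
    Subgroup.centralizer_le_normalizer _ (Subgroup.mem_centralizer_iff.2 fun k hk => hcomm k hk.1)
  have hpq : p = q := by
    have hl₀ : ∀ k ∈ PA, k • l₀ = l₀ := fun k hk => hQl k hk.1
    have hzp : res PA ⟨z, hzN⟩ ^ p = 1 := by
      rw [← map_pow, show (⟨z, hzN⟩ : Subgroup.normalizer (PA : Set (Coll P L))) ^ p = 1 from
        Subtype.ext (by rw [SubgroupClass.coe_pow, ← hzo, pow_orderOf_eq_one]; rfl), map_one]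
    have hmod := card_modEq_fixed hp hzp (offPts (FixL.mk l₀ hl₀)) fun x => by
      rw [mem_offPts, mem_offPts]
      exact not_congr (smul_mem_iff_of_fixed z (hQl z hzQ)).symm
    have hempty : (offPts (FixL.mk l₀ hl₀)).filter (fun x => res PA ⟨z, hzN⟩ • x = x) = ∅ :=
      Finset.filter_eq_empty_iff.2 fun x hx e => hzmove x.1 ((mem_offPts (P := FixP PA) (L := FixL PA)).1 hx) (congrArg Subtype.val e)
    rw [hempty, Finset.card_empty, card_offPts, hk'] at hmod
    exact (Nat.prime_dvd_prime_iff_eq hp hq).1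
      (hp.dvd_of_dvd_pow (hp.dvd_of_dvd_pow (Nat.modEq_zero_iff_dvd.1 hmod.symm)))
  subst hpq
  obtain ⟨m, hm, i, hi⟩ := exists_pPart (res PA) (p := p) (g := h) (i := 1)
    (by rw [pow_one, ← hho, pow_orderOf_eq_one])
  rw [← hm] at hfa hfm
  have hmG : ((h ^ m : Subgroup.normalizer (PA : Set (Coll P L))) : Coll P L) ∈ G := by
    rw [SubgroupClass.coe_pow]; exact G.pow_mem hh m
  set W := PA ⊔ Subgroup.zpowers ((h ^ m : Subgroup.normalizer (PA : Set (Coll P L))) : Coll P L)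
  have hle := hbound a'.1 m'.1 ham W (sup_le hPAG (Subgroup.zpowers_le.2 hmG))
    ((hQ.isPGroup.to_le inf_le_left).to_sup_of_normal_left'
      (isPGroup_zpowers (j := i) (by rw [← SubgroupClass.coe_pow, hi]; rfl))
      (Subgroup.zpowers_le.2 (h ^ m).2))
    (fixed_sup_zpowers a'.2 (congrArg Subtype.val hfa))
    (fixed_sup_zpowers_line m'.2 (congrArg Subtype.val hfm))
  have hWP : PA = W := Subgroup.eq_of_le_of_card_ge le_sup_left hle
  have := res_eq_one_of_mem (h := h ^ m)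
    (hWP.ge ((le_sup_right : Subgroup.zpowers _ ≤ W) (Subgroup.mem_zpowers _)))
  rw [this] at hm
  rw [← hm, orderOf_one] at hho
  exact hp.one_lt.ne hho

/-- A 2-transitive collineation group contains a central collineation. -/
theorem TwoTrans.exists_axis (h2 : TwoTrans G) : ∃ g ∈ G, g ≠ 1 ∧ ∃ l : L, Axis g l :=
  exists_axis_aux _ rfl h2

end Cfsg.Agent.OstromPlane
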