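import Cfsg.Agent.Lib.OstromWagner.Twisted

/-!
Additive sets of endomorphisms containing `1` and closed under inversion of non-zero members
(the coordinatising sets of planes with all shears): basic closure properties, and the twisted parts
relative to a subfield contained in the set.
-/

set_option autoImplicit false

namespace Cfsg.Agent.OstromWagner

variable {W : Type*} [AddCommGroup W]

/-- An additive group of endomorphisms containing `1` in which every non-zero member is a unit with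
inverse again in the set. -/
structure InvSet (S : AddSubgroup (AddMonoid.End W)) : Prop where
  one_mem : (1 : AddMonoid.End W) ∈ S
  inv_mem : ∀ a ∈ S, a ≠ 0 → ∃ b ∈ S, a * b = 1 ∧ b * a = 1

variable {S : AddSubgroup (AddMonoid.End W)}

instance nontrivial_end [Nontrivial W] : Nontrivial (AddMonoid.End W) := by
  obtain ⟨v, hv⟩ := exists_ne (0 : W)
  exact ⟨1, 0, fun h => hv (DFunLike.congr_fun h v)⟩

theorem InvSet.eq_zero_of_apply (hS : InvSet S) {a : AddMonoid.End W} (ha : a ∈ S) {v : W} (hv : v ≠ 0)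
    (h : a v = 0) : a = 0 := by
  by_contra h0
  obtain ⟨b, -, -, hba⟩ := hS.inv_mem a ha h0
  apply hv
  have := DFunLike.congr_fun hba v
  rw [end_mul_apply, h, map_zero] at this
  exact this.symm

/-- Hua's identity. -/
theorem InvSet.sandwich (hS : InvSet S) {a b : AddMonoid.End W} (ha : a ∈ S) (hb : b ∈ S) :
    a * b * a ∈ S := by
  rcases eq_or_ne a 0 with rfl | ha0
  · simp [S.zero_mem]
  rcases eq_or_ne b 0 with rfl | hb0
  · simp [S.zero_mem]
  obtain ⟨a', ha', haa', ha'a⟩ := hS.inv_mem a ha ha0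
  obtain ⟨b', hb', hbb', hb'b⟩ := hS.inv_mem b hb hb0
  rcases eq_or_ne (b' - a) 0 with hu | hu
  · rw [sub_eq_zero] at hu
    subst hu
    rwa [hb'b, one_mul]
  obtain ⟨v, hv, huv, hvu⟩ := hS.inv_mem _ (S.sub_mem hb' ha) hu
  have h1 : v * (1 - a * b) = b := by
    have : (1 - a * b) = (b' - a) * b := by rw [sub_mul, hb'b]
    rw [this, ← mul_assoc, hvu, one_mul]
  have hid : (a' + v) * (a - a * b * a) = 1 := by
    have h2 : v * (a - a * b * a) = b * a := by
      rw [show a - a * b * a = (1 - a * b) * a by rw [sub_mul, one_mul], ← mul_assoc, h1]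
    have h3 : a' * (a - a * b * a) = 1 - b * a := by
      rw [mul_sub, ha'a, ← mul_assoc, ← mul_assoc, ha'a, one_mul]
    rw [add_mul, h2, h3, sub_add_cancel]
  rcases eq_or_ne (a' + v) 0 with h0 | h0
  · rw [h0, zero_mul] at hid
    have hz : ∀ x : AddMonoid.End W, x = 0 := fun x => by rw [← one_mul x, ← hid, zero_mul]
    rw [hz (a * b * a)]
    exact S.zero_mem
  obtain ⟨w, hw, -, hwi⟩ := hS.inv_mem _ (S.add_mem ha' hv) h0
  have : w = a - a * b * a := by
    calc w = w * ((a' + v) * (a - a * b * a)) := by rw [hid, mul_one]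
      _ = a - a * b * a := by rw [← mul_assoc, hwi, one_mul]
  rw [this] at hw
  simpa using S.sub_mem ha hw

theorem InvSet.sandwich_sum (hS : InvSet S) {a b c : AddMonoid.End W} (ha : a ∈ S) (hb : b ∈ S)
    (hc : c ∈ S) : a * b * c + c * b * a ∈ S := by
  have h : a * b * c + c * b * a = (a + c) * b * (a + c) - a * b * a - c * b * c := by noncomm_ring
  rw [h]
  exact S.sub_mem (S.sub_mem (hS.sandwich (S.add_mem ha hc) hb) (hS.sandwich ha hb)) (hS.sandwich hc hb)

theorem InvSet.pow_mem (hS : InvSet S) {a : AddMonoid.End W} (ha : a ∈ S) : ∀ n, a ^ n ∈ S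
  | 0 => by simpa using hS.one_mem
  | 1 => by simpa using ha
  | n + 2 => by
    rw [show a ^ (n + 2) = a * a ^ n * a by rw [mul_assoc, ← pow_succ, ← pow_succ']]
    exact hS.sandwich ha (hS.pow_mem ha n)

/-- A field contained in an `InvSet`, maximal among such. -/
structure MaxField (S : AddSubgroup (AddMonoid.End W)) {K : Type*} [Field K]
    (ι : K →+* AddMonoid.End W) : Prop where
  inv : InvSet S
  mem : ∀ k, ι k ∈ S
  max : ∀ N ∈ S, (∀ k, ι k * N = N * ι k) → ∃ k, ι k = N

variable {K : Type*} [Field K] [Finite K] {ι : K →+* AddMonoid.End W}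

omit [Finite K] in
theorem MaxField.psi (h : MaxField S ι) {N : AddMonoid.End W} (hN : N ∈ S) (k l : K) :
    ι k * N * ι l + ι l * N * ι k ∈ S :=
  h.inv.sandwich_sum (h.mem k) hN (h.mem l)

theorem MaxField.proj_add_mem (h : MaxField S ι) {N : AddMonoid.End W} (hN : N ∈ S) (σ : RingAut K) :
    proj ι σ N + proj ι σ⁻¹ N ∈ S := by
  classical
  have : Fintype Kˣ := Fintype.ofFinite _
  let e : Kˣ ≃ Kˣ := (Equiv.inv Kˣ).trans (Units.mapEquiv σ.toMulEquiv).toEquiv
  rw [proj_def, proj_def, ← e.sum_comp (fun k : Kˣ => ι k * N * ι (σ⁻¹ (k : K))⁻¹), ← neg_add,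
    ← Finset.sum_add_distrib]
  refine S.neg_mem (sum_mem fun k _ => ?_)
  have h1 : ((e k : Kˣ) : K) = (σ (k : K))⁻¹ := by simp [e]
  have h2 : (σ⁻¹ (σ (k : K))⁻¹)⁻¹ = (k : K) := by
    rw [map_inv₀, inv_inv]
    exact σ.symm_apply_apply _
  rw [h1, h2]
  exact h.psi hN _ _

theorem MaxField.proj_mem (h : MaxField S ι) {N : AddMonoid.End W} (hN : N ∈ S) {σ : RingAut K}
    (hσ : σ * σ = 1) : proj ι σ N ∈ S := by
  classical
  have : Fintype Kˣ := Fintype.ofFinite _
  have hσσ : ∀ x, σ (σ x) = x := fun x => by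
    show (σ * σ) x = x
    rw [hσ]
    rfl
  rw [proj_def]
  refine S.neg_mem ?_
  rw [← QuotientAddGroup.eq_zero_iff, ← QuotientAddGroup.mk'_apply, map_sum]
  let g : Kˣ → Kˣ := fun k => (Units.map (σ : K →* K) k)⁻¹
  have hg : ∀ k : Kˣ, ((g k : Kˣ) : K) = (σ (k : K))⁻¹ := fun k => by simp [g]
  have hgg : ∀ k, g (g k) = k := fun k => Units.ext (by rw [hg, hg, map_inv₀, inv_inv, hσσ])
  refine Finset.sum_involution (fun k _ => g k) (fun k _ => ?_) (fun k _ hk hfix => hk ?_)
    (fun k _ => Finset.mem_univ _) (fun k _ => hgg k)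
  · rw [← map_add, QuotientAddGroup.mk'_apply, QuotientAddGroup.eq_zero_iff, hg, map_inv₀ σ, inv_inv, hσσ]
    exact h.psi hN _ _
  · rw [QuotientAddGroup.mk'_apply, QuotientAddGroup.eq_zero_iff]
    have e1 : (σ (k : K))⁻¹ = k := by rw [← hg, hfix]
    rw [e1]
    exact h.inv.sandwich (h.mem _) hN

theorem MaxField.proj_one_mem_range (h : MaxField S ι) {N : AddMonoid.End W} (hN : N ∈ S) :
    ∃ k, ι k = proj ι 1 N :=
  h.max _ (h.proj_mem hN (mul_one 1)) fun k => tw_proj 1 N k

omit [Finite K] in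
theorem Tw.eq_zero_of_scalar [Nontrivial W] {σ : RingAut K} {a : K} (hA : Tw ι σ (ι a)) (hσ : σ ≠ 1) :
    a = 0 := by
  by_contra ha
  refine hσ (RingEquiv.ext fun k => ι.injective ?_)
  have h1 : ι k = ι (σ k) := by
    have h2 := congrArg (ι a⁻¹ * ·) (hA k)
    simp only [← map_mul] at h2
    rwa [show a⁻¹ * (k * a) = k by field_simp, show a⁻¹ * (a * σ k) = σ k by field_simp] at h2
  exact h1.symm

/-- No member of the set is semilinear for an involutory automorphism. -/
theorem MaxField.eq_zero_of_tw [Nontrivial W] (h : MaxField S ι) {σ : RingAut K} (hσ : σ * σ = 1)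
    (hσ1 : σ ≠ 1) {A : AddMonoid.End W} (hA : A ∈ S) (hT : Tw ι σ A) : A = 0 := by
  by_contra hA0
  have hσσ : ∀ x, σ (σ x) = x := fun x => by
    show (σ * σ) x = x
    rw [hσ]
    rfl
  obtain ⟨c, hc⟩ := h.max (A * A) (by simpa [sq] using h.inv.pow_mem hA 2) fun k => by
    rw [← mul_assoc, hT, mul_assoc, hT, ← mul_assoc, hσσ]
  have hfix : σ c = c := by
    have h1 : A * ι (σ c) = A * ι c := by
      rw [← hT, hc, mul_assoc]
    obtain ⟨A', -, -, hA'A⟩ := h.inv.inv_mem A hA hA0
    apply ι.injective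
    have h2 := congrArg (A' * ·) h1
    simpa only [← mul_assoc, hA'A, one_mul] using h2
  have hord : orderOf σ = 2 := orderOf_eq_prime (by rw [sq, hσ]) hσ1
  obtain ⟨b, hb⟩ := norm_surjective_aut σ hfix
  rw [hord, Finset.prod_range_succ, Finset.prod_range_one, pow_zero, pow_one] at hb
  have hb' : b * σ b = c := hb
  have hid : (A - ι b) * (A + ι (σ b)) = 0 := by
    rw [sub_mul, mul_add, mul_add, ← hc, hT b, ← map_mul, hb']
    abel
  have hne : A - ι b ≠ 0 := fun e => by
    rw [sub_eq_zero] at e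
    subst e
    exact hA0 (by rw [hT.eq_zero_of_scalar hσ1, map_zero])
  obtain ⟨M, -, -, hM⟩ := h.inv.inv_mem _ (S.sub_mem hA (h.mem b)) hne
  have h3 := congrArg (M * ·) hid
  simp only [← mul_assoc, hM, one_mul, mul_zero] at h3
  have h4 : A = ι (-σ b) := by rw [map_neg]; exact eq_neg_of_add_eq_zero_left h3
  rw [h4] at hT
  exact hA0 (by rw [h4, hT.eq_zero_of_scalar hσ1, map_zero])

/-- A subring of a finite field containing all `k + σ k` and `k * σ k` is everything, unless `σ` is an
involution. -/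
theorem subring_eq_top {σ : RingAut K} (hσ : σ * σ ≠ 1) (Q : Subring K)
    (hs : ∀ k, k + σ k ∈ Q) (hp : ∀ k, k * σ k ∈ Q) (x : K) : x ∈ Q := by
  classical
  have hinv : ∀ y ∈ Q, y⁻¹ ∈ Q := fun y hy => by
    rcases eq_or_ne y 0 with rfl | hy0
    · simp [Q.zero_mem]
    have : Fintype K := Fintype.ofFinite K
    have h1 : y ^ (Fintype.card K - 2) * y = 1 := by
      rw [← pow_succ, show Fintype.card K - 2 + 1 = Fintype.card K - 1 by
        have := Fintype.one_lt_card (α := K); omega]
      exact FiniteField.pow_card_sub_one_eq_one y hy0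
    rw [← eq_inv_of_mul_eq_one_left h1]
    exact Q.pow_mem hy _
  have key : ∀ k, k ∉ Q → σ (σ k) = k := by
    intro k hk
    have hk' : σ k ∉ Q := fun h' => hk (by simpa using Q.sub_mem (hs k) h')
    by_contra hne
    apply hk'
    have e : σ k = (k * σ k - σ k * σ (σ k)) * (k + σ k - (σ k + σ (σ k)))⁻¹ := by
      have hne' : k + σ k - (σ k + σ (σ k)) ≠ 0 := by
        rw [show k + σ k - (σ k + σ (σ k)) = k - σ (σ k) by ring, sub_ne_zero]
        exact Ne.symm hne
      field_simp
      ring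
    rw [e]
    exact Q.mul_mem (Q.sub_mem (hp _) (hp _)) (hinv _ (Q.sub_mem (hs _) (hs _)))
  by_contra hx
  refine hσ (RingEquiv.ext fun k => ?_)
  show σ (σ k) = k
  by_cases hk : k ∈ Q
  · have h1 := key (k + x) fun h' => hx (by simpa using Q.sub_mem h' hk)
    rw [map_add, map_add, key x hx] at h1
    exact add_right_cancel h1
  · exact key k hk

end Cfsg.Agent.OstromWagner
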