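import Cfsg.Agent.Lib.OstromWagner.Pair

/-!
There is no pair element in an inverse-closed additive set: the order-th power of the semilinear part is
scalar or generates a quadratic extension, and in each case a short invariant space appears.
-/

set_option autoImplicit false

namespace Cfsg.Agent.OstromWagner

variable {W : Type*} [AddCommGroup W] {S : AddSubgroup (AddMonoid.End W)}
variable {K : Type*} [Field K] [Finite K] {ι : K →+* AddMonoid.End W}

namespace Pair

variable {σ : RingAut K} {A B : AddMonoid.End W}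

omit [Finite K] in
theorem apply_eq_zero {a : K} {y : W} (hy : y ≠ 0) (h : ι a y = 0) : a = 0 := by
  by_contra ha
  apply hy
  have e : ι a⁻¹ (ι a y) = y := by
    rw [← end_mul_apply, ← map_mul, inv_mul_cancel₀ ha, map_one]
    rfl
  rw [← e, h, map_zero]

theorem mem_ne_zero (h : Pair S ι σ A B) : A + B ≠ 0 := by
  classical
  intro e
  have h1 := congrArg (proj ι σ) e
  rw [map_add, map_zero, proj_of_tw h.twA, proj_of_tw h.twB, if_pos rfl,
    if_neg fun e' => h.sq_ne (by nth_rewrite 1 [← e']; exact inv_mul_cancel σ), add_zero] at h1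
  exact h.neA h1

theorem scalar_of_mem_range [Finite W] (h : Pair S ι σ A B) {c : K} (hc : ι c = A * B) (hc0 : c ≠ 0)
    (hAinj : Function.Injective A) (hmem : (A + B) * (A + B) ∈ Set.range (elem ι σ A B)) :
    ∃ a, A ^ orderOf σ = ι a := by
  classical
  obtain ⟨p, hp⟩ := hmem
  obtain ⟨c', d, hc', hd⟩ := h.scalars
  have e : (A + B) * (A + B) = A * A + ι c' + (ι d + B * B) := by
    rw [add_mul, mul_add, mul_add, hc', hd]
  have hproj : ∀ τ, proj ι τ (elem ι σ A B p) =
      (if σ * σ = τ then A * A else 0) + (if 1 = τ then ι c' else 0) +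
        ((if 1 = τ then ι d else 0) + if σ⁻¹ * σ⁻¹ = τ then B * B else 0) := fun τ => by
    rw [hp, e, map_add, map_add, map_add, proj_of_tw (h.twA.mul h.twA), proj_of_tw (Tw.scalar c'),
      proj_of_tw (Tw.scalar d), proj_of_tw (h.twB.mul h.twB)]
  simp only [h.proj_elem] at hproj
  obtain ⟨g2, hg2⟩ := h.prod_scalar 2
  have hAA : A * A ≠ 0 := fun e0 => h.neA (DFunLike.ext _ _ fun y => hAinj (by
    have := DFunLike.congr_fun e0 y
    simpa using this))
  have hne1 : (1 : RingAut K) ≠ σ := Ne.symm h.ne_one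
  have hne2 : σ⁻¹ ≠ σ := fun e' => h.sq_ne (by nth_rewrite 1 [← e']; exact inv_mul_cancel σ)
  rcases eq_or_ne (σ ^ 3) 1 with h3 | h3
  · have hor : orderOf σ = 3 := orderOf_eq_prime h3 h.ne_one
    have e1 : σ * σ = σ⁻¹ := eq_inv_of_mul_eq_one_left (by rw [← h3, pow_succ, sq])
    have e2 : σ⁻¹ * σ⁻¹ = σ := by rw [← mul_inv_rev, e1, inv_inv]
    have hB2 := hproj σ
    rw [if_neg hne1, if_pos rfl, if_neg hne2, if_neg (by rw [e1]; exact hne2), if_neg hne1, if_neg hne1,
      if_pos e2] at hB2
    simp only [zero_add, add_zero] at hB2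
    have hx : p.2 ≠ 0 := by
      intro hx
      rw [hx, map_zero, mul_zero] at hB2
      have h6 : ι (c * σ⁻¹ c) = 0 := by
        rw [map_mul]
        calc ι c * ι (σ⁻¹ c) = A * (B * ι (σ⁻¹ c)) := by rw [← mul_assoc, ← hc]
          _ = A * (ι c * B) := by rw [h.twB]
          _ = A * A * (B * B) := by rw [hc]; simp only [mul_assoc]
          _ = 0 := by rw [← hB2, mul_zero]
      rcases subsingleton_or_nontrivial W with hW | hW
      · exact h.neA (DFunLike.ext _ _ fun y => Subsingleton.elim _ _)
      · exact mul_ne_zero hc0 (by simpa using hc0) (ι.injective (h6.trans (map_zero ι).symm))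
    refine ⟨g2 * p.2⁻¹, ?_⟩
    rw [hor, map_mul, hg2, sq B, ← hB2, ← mul_assoc, ← pow_succ, mul_assoc, ← map_mul,
      mul_inv_cancel₀ hx, map_one, mul_one]
  · have n1 : σ ≠ σ * σ := fun e' => h.ne_one (mul_eq_left.1 e'.symm)
    have n2 : σ⁻¹ ≠ σ * σ := fun e' => h3 (by
      rw [pow_succ, sq, ← e', inv_mul_cancel])
    have h2 := hproj (σ * σ)
    rw [if_neg (Ne.symm h.sq_ne), if_neg n1, if_neg n2, if_pos rfl, if_neg (Ne.symm h.sq_ne),
      if_neg (Ne.symm h.sq_ne)] at h2
    simp only [zero_add, add_zero] at h2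
    by_cases h4 : σ⁻¹ * σ⁻¹ = σ * σ
    · rw [if_pos h4] at h2
      have hs4 : σ ^ 4 = 1 := by
        rw [show 4 = 2 + 2 from rfl, pow_add, sq]
        nth_rewrite 1 [← h4]
        group
      have hor : orderOf σ = 4 := by
        refine orderOf_eq_prime_pow (p := 2) (n := 1) ?_ hs4
        rw [pow_one, sq]
        exact h.sq_ne
      refine ⟨-g2, ?_⟩
      have hB : B * B = -(A * A) := eq_neg_of_add_eq_zero_right h2.symm
      rw [hor, map_neg, hg2, sq B, hB, mul_neg, neg_neg]
      simp [pow_succ, mul_assoc]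
    · rw [if_neg h4, add_zero] at h2
      exact absurd h2.symm hAA

theorem false [Nontrivial W] [Finite W] (h : Pair S ι σ A B) : False := by
  classical
  obtain ⟨c, d, hc, hd⟩ := h.scalars
  obtain ⟨z, g, -, hg, hquad⟩ := h.quadratic
  set r := orderOf σ with hr
  obtain ⟨r', hr'⟩ : ∃ r', r = r' + 1 := ⟨r - 1, by have := orderOf_pos σ; omega⟩
  have hσr : σ ^ r = 1 := pow_orderOf_eq_one σ
  have hZι : ∀ a, ι a * A ^ r = A ^ r * ι a := fun a => by
    rw [h.twA.pow r a, hσr]
    rfl
  have hq : ∀ y, (A ^ r) ((A ^ r) y) = ι z ((A ^ r) y) - ι g y := fun y => by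
    have := DFunLike.congr_fun (show A ^ r * A ^ r = ι z * A ^ r - ι g by
      rw [eq_sub_iff_add_eq, ← sub_eq_zero, ← hquad]; abel) y
    exact this
  have hcomm : ∀ y, (A ^ r) (A y) = A ((A ^ r) y) := fun y =>
    DFunLike.congr_fun ((Commute.self_pow A r).eq.symm) y
  have hrange : ∀ v : W, ∃ W' : AddSubgroup W, v ∈ W' ∧ Nat.card W' ≤ Nat.card K ∧
      (∀ k, ∀ y ∈ W', ι k y ∈ W') ∧ ∀ y ∈ W', ∃ k, y = ι k v := by
    intro v
    let φ : K →+ W := AddMonoidHom.mk' (fun k => ι k v) fun a b => by rw [map_add]; rfl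
    refine ⟨φ.range, ⟨1, by simp [φ]⟩, Nat.card_le_card_of_surjective φ.rangeRestrict φ.rangeRestrict_surjective,
      ?_, fun y hy => ?_⟩
    · rintro k _ ⟨l, rfl⟩
      exact ⟨k * l, by simp [φ, map_mul]⟩
    · obtain ⟨k, rfl⟩ := hy
      exact ⟨k, rfl⟩
  rcases eq_or_ne c 0 with rfl | hc0
  · rw [map_zero] at hc
    have hd0 : d = 0 := by
      by_contra hd0
      apply h.neA
      have e : A * ι d = 0 := by rw [hd, ← mul_assoc, ← hc, zero_mul]
      have := congrArg (· * ι d⁻¹) e
      simpa [mul_assoc, ← map_mul, hd0] using this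
    rw [hd0, map_zero] at hd
    obtain ⟨u, hu⟩ : ∃ u, A u ≠ 0 := by
      by_contra! h'
      exact h.neA (DFunLike.ext _ _ h')
    let W₀ : AddSubgroup W := AddMonoidHom.ker (B : W →+ W)
    have hW₀ : ∀ y, y ∈ W₀ ↔ B y = 0 := fun y => Iff.rfl
    have hA0 : ∀ y, A y ∈ W₀ := fun y => (hW₀ _).2 (DFunLike.congr_fun hd.symm y)
    have hAne : ∀ y ∈ W₀, y ≠ 0 → A y ≠ 0 := fun y hy hy0 e => h.mem_ne_zero
      (h.maxField.inv.eq_zero_of_apply h.mem hy0 (show A y + B y = 0 by rw [e, (hW₀ y).1 hy, add_zero]))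
    have hApow : ∀ y ∈ W₀, y ≠ 0 → ∀ i, (A ^ i) y ∈ W₀ ∧ (A ^ i) y ≠ 0 := by
      intro y hy hy0 i
      induction i with
      | zero => exact ⟨hy, hy0⟩
      | succ i ih => rw [pow_succ']; exact ⟨hA0 _, hAne _ ih.1 ih.2⟩
    have hgy : ∀ y ∈ W₀, ι g y = 0 := fun y hy => by
      have hg' : ι g = A ^ r * B ^ r := hg.symm
      rw [hg', hr', pow_succ B, ← mul_assoc, end_mul_apply, (hW₀ y).1 hy, map_zero]
    have hq0 : ∀ y ∈ W₀, (A ^ r) ((A ^ r) y) = ι z ((A ^ r) y) := fun y hy => by
      rw [hq, hgy y hy, sub_zero]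
    set x := A u with hx
    obtain ⟨hw, hw0⟩ := hApow x (hA0 u) hu r
    have hzw := hq0 x (hA0 u)
    have hz0 : z ≠ 0 := fun e => (hApow _ hw hw0 r).2 (by rw [hzw, e, map_zero]; rfl)
    have hfix : σ z = z := by
      have h1 := hq0 (A x) (hA0 x)
      rw [hcomm x, hcomm, hzw, h.twA.apply] at h1
      have h2 : σ.symm z - z = 0 := apply_eq_zero (ι := ι) (hAne _ hw hw0) (by
        rw [map_sub]; exact sub_eq_zero.2 h1)
      rw [sub_eq_zero] at h2
      nth_rewrite 1 [← h2]
      exact σ.apply_symm_apply z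
    obtain ⟨v, hv, hv0, a, ha⟩ := exists_eigen h.twA (W₀ := W₀)
      (fun k y hy => (hW₀ _).2 (by rw [h.twB.apply, (hW₀ y).1 hy, map_zero]))
      (fun y _ => hA0 y) hw hw0 hz0 hfix hzw
    obtain ⟨W', hvW, hcard, hKW, hW'⟩ := hrange v
    refine (h.false_of_invariant hvW hv0 hKW (fun y hy => ?_) (fun y hy => ?_)).1 hcard
    · obtain ⟨k, rfl⟩ := hW' y hy
      rw [h.twA.apply, ha]
      exact hKW _ _ (hKW _ _ hvW)
    · obtain ⟨k, rfl⟩ := hW' y hy
      rw [h.twB.apply, (hW₀ v).1 hv, map_zero]
      exact zero_mem _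
  · have hAsurj : Function.Surjective A := fun y => by
      have e2 : A * (B * ι c⁻¹) = 1 := by
        rw [← mul_assoc, ← hc, ← map_mul, mul_inv_cancel₀ hc0, map_one]
      exact ⟨(B * ι c⁻¹) y, DFunLike.congr_fun e2 y⟩
    have hAinj : Function.Injective A := Finite.injective_iff_surjective.2 hAsurj
    have hApinj : ∀ i : ℕ, Function.Injective (A ^ i : AddMonoid.End W) := by
      intro i
      induction i with
      | zero => exact fun a b e => e
      | succ i ih => rw [pow_succ]; exact ih.comp hAinj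
    have hBstab : ∀ W' : AddSubgroup W, (∀ k, ∀ y ∈ W', ι k y ∈ W') → (∀ y ∈ W', A y ∈ W') →
        ∀ y ∈ W', B y ∈ W' := by
      intro W' hk hA y hy
      let f : W' → W' := fun y => ⟨A y, hA _ y.2⟩
      obtain ⟨y', hy'⟩ := Finite.surjective_of_injective (f := f)
        (fun a b e => Subtype.ext (hAinj (congrArg Subtype.val e))) ⟨y, hy⟩
      rw [← show A (y' : W) = y from congrArg Subtype.val hy', ← end_mul_apply, ← hd]
      exact hk _ _ y'.2
    have hscalar : (∀ a, A ^ r ≠ ι a) → (A + B) * (A + B) ∉ Set.range (elem ι σ A B) := fun hn hmem => by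
      obtain ⟨a, ha⟩ := h.scalar_of_mem_range hc hc0 hAinj hmem
      exact hn a ha
    have heigroot : ∀ y : W, y ≠ 0 → ∀ m, (A ^ r) y = ι m y → m * m - z * m + g = 0 := by
      intro y hy m hm
      refine apply_eq_zero (ι := ι) hy ?_
      have h1 := hq y
      have e : ∀ a b : K, ι a (ι b y) = ι (a * b) y := fun a b => by rw [map_mul]; rfl
      have hcm : (A ^ r) (ι m y) = ι m ((A ^ r) y) := DFunLike.congr_fun (hZι m).symm y
      rw [hm, hcm, hm, e, e] at h1
      rw [map_add, map_sub]
      show ι (m * m) y - ι (z * m) y + ι g y = 0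
      rw [h1]
      abel
    by_cases hroot : ∃ μ, μ * μ - z * μ + g = 0
    · obtain ⟨μ, hμ⟩ := hroot
      obtain ⟨y, hy, m, hm⟩ : ∃ y : W, y ≠ 0 ∧ ∃ m, (A ^ r) y = ι m y := by
        obtain ⟨u, hu⟩ := exists_ne (0 : W)
        rcases eq_or_ne ((A ^ r) u - ι (z - μ) u) 0 with e | e
        · exact ⟨u, hu, _, sub_eq_zero.1 e⟩
        · refine ⟨_, e, μ, ?_⟩
          have hgm : g = μ * (z - μ) := by linear_combination hμ
          have h1 : (A ^ r - ι μ) * (A ^ r - ι (z - μ)) = 0 := by
            rw [sub_mul, mul_sub, mul_sub, ← hZι, ← map_mul, ← hgm, ← hquad, map_sub, sub_mul]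
            abel
          have h2 := DFunLike.congr_fun h1 u
          exact sub_eq_zero.1 h2
      have hm0 : m ≠ 0 := by
        rintro rfl
        rw [map_zero] at hm
        exact hy (hApinj r (hm.trans (map_zero _).symm))
      have hAy : (A ^ r) (A y) = ι (σ.symm m) (A y) := by rw [hcomm, hm, h.twA.apply]
      by_cases hfix : σ m = m
      · obtain ⟨v, -, hv0, a, ha⟩ := exists_eigen h.twA (W₀ := ⊤) (fun _ _ _ => trivial)
          (fun _ _ => trivial) (AddSubgroup.mem_top y) hy hm0 hfix hm
        obtain ⟨W', hvW, hcard, hKW, hW'⟩ := hrange v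
        have hAW : ∀ y ∈ W', A y ∈ W' := fun y hy => by
          obtain ⟨k, rfl⟩ := hW' y hy
          rw [h.twA.apply, ha]
          exact hKW _ _ (hKW _ _ hvW)
        exact (h.false_of_invariant hvW hv0 hKW hAW (hBstab W' hKW hAW)).1 hcard
      · have hAy0 : A y ≠ 0 := fun e => hy (hAinj (e.trans (map_zero _).symm))
        have hAAy0 : A (A y) ≠ 0 := fun e => hAy0 (hAinj (e.trans (map_zero _).symm))
        have hAAy : (A ^ r) (A (A y)) = ι (σ.symm (σ.symm m)) (A (A y)) := by
          rw [hcomm, hAy, h.twA.apply]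
        have r0 := heigroot y hy m hm
        have r1 := heigroot _ hAy0 _ hAy
        have r2 := heigroot _ hAAy0 _ hAAy
        have hne : σ.symm m ≠ m := fun e => hfix (by
          nth_rewrite 1 [← e]
          exact σ.apply_symm_apply m)
        have hne' : σ.symm (σ.symm m) ≠ σ.symm m := fun e => hne (σ.symm.injective e)
        have s1 : (σ.symm m - m) * (σ.symm m + m - z) = 0 := by linear_combination r1 - r0
        have s2 : (σ.symm (σ.symm m) - σ.symm m) * (σ.symm (σ.symm m) + σ.symm m - z) = 0 := by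
          linear_combination r2 - r1
        have t1 := (mul_eq_zero.1 s1).resolve_left (sub_ne_zero.2 hne)
        have t2 := (mul_eq_zero.1 s2).resolve_left (sub_ne_zero.2 hne')
        have hm2 : σ.symm (σ.symm m) = m := by linear_combination t2 - t1
        have hσσ : (σ * σ) m = m := by
          show σ (σ m) = m
          nth_rewrite 1 [← hm2]
          rw [σ.apply_symm_apply, σ.apply_symm_apply]
        have heven : Even r := by
          by_contra ho
          obtain ⟨k, hk⟩ := Nat.not_even_iff_odd.1 ho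
          apply hfix
          have hpowfix : ∀ n : ℕ, ((σ * σ) ^ n) m = m := fun n => by
            induction n with
            | zero => rfl
            | succ n ih =>
              rw [pow_succ]
              show ((σ * σ) ^ n) ((σ * σ) m) = m
              rw [hσσ, ih]
          have h1 : (σ ^ r) m = m := by rw [hσr]; rfl
          rw [hk, add_comm, pow_add, pow_one, pow_mul, sq] at h1
          change σ (((σ * σ) ^ k) m) = m at h1
          rwa [hpowfix] at h1
        obtain ⟨k, hk⟩ := heven
        have hord : orderOf (σ * σ) = k := by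
          rw [← sq, orderOf_pow' σ two_ne_zero, ← hr, hk, ← two_mul, Nat.gcd_comm, Nat.gcd_mul_right_right,
            Nat.mul_div_cancel_left k two_pos]
        obtain ⟨v, -, hv0, a, ha⟩ := exists_eigen (h.twA.mul h.twA) (W₀ := ⊤) (fun _ _ _ => trivial)
          (fun _ _ => trivial) (AddSubgroup.mem_top y) hy hm0 hσσ (by
            rw [hord, ← sq, ← pow_mul, two_mul, ← hk]
            exact hm)
        let φ : K × K →+ W := AddMonoidHom.mk' (fun p => ι p.1 v + ι p.2 (A v)) fun p q => by
          simp only [Prod.fst_add, Prod.snd_add, map_add]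
          show ι p.1 v + ι q.1 v + (ι p.2 (A v) + ι q.2 (A v)) = _
          abel
        have hcard : Nat.card φ.range ≤ Nat.card K * Nat.card K := by
          rw [← Nat.card_prod]
          exact Nat.card_le_card_of_surjective φ.rangeRestrict φ.rangeRestrict_surjective
        have hKW : ∀ k, ∀ y ∈ φ.range, ι k y ∈ φ.range := by
          rintro k _ ⟨p, rfl⟩
          exact ⟨(k * p.1, k * p.2), by simp [φ, map_mul]⟩
        have hAW : ∀ y ∈ φ.range, A y ∈ φ.range := by
          rintro _ ⟨p, rfl⟩
          refine ⟨(σ.symm p.2 * a, σ.symm p.1), ?_⟩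
          have e : A (A v) = ι a v := ha
          simp only [φ, AddMonoidHom.mk'_apply, map_add, map_mul, h.twA.apply, e]
          exact add_comm _ _
        refine hscalar (fun b hb => ?_) ((h.false_of_invariant (W' := φ.range)
          (show v ∈ φ.range from ⟨(1, 0), by simp [φ]⟩) hv0 hKW hAW (hBstab _ hKW hAW)).2 hcard)
        have e1 : b - m = 0 := apply_eq_zero (ι := ι) hy (by
          rw [map_sub]; exact sub_eq_zero.2 (by rw [← hb]; exact hm))
        have e2 : b - σ.symm m = 0 := apply_eq_zero (ι := ι) hAy0 (by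
          rw [map_sub]; exact sub_eq_zero.2 (by rw [← hb]; exact hAy))
        exact hne (by linear_combination e1 - e2)
    · have hns : ∀ a, A ^ r ≠ ι a := fun a ha => hroot ⟨a, by
        obtain ⟨y, hy⟩ := exists_ne (0 : W)
        exact heigroot y hy a (by rw [ha])⟩
      set Z := A ^ r with hZ
      let L : Subring (AddMonoid.End W) :=
        { carrier := Set.range fun p : K × K => ι p.1 + ι p.2 * Z
          mul_mem' := by
            rintro _ _ ⟨p, rfl⟩ ⟨q, rfl⟩
            refine ⟨(p.1 * q.1 - p.2 * q.2 * g, p.1 * q.2 + p.2 * q.1 + p.2 * q.2 * z), ?_⟩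
            have e1 : ∀ b x, Z * (ι b * x) = ι b * (Z * x) := fun b x => by
              rw [← mul_assoc, ← hZι, mul_assoc]
            have e2 : Z * Z = ι z * Z - ι g := by
              rw [eq_sub_iff_add_eq, ← sub_eq_zero, ← hquad]; abel
            simp only [map_add, map_sub, map_mul, add_mul, mul_add, mul_assoc, e1, e2, mul_sub,
              ← hZι]
            abel
          one_mem' := ⟨(1, 0), by simp⟩
          add_mem' := by
            rintro _ _ ⟨p, rfl⟩ ⟨q, rfl⟩
            exact ⟨p + q, by simp only [Prod.fst_add, Prod.snd_add, map_add, add_mul]; abel⟩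
          zero_mem' := ⟨(0, 0), by simp⟩
          neg_mem' := by
            rintro _ ⟨p, rfl⟩
            exact ⟨-p, by simp only [Prod.fst_neg, Prod.snd_neg, map_neg, neg_mul]; abel⟩ }
      have hmemι : ∀ a, ι a ∈ L := fun a => ⟨(a, 0), by simp⟩
      have hmemZ : Z ∈ L := ⟨(0, 1), by simp⟩
      have hLcomm : ∀ x y : L, x * y = y * x := by
        rintro ⟨_, p, rfl⟩ ⟨_, q, rfl⟩
        refine Subtype.ext ?_
        have e1 : ∀ b x, Z * (ι b * x) = ι b * (Z * x) := fun b x => by
          rw [← mul_assoc, ← hZι, mul_assoc]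
        show (ι p.1 + ι p.2 * Z) * (ι q.1 + ι q.2 * Z) = (ι q.1 + ι q.2 * Z) * (ι p.1 + ι p.2 * Z)
        simp only [add_mul, mul_add, mul_assoc, e1, ← hZι]
        simp only [← mul_assoc, ← map_mul, mul_comm p.1, mul_comm p.2]
        abel
      let _ : CommRing L := { L.toRing with mul_comm := hLcomm }
      have : Finite L := Finite.of_surjective
        (fun p : K × K => (⟨_, p, rfl⟩ : L)) (fun ⟨x, p, hp⟩ => ⟨p, Subtype.ext hp⟩)
      have hnorm : ∀ x : L, x ≠ 0 → ∃ y : L, ∃ n : K, n ≠ 0 ∧ (y : AddMonoid.End W) * x = ι n := by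
        rintro ⟨_, ⟨a, b⟩, rfl⟩ hx
        refine ⟨⟨_, ⟨(a + b * z, -b), rfl⟩⟩, a * a + a * b * z + b * b * g, ?_, ?_⟩
        · rcases eq_or_ne b 0 with rfl | hb
          · have ha : a ≠ 0 := fun e => hx (Subtype.ext (by simp [e]))
            simp [ha]
          · intro e
            refine hroot ⟨-a / b, ?_⟩
            field_simp
            linear_combination e
        · have e1 : ∀ b x, Z * (ι b * x) = ι b * (Z * x) := fun b x => by
            rw [← mul_assoc, ← hZι, mul_assoc]
          have e2 : Z * Z = ι z * Z - ι g := by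
            rw [eq_sub_iff_add_eq, ← sub_eq_zero, ← hquad]; abel
          show (ι (a + b * z) + ι (-b) * Z) * (ι a + ι b * Z) = _
          simp only [map_add, map_neg, map_mul, add_mul, mul_add, neg_mul, mul_assoc, e1, e2,
            mul_sub, ← hZι]
          simp only [← mul_assoc, ← map_mul, mul_comm b a, mul_comm z b]
          rw [show b * b * z = b * z * b by ring, show b * z * a = a * b * z by ring]
          abel
      have : IsDomain L := by
        have : NoZeroDivisors L := ⟨fun {x y} hxy => by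
          by_contra! hne
          obtain ⟨x', n, hn, hx'⟩ := hnorm x hne.1
          apply hne.2
          refine Subtype.ext ?_
          have e1 : ι n * (y : AddMonoid.End W) = 0 := by
            rw [← hx', mul_assoc, ← Subring.coe_mul, hxy, ZeroMemClass.coe_zero, mul_zero]
          have := congrArg (ι n⁻¹ * ·) e1
          simpa [← mul_assoc, ← map_mul, hn] using this⟩
        exact NoZeroDivisors.to_isDomain L
      let _ : Fintype L := Fintype.ofFinite L
      let _ : Field L := Fintype.fieldOfDomain L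
      have hAunit : IsUnit A := by
        let e := AddEquiv.ofBijective (A : W →+ W) ⟨hAinj, hAsurj⟩
        exact ⟨⟨A, (e.symm : W →+ W), DFunLike.ext _ _ e.apply_symm_apply,
          DFunLike.ext _ _ e.symm_apply_apply⟩, rfl⟩
      obtain ⟨U, hU⟩ := hAunit
      have hconj : ∀ a, (↑U⁻¹ : AddMonoid.End W) * ι a * U = ι (σ a) := fun a => by
        rw [mul_assoc, hU, h.twA a, ← hU, ← mul_assoc, Units.inv_mul, one_mul]
      have hconjZ : (↑U⁻¹ : AddMonoid.End W) * Z * U = Z := by
        rw [mul_assoc, hU, hZ, (Commute.pow_self A r).eq, ← hU, ← mul_assoc, Units.inv_mul, one_mul]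
      have hclosed : ∀ x : L, (↑U⁻¹ : AddMonoid.End W) * x * U ∈ L := by
        rintro ⟨_, p, rfl⟩
        refine ⟨(σ p.1, σ p.2), ?_⟩
        show ι (σ p.1) + ι (σ p.2) * Z = (↑U⁻¹ : AddMonoid.End W) * (ι p.1 + ι p.2 * Z) * U
        rw [← hconj, ← hconj, mul_add, add_mul]
        nth_rewrite 1 [← hconjZ]
        simp only [mul_assoc, Units.mul_inv_cancel_left]
      let f : L →+* L :=
        { toFun := fun x => ⟨_, hclosed x⟩
          map_one' := Subtype.ext (by simp)
          map_mul' := fun x y => Subtype.ext (by simp [mul_assoc])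
          map_zero' := Subtype.ext (by simp)
          map_add' := fun x y => Subtype.ext (by simp [mul_add, add_mul]) }
      let ρ : RingAut L := RingEquiv.ofBijective f ⟨f.injective, Finite.surjective_of_injective f.injective⟩
      have hρ : ∀ x : L, ((ρ x : L) : AddMonoid.End W) = ↑U⁻¹ * x * U := fun x => rfl
      have hρpow : ∀ (i : ℕ) (x : L), (x : AddMonoid.End W) * A ^ i = A ^ i * ((ρ ^ i) x : L) := by
        intro i
        induction i with
        | zero => intro x; rw [pow_zero, pow_zero, mul_one, one_mul]; rfl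
        | succ i ih =>
          intro x
          rw [pow_succ A, ← mul_assoc, ih x, mul_assoc, pow_succ' ρ]
          show A ^ i * ((↑((ρ ^ i) x) : AddMonoid.End W) * A) = A ^ i * A * ↑(ρ ((ρ ^ i) x))
          rw [hρ, hU, mul_assoc (A ^ i) A, ← hU]
          simp only [mul_assoc, Units.mul_inv_cancel_left]
      have hord : orderOf ρ = r := by
        apply Nat.dvd_antisymm
        · refine orderOf_dvd_of_pow_eq_one (RingEquiv.ext fun x => Subtype.ext ?_)
          have e := hρpow r x
          obtain ⟨p, hp⟩ := x.2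
          have hxZ : (x : AddMonoid.End W) * Z = Z * x := by
            rw [← hp, mul_add, add_mul, ← hZι, mul_assoc, ← mul_assoc Z, ← hZι, mul_assoc]
          rw [← hZ, hxZ] at e
          exact DFunLike.ext _ _ fun w => (hApinj r (DFunLike.congr_fun e w)).symm
        · refine orderOf_dvd_of_pow_eq_one (RingEquiv.ext fun a => ι.injective ?_)
          have e := hρpow (orderOf ρ) ⟨ι a, hmemι a⟩
          rw [pow_orderOf_eq_one] at e
          show ι ((σ ^ orderOf ρ) a) = ι a
          have e' : A ^ orderOf ρ * ι ((σ ^ orderOf ρ) a) = A ^ orderOf ρ * ι a := by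
            rw [← h.twA.pow]
            exact e
          exact DFunLike.ext _ _ fun w => hApinj _ (DFunLike.congr_fun e' w)
      obtain ⟨w, hw⟩ := exists_ne (0 : W)
      have hT : Tw L.subtype ρ A := fun x => by
        show (x : AddMonoid.End W) * A = A * ↑(ρ x)
        rw [hρ, ← hU, ← mul_assoc, ← mul_assoc, Units.mul_inv, one_mul]
      have hZ0 : (⟨Z, hmemZ⟩ : L) ≠ 0 := fun e => hns 0 (by
        rw [map_zero]; exact congrArg Subtype.val e)
      obtain ⟨v, -, hv0, a, ha⟩ := exists_eigen hT (W₀ := ⊤) (fun _ _ _ => trivial)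
        (fun _ _ => trivial) (AddSubgroup.mem_top w) hw hZ0
        (Subtype.ext (by rw [hρ]; exact hconjZ)) (by rw [hord]; rfl)
      let φ : L →+ W := AddMonoidHom.mk' (fun x => (x : AddMonoid.End W) v) fun _ _ => rfl
      have hcard : Nat.card φ.range ≤ Nat.card K * Nat.card K := by
        rw [← Nat.card_prod]
        refine le_trans (Nat.card_le_card_of_surjective φ.rangeRestrict φ.rangeRestrict_surjective)
          (Nat.card_le_card_of_surjective (fun p : K × K => (⟨_, p, rfl⟩ : L))
            fun ⟨x, p, hp⟩ => ⟨p, Subtype.ext hp⟩)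
      have hKW : ∀ k, ∀ y ∈ φ.range, ι k y ∈ φ.range := by
        rintro k _ ⟨x, rfl⟩
        exact ⟨⟨ι k, hmemι k⟩ * x, rfl⟩
      have hAW : ∀ y ∈ φ.range, A y ∈ φ.range := by
        rintro _ ⟨x, rfl⟩
        refine ⟨ρ.symm x * a, ?_⟩
        show ((ρ.symm x : L) : AddMonoid.End W) ((a : AddMonoid.End W) v) = A ((x : AddMonoid.End W) v)
        have e : ∀ y : L, (y : AddMonoid.End W) * A = A * ↑(ρ y) := hT
        rw [← show A v = (a : AddMonoid.End W) v from ha, ← end_mul_apply, e, ρ.apply_symm_apply]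
        rfl
      exact hscalar hns ((h.false_of_invariant (W' := φ.range)
        (show v ∈ φ.range from ⟨1, rfl⟩) hv0 hKW hAW (hBstab _ hKW hAW)).2 hcard)

end Pair

end Cfsg.Agent.OstromWagner
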