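import Cfsg.Agent.Lib.OstromWagner.InvSet

/-!
No inverse-closed additive set contains a sum `A + B` of non-zero semilinear maps for `σ` and `σ⁻¹`
(`σ² ≠ 1`): counting the members sending a short vector space into itself.
-/

set_option autoImplicit false

namespace Cfsg.Agent.OstromWagner

variable {W : Type*} [AddCommGroup W] {S : AddSubgroup (AddMonoid.End W)}
variable {K : Type*} [Field K] [Finite K] {ι : K →+* AddMonoid.End W}

/-- A pair element: `A + B` in the set, with `A`, `B` twisted by `σ`, `σ⁻¹`. -/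
structure Pair (S : AddSubgroup (AddMonoid.End W)) (ι : K →+* AddMonoid.End W) (σ : RingAut K)
    (A B : AddMonoid.End W) : Prop where
  maxField : MaxField S ι
  twA : Tw ι σ A
  twB : Tw ι σ⁻¹ B
  mem : A + B ∈ S
  neA : A ≠ 0
  sq_ne : σ * σ ≠ 1

namespace Pair

variable {σ : RingAut K} {A B : AddMonoid.End W}

omit [Finite K] in
theorem ne_one (h : Pair S ι σ A B) : σ ≠ 1 := fun e => h.sq_ne (by rw [e, mul_one])

omit [Finite K] in
theorem inv_ne_one (h : Pair S ι σ A B) : σ⁻¹ ≠ 1 := fun e => h.ne_one (inv_eq_one.1 e)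

omit [Finite K] in
theorem inv_sq_ne (h : Pair S ι σ A B) : σ⁻¹ * σ⁻¹ ≠ 1 := fun e =>
  h.sq_ne (by rw [← inv_inj, mul_inv_rev, e, inv_one])

theorem proj_sandwich (h : Pair S ι σ A B) (k : K) :
    proj ι 1 ((A + B) * ι k * (A + B)) = A * B * ι (σ⁻¹ k) + B * A * ι (σ k) := by
  classical
  have e : (A + B) * ι k * (A + B) =
      A * A * ι (σ k) + A * B * ι (σ⁻¹ k) + (B * A * ι (σ k) + B * B * ι (σ⁻¹ k)) := by
    rw [add_mul A B, add_mul, mul_add, mul_add, mul_assoc A (ι k) A, h.twA, mul_assoc A (ι k) B, h.twB,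
      mul_assoc B (ι k) A, h.twA, mul_assoc B (ι k) B, h.twB]
    simp only [mul_assoc]
  rw [e, map_add, map_add, map_add, proj_of_tw ((h.twA.mul h.twA).mul_scalar _),
    proj_of_tw ((h.twA.mul h.twB).mul_scalar _), proj_of_tw ((h.twB.mul h.twA).mul_scalar _),
    proj_of_tw ((h.twB.mul h.twB).mul_scalar _), if_neg h.sq_ne, if_pos (inv_mul_cancel σ),
    if_pos (mul_inv_cancel σ), if_neg h.inv_sq_ne, zero_add, add_zero]

theorem scalars (h : Pair S ι σ A B) : ∃ c d : K, ι c = A * B ∧ ι d = B * A := by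
  have key : ∀ k, ∃ a, ι a = A * B * ι (σ⁻¹ k) + B * A * ι (σ k) := fun k => by
    rw [← h.proj_sandwich k]
    exact h.maxField.proj_one_mem_range (h.maxField.inv.sandwich h.mem (h.maxField.mem k))
  obtain ⟨z, hz⟩ := key 1
  simp only [map_one, mul_one] at hz
  obtain ⟨k, hk⟩ : ∃ k, σ⁻¹ k ≠ σ k := by
    by_contra! h'
    exact h.sq_ne (by
      have e : σ⁻¹ = σ := RingEquiv.ext h'
      conv_lhs => rw [← e]
      exact mul_inv_cancel σ |>.symm.trans (by rw [e]) |>.symm)
  obtain ⟨a, ha⟩ := key k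
  have h1 : A * B * ι (σ⁻¹ k - σ k) = ι (a - z * σ k) := by
    rw [map_sub, map_sub, map_mul, ha, hz, mul_sub, add_mul]
    abel
  have hc : ι ((a - z * σ k) / (σ⁻¹ k - σ k)) = A * B := by
    rw [div_eq_mul_inv, map_mul, ← h1, mul_assoc, ← map_mul, mul_inv_cancel₀ (sub_ne_zero.2 hk),
      map_one, mul_one]
  exact ⟨_, z - (a - z * σ k) / (σ⁻¹ k - σ k), hc, by rw [map_sub, hc, hz, add_sub_cancel_left]⟩

theorem pair_mem (h : Pair S ι σ A B) (x : K) : A * ι x + B * ι (σ⁻¹ x) ∈ S := by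
  have hl : ∀ k y, ι k * (A * ι y + B * ι (σ⁻¹ y)) = A * ι (σ k * y) + B * ι (σ⁻¹ (k * y)) := fun k y => by
    rw [mul_add, ← mul_assoc, h.twA, mul_assoc, ← map_mul, ← mul_assoc, h.twB, mul_assoc, ← map_mul,
      ← map_mul σ⁻¹]
  have hσ : ∀ y, σ⁻¹ (σ y) = y := σ.symm_apply_apply
  let Q : Subring K :=
    { carrier := {y | ∀ x : K, A * ι x + B * ι (σ⁻¹ x) ∈ S →
          A * ι (x * y) + B * ι (σ⁻¹ (x * y)) ∈ S}
      mul_mem' := fun {a b} ha hb x hx => by
        rw [← mul_assoc]
        exact hb _ (ha x hx)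
      one_mem' := fun x hx => by rwa [mul_one]
      add_mem' := fun {a b} ha hb x hx => by
        have e := S.add_mem (ha x hx) (hb x hx)
        simp only [mul_add x, map_add, mul_add]
        convert e using 1
        abel
      zero_mem' := fun x _ => by simp [S.zero_mem]
      neg_mem' := fun {a} ha x hx => by
        have e := S.neg_mem (ha x hx)
        simp only [mul_neg, map_neg, neg_add] at e ⊢
        exact e }
  have h1 : A * ι 1 + B * ι (σ⁻¹ 1) ∈ S := by simpa using h.mem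
  have hQ := subring_eq_top h.sq_ne Q (fun k x hx => ?_) (fun k x hx => ?_) x
  · simpa using hQ 1 h1
  · have e := h.maxField.psi hx k 1
    simp only [map_one, mul_one, one_mul] at e
    rw [hl, add_mul, mul_assoc, ← map_mul, mul_assoc, ← map_mul] at e
    convert e using 1
    simp only [mul_add x, map_add, map_mul σ⁻¹, hσ, mul_add, map_mul]
    simp only [← map_mul, mul_comm (σ k) x, mul_comm (σ⁻¹ k) (σ⁻¹ x)]
    abel
  · have e := h.maxField.inv.sandwich (h.maxField.mem k) hx
    rw [hl, add_mul, mul_assoc A, mul_assoc B, ← map_mul, ← map_mul] at e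
    convert e using 4
    all_goals (try simp only [map_mul, hσ])
    all_goals ring

/-- The element attached to a pair of scalars. -/
noncomputable def elem (ι : K →+* AddMonoid.End W) (σ : RingAut K) (A B : AddMonoid.End W) (p : K × K) :
    AddMonoid.End W :=
  ι p.1 + (A * ι p.2 + B * ι (σ⁻¹ p.2))

omit [Finite K] in
theorem elem_sub (p q : K × K) : elem ι σ A B p - elem ι σ A B q = elem ι σ A B (p - q) := by
  simp only [elem, Prod.fst_sub, Prod.snd_sub, map_sub, mul_sub]
  abel

theorem elem_mem (h : Pair S ι σ A B) (p : K × K) : elem ι σ A B p ∈ S :=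
  S.add_mem (h.maxField.mem _) (h.pair_mem _)

open scoped Classical in
theorem proj_elem (h : Pair S ι σ A B) (τ : RingAut K) (p : K × K) :
    proj ι τ (elem ι σ A B p) = (if 1 = τ then ι p.1 else 0) +
      ((if σ = τ then A * ι p.2 else 0) + if σ⁻¹ = τ then B * ι (σ⁻¹ p.2) else 0) := by
  rw [elem, map_add, map_add, proj_of_tw (Tw.scalar _), proj_of_tw (h.twA.mul_scalar _),
    proj_of_tw (h.twB.mul_scalar _)]

theorem elem_injective [Nontrivial W] (h : Pair S ι σ A B) : Function.Injective (elem ι σ A B) := by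
  classical
  intro p q e
  have h0 : elem ι σ A B (p - q) = 0 := by rw [← elem_sub, e, sub_self]
  have h1 := h.proj_elem 1 (p - q)
  rw [h0, map_zero, if_pos rfl, if_neg h.ne_one, if_neg h.inv_ne_one, add_zero, add_zero] at h1
  have h2 := h.proj_elem σ (p - q)
  rw [h0, map_zero, if_neg (Ne.symm h.ne_one), if_pos rfl,
    if_neg fun e' => h.sq_ne (by nth_rewrite 1 [← e']; exact inv_mul_cancel σ), zero_add, add_zero] at h2
  have hx : (p - q).2 = 0 := by
    by_contra hx
    apply h.neA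
    have := congrArg (· * ι ((p - q).2)⁻¹) h2
    simp only [mul_assoc, ← map_mul, mul_inv_cancel₀ hx, map_one, mul_one, zero_mul] at this
    exact this.symm
  have hk : (p - q).1 = 0 := ι.injective (by rw [← h1, map_zero])
  exact sub_eq_zero.1 (Prod.ext hk hx)

/-- An invariant subgroup is too large to be small. -/
theorem false_of_invariant [Nontrivial W] [Finite W] (h : Pair S ι σ A B) {W' : AddSubgroup W} {v : W}
    (hv : v ∈ W') (hv0 : v ≠ 0) (hK : ∀ k, ∀ y ∈ W', ι k y ∈ W') (hA : ∀ y ∈ W', A y ∈ W')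
    (hB : ∀ y ∈ W', B y ∈ W') :
    (Nat.card W' ≤ Nat.card K → False) ∧
      (Nat.card W' ≤ Nat.card K * Nat.card K → (A + B) * (A + B) ∈ Set.range (elem ι σ A B)) := by
  have hmem : ∀ p, elem ι σ A B p v ∈ W' := fun p =>
    W'.add_mem (hK _ v hv) (W'.add_mem (hA _ (hK _ v hv)) (hB _ (hK _ v hv)))
  have hinj : ∀ M ∈ S, ∀ M' ∈ S, M v = M' v → M = M' := fun M hM M' hM' e =>
    sub_eq_zero.1 (h.maxField.inv.eq_zero_of_apply (S.sub_mem hM hM') hv0
      (show M v - M' v = 0 by rw [e, sub_self]))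
  let f : K × K → W' := fun p => ⟨elem ι σ A B p v, hmem p⟩
  have hf : Function.Injective f := fun p q e =>
    h.elem_injective (hinj _ (h.elem_mem p) _ (h.elem_mem q) (congrArg Subtype.val e))
  have hcard := Nat.card_le_card_of_injective f hf
  rw [Nat.card_prod] at hcard
  have hK1 : 1 < Nat.card K := Finite.one_lt_card
  constructor
  · intro hle
    nlinarith
  · intro hle
    have hN : ((A + B) * (A + B)) v ∈ W' := by
      have h1 : (A + B) v ∈ W' := W'.add_mem (hA v hv) (hB v hv)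
      exact W'.add_mem (hA _ h1) (hB _ h1)
    have hbij : Function.Bijective f :=
      (Nat.bijective_iff_injective_and_card f).2 ⟨hf, by rw [Nat.card_prod]; omega⟩
    obtain ⟨p, hp⟩ := hbij.2 ⟨_, hN⟩
    exact ⟨p, hinj _ (h.elem_mem p) _ (by simpa [sq] using h.maxField.inv.pow_mem h.mem 2)
      (congrArg Subtype.val hp)⟩

theorem prod_scalar (h : Pair S ι σ A B) : ∀ i : ℕ, ∃ g, ι g = A ^ i * B ^ i
  | 0 => ⟨1, by simp⟩
  | i + 1 => by
    obtain ⟨g, hg⟩ := h.prod_scalar i
    obtain ⟨c, d, hc, -⟩ := h.scalars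
    refine ⟨c * σ⁻¹ g, ?_⟩
    rw [map_mul, hc, mul_assoc, ← h.twB, hg, pow_succ', pow_succ]
    simp only [mul_assoc]

omit [Finite K] in
theorem pow_expand {c d : K} (h : Pair S ι σ A B) (hc : ι c = A * B) (hd : ι d = B * A) :
    ∀ i : ℕ, ∃ R ∈ AddSubgroup.closure
      {x | ∃ j, j < i + 1 ∧ ∃ a, x = A ^ j * ι a ∨ x = B ^ j * ι a},
      (A + B) ^ (i + 1) = A ^ (i + 1) + B ^ (i + 1) + R := by
  intro i
  induction i with
  | zero => exact ⟨0, zero_mem _, by simp⟩
  | succ i ih =>
    obtain ⟨R, hR, hpow⟩ := ih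
    set M := AddSubgroup.closure {x | ∃ j, j < i + 1 + 1 ∧ ∃ a, x = A ^ j * ι a ∨ x = B ^ j * ι a}
    have hA : ∀ j < i + 1 + 1, ∀ a, A ^ j * ι a ∈ M := fun j hj a =>
      AddSubgroup.subset_closure ⟨j, hj, a, Or.inl rfl⟩
    have hB : ∀ j < i + 1 + 1, ∀ a, B ^ j * ι a ∈ M := fun j hj a =>
      AddSubgroup.subset_closure ⟨j, hj, a, Or.inr rfl⟩
    have hAB : ∀ j < i + 1 + 1, ∀ a, A ^ j * B * ι a ∈ M := fun j hj a => by
      cases j with
      | zero => simpa using hB 1 (by omega) a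
      | succ j =>
        rw [pow_succ, mul_assoc (A ^ j), ← hc, mul_assoc, ← map_mul]
        exact hA j (by omega) _
    have hBA : ∀ j < i + 1 + 1, ∀ a, B ^ j * A * ι a ∈ M := fun j hj a => by
      cases j with
      | zero => simpa using hA 1 (by omega) a
      | succ j =>
        rw [pow_succ, mul_assoc (B ^ j), ← hd, mul_assoc, ← map_mul]
        exact hB j (by omega) _
    refine ⟨A ^ (i + 1) * B + B ^ (i + 1) * A + R * (A + B), ?_, ?_⟩
    · clear hpow
      refine add_mem (add_mem ?_ ?_) ?_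
      · simpa using hAB (i + 1) (by omega) 1
      · simpa using hBA (i + 1) (by omega) 1
      · induction hR using AddSubgroup.closure_induction with
        | mem x hx =>
          obtain ⟨j, hj, a, rfl | rfl⟩ := hx <;>
            rw [mul_add, mul_assoc _ (ι a) A, h.twA, mul_assoc _ (ι a) B, h.twB, ← mul_assoc, ← mul_assoc]
          · refine add_mem ?_ (hAB j (by omega) _)
            rw [← pow_succ]
            exact hA _ (by omega) _
          · refine add_mem (hBA j (by omega) _) ?_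
            rw [← pow_succ]
            exact hB _ (by omega) _
        | zero => simp [zero_mem]
        | add x y _ _ hx hy => rw [add_mul]; exact add_mem hx hy
        | neg x _ hx => rw [neg_mul]; exact neg_mem hx
    · rw [pow_succ _ (i + 1), hpow, pow_succ A (i + 1), pow_succ B (i + 1), add_mul, add_mul, mul_add,
        mul_add]
      abel

/-- The quadratic equation of `A ^ r`. -/
theorem quadratic (h : Pair S ι σ A B) :
    ∃ z g : K, A ^ orderOf σ + B ^ orderOf σ = ι z ∧ A ^ orderOf σ * B ^ orderOf σ = ι g ∧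
      A ^ orderOf σ * A ^ orderOf σ - ι z * A ^ orderOf σ + ι g = 0 := by
  classical
  obtain ⟨c, d, hc, hd⟩ := h.scalars
  obtain ⟨i, hi⟩ : ∃ i, orderOf σ = i + 1 := ⟨orderOf σ - 1, by have := orderOf_pos σ; omega⟩
  have hσr : σ ^ (i + 1) = 1 := by rw [← hi, pow_orderOf_eq_one]
  have hσr' : σ⁻¹ ^ (i + 1) = 1 := by rw [inv_pow, hσr, inv_one]
  obtain ⟨R, hR, hpow⟩ := h.pow_expand hc hd i
  have hR' : ∃ a, ι a = proj ι 1 R := by
    clear hpow
    induction hR using AddSubgroup.closure_induction with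
    | mem x hx =>
      obtain ⟨j, hj, a, hx⟩ := hx
      rcases eq_or_ne j 0 with rfl | hj0
      · refine ⟨a, ?_⟩
        have : x = ι a := by rcases hx with rfl | rfl <;> simp
        rw [this, proj_of_tw (Tw.scalar _), if_pos rfl]
      · refine ⟨0, ?_⟩
        have hne : σ ^ j ≠ 1 := pow_ne_one_of_lt_orderOf hj0 (by omega)
        rcases hx with rfl | rfl
        · rw [proj_of_tw ((h.twA.pow j).mul_scalar a), if_neg hne, map_zero]
        · rw [proj_of_tw ((h.twB.pow j).mul_scalar a),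
            if_neg (by rw [inv_pow, inv_eq_one]; exact hne), map_zero]
    | zero => exact ⟨0, by simp⟩
    | add x y _ _ hx hy =>
      obtain ⟨a, ha⟩ := hx
      obtain ⟨b, hb⟩ := hy
      exact ⟨a + b, by rw [map_add, map_add, ha, hb]⟩
    | neg x _ hx =>
      obtain ⟨a, ha⟩ := hx
      exact ⟨-a, by rw [map_neg, map_neg, ha]⟩
  obtain ⟨a, ha⟩ := hR'
  obtain ⟨t, ht⟩ := h.maxField.proj_one_mem_range (h.maxField.inv.pow_mem h.mem (i + 1))
  rw [hpow, map_add, map_add, proj_of_tw (h.twA.pow _), proj_of_tw (h.twB.pow _), if_pos hσr, if_pos hσr',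
    ← ha] at ht
  obtain ⟨g, hg⟩ := h.prod_scalar (i + 1)
  rw [hi]
  refine ⟨t - a, g, by rw [map_sub, ht]; abel, hg.symm, ?_⟩
  have hcomm : ι (t - a) * A ^ (i + 1) = A ^ (i + 1) * ι (t - a) := by
    rw [h.twA.pow (i + 1) (t - a), hσr]
    rfl
  rw [hcomm, map_sub, ht, hg, mul_sub, mul_add, mul_add]
  abel

end Pair

end Cfsg.Agent.OstromWagner
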