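import Mathlib
import Cfsg.Agent.EqLemmas

/-!
Twisted centralisers of a finite field inside an endomorphism ring.

For a ring map `ι : L →+* AddMonoid.End W` an endomorphism `A` is twisted by an automorphism `σ` of `L` when
`ι k * A = A * ι (σ k)`. The maps `proj ι σ` are the projections of an arbitrary endomorphism on the
twisted parts, and `exists_eigen` is Hilbert's Theorem 90 in the form of an eigenvector for a semilinear map.
-/

set_option autoImplicit false

namespace Cfsg.Agent.OstromWagner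

/-- The automorphisms of a finite ring form a finite type. -/
instance instFiniteRingAut {L : Type*} [Semiring L] [Finite L] : Finite (RingAut L) :=
  Finite.of_injective (fun σ : RingAut L => (σ : L → L)) DFunLike.coe_injective

theorem end_mul_apply {W : Type*} [AddCommGroup W] (A B : AddMonoid.End W) (x : W) :
    (A * B) x = A (B x) := rfl

variable {L : Type*} [Field L] [Finite L]

theorem norm_surjective_aut (σ : RingAut L) {c : L} (hc : σ c = c) :
    ∃ x : L, ∏ i ∈ Finset.range (orderOf σ), (σ ^ i) x = c := by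
  classical
  have : Fintype (RingAut L) := Fintype.ofFinite _
  let H : Subgroup (RingAut L) := Subgroup.zpowers σ
  have : FaithfulSMul H L := ⟨fun h => Subtype.ext (RingEquiv.ext h)⟩
  let F₀ := FixedPoints.subfield H L
  have : Finite F₀ := inferInstance
  have hc' : c ∈ F₀ := by
    rintro ⟨g, hg⟩
    obtain ⟨k, rfl⟩ := (isOfFinOrder_of_finite σ).mem_powers_iff_mem_zpowers.2 hg
    show (σ ^ k) c = c
    induction k with
    | zero => rfl
    | succ k ih => rw [pow_succ]; show (σ ^ k) (σ c) = c; rw [hc, ih (pow_mem (Subgroup.mem_zpowers σ) k)]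
  obtain ⟨x, hx⟩ := FiniteField.norm_surjective (K := F₀) (K' := L) ⟨c, hc'⟩
  refine ⟨x, ?_⟩
  have h := Algebra.norm_eq_prod_automorphisms F₀ x
  rw [hx] at h
  let e := Equiv.ofBijective _ (FixedPoints.toAlgAut_bijective H L)
  rw [← e.prod_comp] at h
  let e' := finEquivZPowers (isOfFinOrder_of_finite σ)
  rw [← e'.prod_comp] at h
  rw [Finset.prod_range fun i => (σ ^ i) x]
  exact h.symm.trans rfl

theorem sum_ratio [Fintype Lˣ] (σ τ : RingAut L) [Decidable (σ = τ)] :
    (∑ k : Lˣ, σ (k : L) * (τ (k : L))⁻¹) = if σ = τ then -1 else 0 := by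
  classical
  have : Fintype L := Fintype.ofFinite L
  split_ifs with h
  · subst h
    have hne : ∀ k : Lˣ, σ (k : L) * (σ (k : L))⁻¹ = 1 := fun k =>
      mul_inv_cancel₀ (by simp)
    rw [Finset.sum_congr rfl fun k _ => hne k]
    rw [Finset.sum_const, Finset.card_univ, Fintype.card_eq_nat_card, Nat.card_units,
      ← Fintype.card_eq_nat_card, nsmul_one, Nat.cast_sub Fintype.card_pos,
      FiniteField.cast_card_eq_zero, Nat.cast_one, zero_sub]
  · obtain ⟨y, hy⟩ : ∃ y : L, σ y ≠ τ y := by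
      by_contra h'
      push Not at h'
      exact h (RingEquiv.ext h')
    have hy0 : y ≠ 0 := by
      rintro rfl
      simp at hy
    set s := ∑ k : Lˣ, σ (k : L) * (τ (k : L))⁻¹ with hs
    have h1 : σ y * (τ y)⁻¹ * s = s := by
      rw [hs, Finset.mul_sum, ← Equiv.sum_comp (Equiv.mulLeft (Units.mk0 y hy0))
        fun k : Lˣ => σ (k : L) * (τ (k : L))⁻¹]
      exact Finset.sum_congr rfl fun k _ => by
        simp only [Equiv.coe_mulLeft, Units.val_mul, Units.val_mk0, map_mul, mul_inv]
        ring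
    by_contra hs0
    have h2 : σ y * (τ y)⁻¹ = 1 := mul_eq_right₀ hs0 |>.1 h1
    apply hy
    rwa [mul_inv_eq_one₀ (by simp [hy0])] at h2

variable {W : Type*} [AddCommGroup W]

/-- `A` is semilinear for the automorphism `σ` with respect to the scalar action `ι`. -/
def Tw (ι : L →+* AddMonoid.End W) (σ : RingAut L) (A : AddMonoid.End W) : Prop :=
  ∀ k : L, ι k * A = A * ι (σ k)

variable {ι : L →+* AddMonoid.End W}

omit [Finite L] in
theorem Tw.mul {σ τ : RingAut L} {A B : AddMonoid.End W} (hA : Tw ι σ A) (hB : Tw ι τ B) :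
    Tw ι (τ * σ) (A * B) := by
  intro k
  rw [← mul_assoc, hA k, mul_assoc, hB (σ k), ← mul_assoc]
  rfl

omit [Finite L] in
theorem Tw.scalar (a : L) : Tw ι 1 (ι a) := fun k => by
  rw [← map_mul, ← map_mul, mul_comm]
  rfl

omit [Finite L] in
theorem Tw.mul_scalar {σ : RingAut L} {A : AddMonoid.End W} (hA : Tw ι σ A) (a : L) :
    Tw ι σ (A * ι a) := by
  simpa using hA.mul (Tw.scalar a)

omit [Finite L] in
theorem Tw.pow {σ : RingAut L} {A : AddMonoid.End W} (hA : Tw ι σ A) (i : ℕ) :
    Tw ι (σ ^ i) (A ^ i) := by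
  induction i with
  | zero => simpa using Tw.scalar (ι := ι) 1
  | succ i ih =>
    rw [pow_succ' σ, pow_succ (A)]
    exact ih.mul hA

omit [Finite L] in
theorem Tw.apply {σ : RingAut L} {A : AddMonoid.End W} (hA : Tw ι σ A) (k : L) (v : W) :
    A (ι k v) = ι (σ.symm k) (A v) := by
  have h := DFunLike.congr_fun (hA (σ.symm k)) v
  simp only [AddMonoid.End.coe_mul, Function.comp_apply, RingEquiv.apply_symm_apply] at h
  exact h.symm

/-- The projection on the part twisted by `σ`. -/
noncomputable def proj (ι : L →+* AddMonoid.End W) (σ : RingAut L) :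
    AddMonoid.End W →+ AddMonoid.End W :=
  letI : Fintype Lˣ := Fintype.ofFinite _
  AddMonoidHom.mk' (fun N => -∑ k : Lˣ, ι k * N * ι (σ (k : L))⁻¹) fun a b => by
    simp only [mul_add, add_mul, Finset.sum_add_distrib]
    abel

theorem proj_def [Fintype Lˣ] (σ : RingAut L) (N : AddMonoid.End W) :
    proj ι σ N = -∑ k : Lˣ, ι k * N * ι (σ (k : L))⁻¹ := by
  simp only [proj, AddMonoidHom.mk'_apply]
  congr 2
  exact congrArg _ (Subsingleton.elim _ _)

theorem tw_proj (σ : RingAut L) (N : AddMonoid.End W) : Tw ι σ (proj ι σ N) := by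
  classical
  have : Fintype Lˣ := Fintype.ofFinite _
  intro a
  rcases eq_or_ne a 0 with rfl | ha
  · simp
  rw [proj_def, mul_neg, neg_mul, Finset.mul_sum, Finset.sum_mul]
  congr 1
  refine Fintype.sum_equiv (Equiv.mulLeft (Units.mk0 a ha)) _ _ fun k => ?_
  simp only [Equiv.coe_mulLeft, Units.val_mul, Units.val_mk0]
  rw [mul_assoc (ι (a * ↑k) * N), ← map_mul, map_mul σ, ← mul_assoc (ι a), ← mul_assoc (ι a), ← map_mul]
  congr 2
  field_simp [show σ a ≠ 0 by simpa using ha]

open scoped Classical in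
theorem proj_of_tw {σ τ : RingAut L} {A : AddMonoid.End W} (hA : Tw ι σ A) :
    proj ι τ A = if σ = τ then A else 0 := by
  have : Fintype Lˣ := Fintype.ofFinite _
  rw [proj_def]
  have h : ∀ k : Lˣ, ι k * A * ι (τ (k : L))⁻¹ = A * ι (σ (k : L) * (τ (k : L))⁻¹) := fun k => by
    rw [hA, mul_assoc, ← map_mul]
  rw [Finset.sum_congr rfl fun k _ => h k, ← Finset.mul_sum, ← map_sum, sum_ratio]
  split_ifs <;> simp

theorem mem_range_intCast {t : L} (h : ∀ σ : RingAut L, σ t = t) : ∃ n : ℤ, (n : L) = t := by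
  obtain ⟨p, _⟩ := CharP.exists L
  have hp : p.Prime := (CharP.char_is_prime_or_zero L p).resolve_right fun h0 => by
    subst h0
    have := CharP.charP_to_charZero L
    exact not_finite L
  have := Fact.mk hp
  have h1 : t ^ p = t := h (frobeniusEquiv L p)
  have h2 : t ∈ (⊥ : Subfield L) := (Subfield.mem_bot_iff_pow_eq_self L p).2 h1
  let _ := ZMod.algebra L p
  have h3 : t ∈ (algebraMap (ZMod p) L).fieldRange :=
    (bot_le : (⊥ : Subfield L) ≤ (algebraMap (ZMod p) L).fieldRange) h2
  obtain ⟨z, rfl⟩ := h3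
  exact ⟨(z.val : ℤ), by rw [Int.cast_natCast, ← map_natCast (algebraMap (ZMod p) L), ZMod.natCast_zmod_val]⟩

theorem sum_proj [Fintype (RingAut L)] (N : AddMonoid.End W) :
    ∑ σ : RingAut L, proj ι σ N = N := by
  classical
  have : Fintype Lˣ := Fintype.ofFinite _
  simp only [proj_def, Finset.sum_neg_distrib]
  rw [Finset.sum_comm]
  have h : ∀ k : Lˣ, ∑ σ : RingAut L, ι k * N * ι (σ (k : L))⁻¹ =
      ι ((k : L) * ∑ σ : RingAut L, (σ (k : L))⁻¹) * N := fun k => by
    rw [← Finset.mul_sum, ← map_sum]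
    obtain ⟨n, hn⟩ := mem_range_intCast (t := ∑ σ : RingAut L, (σ (k : L))⁻¹) fun τ => by
      rw [map_sum]
      refine Fintype.sum_equiv (Equiv.mulLeft τ) _ _ fun σ => ?_
      rw [map_inv₀]
      rfl
    rw [← hn, map_mul, map_intCast, mul_assoc, mul_assoc]
    congr 1
    exact (Int.cast_commute n N).eq.symm
  rw [Finset.sum_congr rfl fun k _ => h k, ← Finset.sum_mul, ← map_sum]
  simp only [Finset.mul_sum]
  rw [Finset.sum_comm]
  have h2 : ∀ σ : RingAut L, (∑ k : Lˣ, (k : L) * (σ (k : L))⁻¹) = if σ = 1 then -1 else 0 := fun σ => by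
    have := sum_ratio (1 : RingAut L) σ
    simp only [eq_comm (a := (1 : RingAut L))] at this
    exact this
  rw [Finset.sum_congr rfl fun σ _ => h2 σ, Finset.sum_ite_eq', if_pos (Finset.mem_univ _)]
  simp

/-- Hilbert 90: a semilinear map whose order-th power has an eigenvalue fixed by the automorphism
has an eigenvector. -/
theorem exists_eigen {ρ : RingAut L} {T : AddMonoid.End W} (hT : Tw ι ρ T) {W₀ : AddSubgroup W}
    (hK : ∀ k : L, ∀ x ∈ W₀, ι k x ∈ W₀) (hTW : ∀ x ∈ W₀, T x ∈ W₀) {w : W} (hw : w ∈ W₀)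
    (hw0 : w ≠ 0) {μ : L} (hμ0 : μ ≠ 0) (hμ : ρ μ = μ) (heig : (T ^ orderOf ρ) w = ι μ w) :
    ∃ v ∈ W₀, v ≠ 0 ∧ ∃ a : L, T v = ι a v := by
  classical
  have : Fintype Lˣ := Fintype.ofFinite _
  set r := orderOf ρ with hr
  have hr0 : 0 < r := orderOf_pos ρ
  obtain ⟨l, hl⟩ := norm_surjective_aut ρ (c := μ⁻¹) (by rw [map_inv₀, hμ])
  rw [← hr] at hl
  have hl0 : l ≠ 0 := by
    rintro rfl
    simp only [map_zero, Finset.prod_const, Finset.card_range, zero_pow hr0.ne'] at hl
    exact inv_ne_zero hμ0 hl.symm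
  set T' := T * ι l with hT'
  have hTw' : Tw ι ρ T' := hT.mul_scalar l
  have hpow : ∀ i, T' ^ i = T ^ i * ι (∏ j ∈ Finset.range i, (ρ ^ j) l) := by
    intro i
    induction i with
    | zero => simp
    | succ i ih =>
      rw [pow_succ, ih, hT', pow_succ, mul_assoc, ← mul_assoc (ι _) T, hT, mul_assoc T, ← map_mul,
        ← mul_assoc, Finset.prod_range_succ', map_prod]
      simp [pow_succ']
  have hfix : (T' ^ r) w = w := by
    have hc : ι (∏ j ∈ Finset.range r, (ρ ^ j) l) * T ^ r = T ^ r * ι (∏ j ∈ Finset.range r, (ρ ^ j) l) := by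
      have := hT.pow r (∏ j ∈ Finset.range r, (ρ ^ j) l)
      rwa [hr, pow_orderOf_eq_one, ← hr] at this
    rw [hpow, ← hc, AddMonoid.End.coe_mul, Function.comp_apply, heig, hl, ← end_mul_apply,
      ← map_mul, inv_mul_cancel₀ hμ0, map_one]
    rfl
  have hT'W : ∀ i, ∀ x ∈ W₀, (T' ^ i) x ∈ W₀ := by
    intro i
    induction i with
    | zero => exact fun x hx => hx
    | succ i ih =>
      intro x hx
      rw [pow_succ', AddMonoid.End.coe_mul, Function.comp_apply]
      exact hTW _ (hK l _ (ih x hx))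
  let f : L → W := fun a => ∑ i ∈ Finset.range r, (T' ^ i) (ι a w)
  have hfW : ∀ a, f a ∈ W₀ := fun a => sum_mem fun i _ => hT'W i _ (hK a w hw)
  have hff : ∀ a, T' (f a) = f a := by
    intro a
    have hra : (T' ^ r) (ι a w) = ι a w := by
      have := DFunLike.congr_fun (hTw'.pow r a) w
      rw [hr, pow_orderOf_eq_one, ← hr] at this
      simp only [AddMonoid.End.coe_mul, Function.comp_apply] at this
      rw [show ((1 : RingAut L) a) = a from rfl] at this
      rw [← this, hfix]
    have h1 := Finset.sum_range_succ (fun i => (T' ^ i) (ι a w)) r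
    rw [Finset.sum_range_succ', hra] at h1
    simp only [pow_zero, AddMonoid.End.coe_one, id, add_right_cancel_iff] at h1
    rw [map_sum]
    refine Eq.trans (Finset.sum_congr rfl fun i _ => ?_) h1
    rw [pow_succ', AddMonoid.End.coe_mul, Function.comp_apply]
    rfl
  obtain ⟨a, ha⟩ : ∃ a, f a ≠ 0 := by
    by_contra h
    push Not at h
    have hsum : ∑ k : Lˣ, ι (k : L)⁻¹ (f k) = 0 := Finset.sum_eq_zero fun k _ => by rw [h, map_zero]
    simp only [f, map_sum] at hsum
    rw [Finset.sum_comm] at hsum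
    have h2 : ∀ i ∈ Finset.range r, ∑ k : Lˣ, ι (k : L)⁻¹ ((T' ^ i) (ι (k : L) w)) =
        if i = 0 then -w else 0 := by
      intro i hi
      have e : ∀ k : Lˣ, ι (k : L)⁻¹ ((T' ^ i) (ι (k : L) w)) =
          (T' ^ i) (ι ((1 : RingAut L) (k : L) * ((ρ ^ i) (k : L))⁻¹) w) := fun k => by
        have := DFunLike.congr_fun (hTw'.pow i (k : L)⁻¹) (ι (k : L) w)
        simp only [AddMonoid.End.coe_mul, Function.comp_apply] at this
        rw [this, ← end_mul_apply (ι _) (ι _), ← map_mul, map_inv₀, mul_comm]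
        rfl
      have hs : ∀ c : Lˣ → L, ∑ k, ι (c k) w = ι (∑ k, c k) w := fun c => by
        rw [map_sum]
        exact (AddMonoidHom.finsetSum_apply (fun k => ι (c k)) Finset.univ w).symm
      rw [Finset.sum_congr rfl fun k _ => e k, ← map_sum, hs, sum_ratio]
      rcases eq_or_ne i 0 with rfl | hi0
      · simp
        rfl
      · rw [if_neg fun e' : (1 : RingAut L) = ρ ^ i => pow_ne_one_of_lt_orderOf hi0
          (by simpa [hr] using hi) e'.symm, if_neg hi0]
        simp
    rw [Finset.sum_congr rfl h2, Finset.sum_ite_eq', if_pos (Finset.mem_range.2 hr0), neg_eq_zero] at hsum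
    exact hw0 hsum
  refine ⟨ι l (f a), hK l _ (hfW a), fun h => ha ?_, l⁻¹, ?_⟩
  · rw [← hff a, hT', AddMonoid.End.coe_mul, Function.comp_apply, h, map_zero]
  · rw [← end_mul_apply (ι l⁻¹), ← map_mul, inv_mul_cancel₀ hl0, map_one]
    exact hff a

end Cfsg.Agent.OstromWagner
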